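import Groth.Agent.AdeqLib.CechSite

/-!
# Acyclicity of adequate modules on affine objects
-/

set_option autoImplicit false
set_option linter.style.haveILetI false
set_option linter.unusedSectionVars false
set_option backward.isDefEq.respectTransparency false
set_option backward.isDefEq.respectTransparency.types false

universe u

open CategoryTheory Limits TensorProduct Opposite AlgebraicGeometry
open Groth.Agent.SiteCoh

namespace Groth.Agent.AdeqLib

open Adeq

noncomputable section

variable (K : Precoverage Scheme.{u}) [BigSite.OSh K] [HasAffRef K] (S : Scheme.{u})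
  [∀ U : Over S, HasFiniteProducts (Over U)]

/-- A covering of an affine object by a finite faithfully flat family of algebras. -/
def AffCov (U : Over S) (ι : Type (u + 1)) (Y : ι → Over U) : Prop :=
  ∃ (R : CommRingCat.{u}) (a : Spec R ⟶ S) (e : Over.mk a ≅ U) (A : ι → Alg R),
    Finite ι ∧ FFam A ∧ CoversBase K A ∧ Y = fun i => (algTo a e).obj (op (A i))

/-- Affine objects and their finite faithfully flat coverings. -/
def affBasis : EtCechLib.Basis.{u + 1} (QuotSh.J K S) where
  B U := IsAffine U.left
  Cov := AffCov K S
  mem U ι Y := by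
    rintro ⟨R, a, e, A, _, _, hAc, rfl⟩
    exact algTo_cover a e hAc
  inter U ι Y := by
    rintro ⟨R, a, e, A, _, _, _, rfl⟩ p b
    let g := EtCechLib.interHom (algTo a e) (opFam A) b
    haveI : IsAffine (((algTo a e).obj (Cech.inter (opFam A) b)).left).left :=
      inferInstanceAs (IsAffine (Spec (CommRingCat.of ((Cech.inter (opFam A) b).unop))))
    haveI : IsIso g.left.left := inferInstanceAs
      (IsIso ((Over.forget U ⋙ Over.forget S).map g))
    exact IsAffine.of_isIso g.left.left
  refine_ U hU T hT := by
    haveI := hU
    obtain ⟨R, a, ⟨e⟩⟩ := exists_affine_presentation U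
    obtain ⟨ι, hι, A, hA, hAc, hAT⟩ := exists_affine_family (K := K) a e hT
    exact ⟨ι, fun i => (algTo a e).obj (op (A i)), ⟨R, a, e, A, hι, hA, hAc, rfl⟩, hAT⟩

variable {K S}

theorem affBasis_acyclic [K.IsStableUnderBaseChange] {M : BigSite.Mod K S}
    (hM : adequateMod K S M) : (affBasis K S).Acyclic ((BigSite.toAbMod K S).obj M) := by
  rintro U ι Y ⟨R, a, e, A, hι, hA, _, rfl⟩ p
  exact isZero_cech a e hM hA p

/-- Higher cohomology of an adequate module on an affine base vanishes. -/
theorem subsingleton_HMod [K.IsStableUnderBaseChange] [IsAffine S] {M : BigSite.Mod K S}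
    (hM : adequateMod K S M) (n : ℕ) : Subsingleton (BigSite.HMod K S M (n + 1)) :=
  (affBasis K S).subsingleton_ext
    (fun g hg => EtCechLib.exists_lift_const (Over.mkIdTerminal (X := S)) g
      (hg (Over.mk (𝟙 S)) (inferInstanceAs (IsAffine S))))
    (affBasis_acyclic hM) n

end

end Groth.Agent.AdeqLib
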