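import Groth.Agent.AdeqLib.Split
import Mathlib.CategoryTheory.Adjunction.Comma
import Mathlib.CategoryTheory.Preadditive.Injective.Basic
import Mathlib.CategoryTheory.Abelian.Basic

/-!
# The coreflector and injectives of adequate functors
-/

set_option autoImplicit false

universe u

open CategoryTheory Limits TensorProduct

namespace Groth.Agent.AdeqLib

open Adeq

noncomputable section

variable {A : Type u} [CommRing A]

/-- Transporting a kernel presentation along isomorphisms of the modules. -/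
theorem IsKer.congr {F : MVF A} {M N M' N' : ModuleCat.{u + 1} A} {j : F ⟶ uO M} {g : M ⟶ N}
    (hj : IsKer j g) (e : M ≅ M') (e' : N ≅ N') :
    IsKer (j ≫ (underline A).map e.hom) (e.inv ≫ g ≫ e'.hom) := by
  have h1 : ∀ (B : Alg A) (y : B ⊗[A] M), e.inv.hom.baseChange B (e.hom.hom.baseChange B y) = y :=
    fun B y => by
      rw [← baseChange_comp_apply, e.hom_inv_id, ModuleCat.hom_id, LinearMap.baseChange_id,
        LinearMap.id_apply]
  have h2 : ∀ (B : Alg A) (y : B ⊗[A] M'), e.hom.hom.baseChange B (e.inv.hom.baseChange B y) = y :=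
    fun B y => by
      rw [← baseChange_comp_apply, e.inv_hom_id, ModuleCat.hom_id, LinearMap.baseChange_id,
        LinearMap.id_apply]
  have h3 : ∀ (B : Alg A) (y : B ⊗[A] N), e'.inv.hom.baseChange B (e'.hom.hom.baseChange B y) = y :=
    fun B y => by
      rw [← baseChange_comp_apply, e'.hom_inv_id, ModuleCat.hom_id, LinearMap.baseChange_id,
        LinearMap.id_apply]
  refine ⟨fun B x y h => ?_, fun B z => ⟨fun hz => ?_, ?_⟩⟩
  · rw [emb_comp_map, emb_comp_map] at h
    refine hj.inj B ?_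
    rw [← h1 B (emb j B x), h, h1]
  · rw [baseChange_comp_apply, baseChange_comp_apply] at hz
    have hz' : g.hom.baseChange B (e.inv.hom.baseChange B z) = 0 := by
      rw [← h3 B (g.hom.baseChange B (e.inv.hom.baseChange B z)), hz, map_zero]
    obtain ⟨x, hx⟩ := (hj.exact B _).mp hz'
    exact ⟨x, by rw [emb_comp_map, hx, h2]⟩
  · rintro ⟨x, rfl⟩
    rw [emb_comp_map, baseChange_comp_apply, baseChange_comp_apply, h1, hj.comp_zero, map_zero]

/-- Indices of a set of representatives of the linearly adequate functors. -/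
structure LinIndex (A : Type u) [CommRing A] : Type u where
  n : ℕ
  m : ℕ
  f : (Fin n → A) →ₗ[A] (Fin m → A)

/-- A free module of given rank, one universe up. -/
abbrev freeMod (A : Type u) [CommRing A] (n : ℕ) : ModuleCat.{u + 1} A :=
  ModuleCat.of A (ULift.{u + 1} (Fin n → A))

/-- The map of free modules of an index. -/
def LinIndex.hom (i : LinIndex A) : freeMod A i.n ⟶ freeMod A i.m :=
  ModuleCat.ofHom (ULift.moduleEquiv.symm.toLinearMap.comp (i.f.comp ULift.moduleEquiv.toLinearMap))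

/-- The linearly adequate functor of an index. -/
def LinIndex.obj (i : LinIndex A) : MVF A := kernel ((underline A).map i.hom)

/-- Its embedding. -/
def LinIndex.emb' (i : LinIndex A) : i.obj ⟶ uO (freeMod A i.n) :=
  kernel.ι ((underline A).map i.hom)

theorem LinIndex.isKer (i : LinIndex A) : IsKer i.emb' i.hom := isKer_kernel i.hom

theorem LinIndex.adequate_obj (i : LinIndex A) : adequate A i.obj :=
  adequate_iff.mpr ⟨_, _, i.hom, i.emb', i.isKer⟩

instance freeMod_finite (n : ℕ) : Module.Finite A (freeMod A n) :=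
  inferInstanceAs (Module.Finite A (ULift.{u + 1} (Fin n → A)))

instance freeMod_free (n : ℕ) : Module.Free A (freeMod A n) :=
  inferInstanceAs (Module.Free A (ULift.{u + 1} (Fin n → A)))

theorem exists_freeMod_iso (P : ModuleCat.{u + 1} A) [Module.Finite A P] [Module.Free A P] :
    ∃ n, Nonempty (P ≅ freeMod A n) := by
  classical
  let b : Module.Basis (Fin (Fintype.card (Module.Free.ChooseBasisIndex A P))) A P :=
    (Module.Free.chooseBasis A P).reindex (Fintype.equivFin _)
  exact ⟨_, ⟨LinearEquiv.toModuleIso (b.equivFun.trans ULift.moduleEquiv.symm)⟩⟩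

/-- The indexed linearly adequate functors cover every adequate functor. -/
theorem exists_index_cover {F : MVF A} (hF : adequate A F) (B : Alg A) (x : F.obj (pt B)) :
    ∃ (i : LinIndex A) (φ : i.obj ⟶ F) (y : i.obj.obj (pt B)), ap φ B y = x := by
  obtain ⟨M, N, g, j, hj⟩ := adequate_iff.mp hF
  obtain ⟨P, P', _, _, _, _, a, φ, y, hy⟩ := hj.exists_cover B x
  obtain ⟨n, ⟨e⟩⟩ := exists_freeMod_iso P
  obtain ⟨m, ⟨e'⟩⟩ := exists_freeMod_iso P'
  let i : LinIndex A := ⟨n, m, (ULift.moduleEquiv.toLinearMap.comp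
    (e.inv ≫ a ≫ e'.hom).hom).comp ULift.moduleEquiv.symm.toLinearMap⟩
  have hi : i.hom = e.inv ≫ a ≫ e'.hom := by
    ext z
    rfl
  have hk := (isKer_kernel a).congr e e'
  rw [← hi] at hk
  let w : kernel ((underline A).map a) ≅ i.obj := hk.iso i.isKer
  refine ⟨i, w.inv ≫ φ, ap w.hom B y, ?_⟩
  rw [← ap_comp, ← Category.assoc, Iso.hom_inv_id, Category.id_comp, hy]

/-- Maps out of an adequate functor are determined on linearly adequate ones. -/
theorem hom_ext_index {F G : MVF A} (hF : adequate A F) {α β : F ⟶ G}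
    (h : ∀ (i : LinIndex A) (φ : i.obj ⟶ F), φ ≫ α = φ ≫ β) : α = β :=
  hom_ext' fun B x => by
    obtain ⟨i, φ, y, rfl⟩ := exists_index_cover hF B x
    rw [← ap_comp, h, ap_comp]

/-- The short complex of a kernel and an epimorphism. -/
theorem kernel_shortExact {X Y : MVF A} (p : X ⟶ Y) [Epi p] :
    (ShortComplex.mk (kernel.ι p) p (kernel.condition p)).ShortExact where
  exact := ShortComplex.exact_of_f_is_kernel _ (kernelIsKernel p)
  mono_f := inferInstanceAs (Mono (kernel.ι p))
  epi_g := ‹Epi p›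

/-- The coproduct of all maps from linearly adequate functors into a functor. -/
theorem exists_all_maps (F : MVF A) :
    ∃ (C : MVF A) (_ : adequate A C) (pc : C ⟶ F)
      (inj : ∀ i : LinIndex A, (i.obj ⟶ F) → (i.obj ⟶ C)),
      (∀ i φ, inj i φ ≫ pc = φ) ∧
      (∀ (T : MVF A) (a : ∀ i : LinIndex A, (i.obj ⟶ F) → (i.obj ⟶ T)),
        ∃ d : C ⟶ T, ∀ i φ, inj i φ ≫ d = a i φ) ∧
      ∀ (T : MVF A) (d d' : C ⟶ T), (∀ i φ, inj i φ ≫ d = inj i φ ≫ d') → d = d' := by
  obtain ⟨c, tc, hc⟩ := exists_adequate_cofan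
    (fun p : Σ i : LinIndex A, (i.obj ⟶ F) => p.1.obj) (fun p => p.1.adequate_obj)
  exact ⟨c.pt, hc, Cofan.IsColimit.desc tc fun p => p.2, fun i φ => c.inj ⟨i, φ⟩,
    fun i φ => Cofan.IsColimit.fac tc _ ⟨i, φ⟩,
    fun T a => ⟨Cofan.IsColimit.desc tc fun p => a p.1 p.2,
      fun i φ => Cofan.IsColimit.fac tc _ ⟨i, φ⟩⟩,
    fun T d d' h => Cofan.IsColimit.hom_ext tc _ _ fun p => h p.1 p.2⟩

/-- Every functor has a universal map from an adequate one. -/
theorem exists_coreflection (F : MVF A) :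
    ∃ (Q : MVF A) (_ : adequate A Q) (ε : Q ⟶ F),
      ∀ (G : MVF A), adequate A G → ∀ θ : G ⟶ F, ∃! θ' : G ⟶ Q, θ' ≫ ε = θ := by
  obtain ⟨C, hC, pc, inC, hinC, -, -⟩ := exists_all_maps F
  obtain ⟨D, hD, q, inD, hinD, -, -⟩ := exists_all_maps (kernel pc)
  let r : D ⟶ C := q ≫ kernel.ι pc
  have hr : r ≫ pc = 0 := by rw [Category.assoc, kernel.condition, comp_zero]
  let ε : cokernel r ⟶ F := cokernel.desc r pc hr
  have hQ : adequate A (cokernel r) := adequate_cokernel r hD hC
  have huniqL : ∀ (i : LinIndex A) (δ : i.obj ⟶ cokernel r), δ ≫ ε = 0 → δ = 0 := by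
    intro i δ hδ
    obtain ⟨l, hl⟩ := exists_lift (kernel_shortExact (cokernel.π r))
      (adequate_kernel (cokernel.π r) hC hQ) hQ i.isKer δ
    have hl' : l ≫ cokernel.π r = δ := hl
    have h0 : l ≫ pc = 0 :=
      (congrArg (l ≫ ·) (cokernel.π_desc r pc hr)).symm.trans
        ((Category.assoc _ _ _).symm.trans ((congrArg (· ≫ ε) hl').trans hδ))
    have h1 : l = inD i (kernel.lift pc l h0) ≫ r := by
      rw [← Category.assoc, hinD, kernel.lift_ι]
    rw [← hl', h1, Category.assoc, cokernel.condition, comp_zero]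
  have huniq : ∀ {G : MVF A}, adequate A G → ∀ δ : G ⟶ cokernel r, δ ≫ ε = 0 → δ = 0 := by
    intro G hG δ hδ
    refine hom_ext_index hG fun i φ => ?_
    rw [huniqL i (φ ≫ δ) (by rw [Category.assoc, hδ, comp_zero]), comp_zero]
  refine ⟨cokernel r, hQ, ε, fun G hG θ => ?_⟩
  obtain ⟨E, hE, π, inE, hinE, hdesc, hext⟩ := exists_all_maps G
  have hepi : Epi π := epi_of_surj π fun B x => by
    obtain ⟨i, φ, y, rfl⟩ := exists_index_cover hG B x
    exact ⟨ap (inE i φ) B y, by rw [← ap_comp, hinE]⟩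
  obtain ⟨lam, hlam'⟩ := hdesc (cokernel r) fun i φ => inC i (φ ≫ θ) ≫ cokernel.π r
  have hlam : lam ≫ ε = π ≫ θ := hext _ _ _ fun i φ => by
    rw [← Category.assoc, hlam', Category.assoc, cokernel.π_desc, hinC, ← Category.assoc, hinE]
  have hk : kernel.ι π ≫ lam = 0 := huniq (adequate_kernel π hE hG) _ (by
    rw [Category.assoc, hlam, ← Category.assoc, kernel.condition, zero_comp])
  obtain ⟨θ', hθ'⟩ : ∃ θ', π ≫ θ' = lam :=
    ⟨(kernel_shortExact π).gIsCokernel.desc (CokernelCofork.ofπ lam hk),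
      (kernel_shortExact π).gIsCokernel.fac (CokernelCofork.ofπ lam hk) WalkingParallelPair.one⟩
  have h' : θ' ≫ ε = θ := by rw [← cancel_epi π, ← Category.assoc, hθ', hlam]
  refine ⟨θ', h', fun θ'' h => ?_⟩
  exact sub_eq_zero.mp (huniq hG _ (by rw [Preadditive.sub_comp, h, h', sub_self]))

/-- The inclusion of adequate functors is a left adjoint. -/
theorem ι_isLeftAdjoint : (adequate A).ι.IsLeftAdjoint := by
  refine isLeftAdjoint_iff_hasTerminal_costructuredArrow.mpr fun F => ?_
  obtain ⟨Q, hQ, ε, hε⟩ := exists_coreflection F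
  let T : CostructuredArrow (adequate A).ι F :=
    CostructuredArrow.mk (Y := (⟨Q, hQ⟩ : Adequate A)) ε
  choose t ht ht' using fun X : CostructuredArrow (adequate A).ι F =>
    hε X.left.obj X.left.property X.hom
  exact (IsTerminal.ofUniqueHom (Y := T)
    (fun X => CostructuredArrow.homMk (ObjectProperty.homMk (t X)) (ht X)) fun X m =>
      CostructuredArrow.hom_ext _ _
        (ObjectProperty.hom_ext _ (ht' X m.left.hom (CostructuredArrow.w m)))).hasTerminal

/-- The retraction of the double character module. -/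
def ddRetr (M : ModuleCat.{u + 1} A) : dd (dd M) ⟶ dd M :=
  ModuleCat.ofHom (CharacterModule.dual (evalChar (A := A) (CharacterModule M)))

theorem toDD_ddRetr (M : ModuleCat.{u + 1} A) : toDD (dd M) ≫ ddRetr M = 𝟙 _ :=
  ModuleCat.hom_ext (LinearMap.ext fun _ => CharacterModule.ext _ fun _ => rfl)

/-- A monomorphism of adequate functors is a kernel in the ambient `uO`. -/
theorem exists_isKer_comp {F G : MVF A} (f : F ⟶ G) [Mono f] (hF : adequate A F)
    (hG : adequate A G) :
    ∃ (M N : ModuleCat.{u + 1} A) (g : M ⟶ N) (j : G ⟶ uO M), IsKer (f ≫ j) g := by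
  obtain ⟨M, N, g, j, hj⟩ := adequate_iff.mp hG
  obtain ⟨M', N', g', j', hj'⟩ := adequate_iff.mp (adequate_cokernel f hF hG)
  obtain ⟨e, he⟩ := hj.exists_extension (cokernel.π f ≫ j')
  have hcomp : ∀ (B : Alg A) (x : G.obj (pt B)),
      (toDD M').hom.baseChange B (emb j' B (ap (cokernel.π f) B x)) = e.hom.baseChange B (emb j B x) :=
    fun B x => congrArg (fun t : G ⟶ uO (dd M') => emb t B x) he
  have hex : ∀ (B : Alg A) (y : G.obj (pt B)), ap (cokernel.π f) B y = 0 → ∃ x, ap f B x = y := by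
    intro B y hy
    obtain ⟨w, rfl⟩ := (kernel_exact (cokernel.π f) B y).mp hy
    have : Epi (Abelian.factorThruImage f) := inferInstance
    obtain ⟨x, rfl⟩ := surj_of_epi (Abelian.factorThruImage f) B w
    refine ⟨x, ?_⟩
    rw [← ap_comp]
    exact congrArg (fun t => ap t B x) (Abelian.image.fac f).symm
  refine ⟨M, ModuleCat.of A (N × dd M'), ModuleCat.ofHom (g.hom.prod e.hom), j,
    fun B => (hj.inj B).comp (inj_of_mono f B), fun B z => ⟨fun hz => ?_, ?_⟩⟩
  · obtain ⟨h1, h2⟩ := (prod_lTensor_eq_zero g.hom e.hom z).mp hz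
    obtain ⟨y, rfl⟩ := (hj.exact B z).mp h1
    obtain ⟨x, rfl⟩ := hex B y (hj'.inj B (toDD_baseChange_injective M' B (by
      rw [map_zero, map_zero, hcomp]
      exact h2)))
    exact ⟨x, rfl⟩
  · rintro ⟨x, rfl⟩
    refine (prod_lTensor_eq_zero g.hom e.hom _).mpr ⟨hj.comp_zero B _, ?_⟩
    show e.hom.baseChange B (emb j B (ap f B x)) = 0
    rw [← hcomp, ← ap_comp, cokernel.condition, ap_zero, map_zero, map_zero]

/-- Adequate functors have enough injectives. -/
theorem enoughInjectives_adequate : EnoughInjectives (Adequate A) := by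
  have hinj : ∀ M : ModuleCat.{u + 1} A,
      Injective (⟨uO (dd M), adequate_uO _⟩ : Adequate A) := by
    refine fun M => ⟨fun {X Y} φ f hf => ?_⟩
    have : Mono f.hom := by
      refine Preadditive.mono_of_kernel_zero ?_
      let k : (⟨kernel f.hom, adequate_kernel f.hom X.property Y.property⟩ : Adequate A) ⟶ X :=
        ObjectProperty.homMk (kernel.ι f.hom)
      have hk : k = ObjectProperty.homMk 0 :=
        (cancel_mono f).mp (ObjectProperty.hom_ext _ (by
          show kernel.ι f.hom ≫ f.hom = (0 : kernel f.hom ⟶ X.obj) ≫ f.hom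
          rw [kernel.condition, zero_comp]))
      exact congrArg (fun t => t.hom) hk
    obtain ⟨M₀, N₀, g, j, hker⟩ := exists_isKer_comp f.hom X.property Y.property
    obtain ⟨e, he⟩ := hker.exists_extension φ.hom
    refine ⟨ObjectProperty.homMk (j ≫ (underline A).map (e ≫ ddRetr M)),
      ObjectProperty.hom_ext _ ?_⟩
    show f.hom ≫ j ≫ (underline A).map (e ≫ ddRetr M) = φ.hom
    rw [Functor.map_comp, ← Category.assoc, ← Category.assoc, ← he, Category.assoc,
      ← Functor.map_comp, toDD_ddRetr]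
    exact (congrArg (φ.hom ≫ ·) ((underline A).map_id _)).trans (Category.comp_id _)
  refine ⟨fun X => ?_⟩
  obtain ⟨M, N, g, j, hj⟩ := adequate_iff.mp X.property
  let f : X ⟶ (⟨uO (dd M), adequate_uO _⟩ : Adequate A) :=
    ObjectProperty.homMk (j ≫ (underline A).map (toDD M))
  have : Mono (j ≫ (underline A).map (toDD M)) := mono_of_inj _ fun B x y h =>
    hj.inj B (toDD_baseChange_injective M B h)
  refine ⟨⟨⟨uO (dd M), adequate_uO _⟩, hinj M, f, ⟨fun a b h => ObjectProperty.hom_ext _ ?_⟩⟩⟩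
  exact (cancel_mono (j ≫ (underline A).map (toDD M))).mp (congrArg (fun t => t.hom) h)

end

end Groth.Agent.AdeqLib
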