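import Groth.Agent.AdeqLib.Ext
import Mathlib.LinearAlgebra.DirectSum.TensorProduct
import Mathlib.LinearAlgebra.TensorProduct.Prod
import Mathlib.LinearAlgebra.Basis.Basic
import Mathlib.LinearAlgebra.FreeModule.Finite.Basic
import Mathlib.CategoryTheory.Limits.Constructions.LimitsOfProductsAndEqualizers

/-!
# Closure properties of adequate functors
-/

set_option autoImplicit false

universe u

open CategoryTheory Limits TensorProduct DirectSum

namespace Groth.Agent.AdeqLib

open Adeq

noncomputable section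

variable {A : Type u} [CommRing A]

theorem kernel_inj {F G : MVF A} (φ : F ⟶ G) (B : Alg A) :
    Function.Injective (ap (kernel.ι φ) B) :=
  inj_of_mono (kernel.ι φ) B

theorem kernel_exact {F G : MVF A} (φ : F ⟶ G) (B : Alg A) :
    Function.Exact (ap (kernel.ι φ) B) (ap φ B) := by
  have : (PresheafOfModules.evaluation.{u + 1} (ringOf A) (pt B)).Additive :=
    ⟨fun {F G f g} => rfl⟩
  have : PreservesFiniteLimits (PresheafOfModules.evaluation.{u + 1} (ringOf A) (pt B)) :=
    PresheafOfModules.evaluation_preservesFiniteLimits.{u + 1} (R := ringOf A) (pt B)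
  have hS : (ShortComplex.mk _ φ (kernel.condition φ)).Exact :=
    ShortComplex.exact_of_f_is_kernel _ (kernelIsKernel _)
  have hmap := hS.map_of_mono_of_preservesKernel
    (PresheafOfModules.evaluation.{u + 1} (ringOf A) (pt B))
    (inferInstanceAs (Mono (kernel.ι φ))) inferInstance
  intro z
  refine ⟨fun hz => (ShortComplex.moduleCat_exact_iff _).1 hmap z hz, ?_⟩
  rintro ⟨x, rfl⟩
  exact DFunLike.congr_fun (congrArg (fun t => ap t B) (kernel.condition φ)) x

/-- A base-changed pair vanishes when both components do. -/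
theorem prod_lTensor_eq_zero {C M N N' : Type*} [AddCommGroup C] [Module A C] [AddCommGroup M]
    [Module A M] [AddCommGroup N] [Module A N] [AddCommGroup N'] [Module A N'] (g : M →ₗ[A] N)
    (g' : M →ₗ[A] N') (y : C ⊗[A] M) :
    (g.prod g').lTensor C y = 0 ↔ g.lTensor C y = 0 ∧ g'.lTensor C y = 0 := by
  have h : ∀ z : C ⊗[A] M, TensorProduct.prodRight A A C N N' ((g.prod g').lTensor C z) =
      (g.lTensor C z, g'.lTensor C z) := by
    intro z
    induction z using TensorProduct.induction_on with
    | zero => simp only [map_zero, Prod.mk_zero_zero]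
    | tmul c m => simp
    | add x y hx hy => simp only [map_add, hx, hy, Prod.mk_add_mk]
  rw [← Prod.mk_eq_zero, ← h, LinearEquiv.map_eq_zero_iff]

/-- The kernel of a map of adequate functors is adequate. -/
theorem adequate_kernel {F G : MVF A} (φ : F ⟶ G) (hF : adequate A F) (hG : adequate A G) :
    adequate A (kernel φ) := by
  obtain ⟨M, N, g, j, hj⟩ := adequate_iff.mp hF
  obtain ⟨M', N', g', j', hj'⟩ := adequate_iff.mp hG
  obtain ⟨e, he⟩ := hj.exists_extension (φ ≫ j')
  have hcomp : ∀ (B : Alg A) (x : F.obj (pt B)),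
      (toDD M').hom.baseChange B (emb j' B (ap φ B x)) = e.hom.baseChange B (emb j B x) := by
    intro B x
    exact congrArg (fun t : F ⟶ uO (dd M') => emb t B x) he
  refine adequate_iff.mpr ⟨M, ModuleCat.of A (N × dd M'), ModuleCat.ofHom (g.hom.prod e.hom),
    kernel.ι φ ≫ j, fun B => (hj.inj B).comp (kernel_inj φ B), fun B z => ⟨fun hz => ?_, ?_⟩⟩
  · obtain ⟨h1, h2⟩ := (prod_lTensor_eq_zero g.hom e.hom z).mp hz
    obtain ⟨x, rfl⟩ := (hj.exact B z).mp h1
    have h3 : ap φ B x = 0 := hj'.inj B (toDD_baseChange_injective M' B (by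
      rw [map_zero, map_zero, hcomp]
      exact h2))
    obtain ⟨w, rfl⟩ := (kernel_exact φ B x).mp h3
    exact ⟨w, rfl⟩
  · rintro ⟨w, rfl⟩
    refine (prod_lTensor_eq_zero g.hom e.hom _).mpr ⟨hj.comp_zero B _, ?_⟩
    show e.hom.baseChange B (emb j B (ap (kernel.ι φ) B w)) = 0
    rw [← hcomp, (kernel_exact φ B).apply_apply_eq_zero, map_zero, map_zero]

section DirectSum

variable {ι : Type*} [DecidableEq ι]

/-- Components of an element of a tensor product with a direct sum. -/
theorem directSumRight_component {C : Type*} [AddCommGroup C] [Module A C] {M : ι → Type*}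
    [∀ i, AddCommGroup (M i)] [∀ i, Module A (M i)] (y : C ⊗[A] (⨁ i, M i)) (i : ι) :
    TensorProduct.directSumRight A A C M y i = (DirectSum.component A ι M i).lTensor C y := by
  induction y using TensorProduct.induction_on with
  | zero => simp
  | tmul c m =>
    induction m using DirectSum.induction_on with
    | zero => simp
    | of k x =>
      rw [← DirectSum.lof_eq_of A, TensorProduct.directSumRight_tmul_lof, LinearMap.lTensor_tmul]
      rcases eq_or_ne k i with rfl | hne
      · rw [DirectSum.lof_apply, DirectSum.component.lof_self]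
      · rw [DirectSum.component.of, dif_neg hne, tmul_zero, DirectSum.lof_eq_of,
          DirectSum.of_eq_of_ne _ _ _ (Ne.symm hne)]
    | add x y hx hy =>
      simp only [tmul_add, map_add, DirectSum.add_apply, hx, hy]
  | add x y hx hy => simp only [map_add, DirectSum.add_apply, hx, hy]

/-- An element of a tensor product with a direct sum is the sum of its components. -/
theorem sum_component {C : Type*} [AddCommGroup C] [Module A C] {M : ι → Type*}
    [∀ i, AddCommGroup (M i)] [∀ i, Module A (M i)] (y : C ⊗[A] (⨁ i, M i)) :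
    ∃ s : Finset ι, y = ∑ i ∈ s,
      (DirectSum.lof A ι M i).lTensor C ((DirectSum.component A ι M i).lTensor C y) := by
  classical
  let e := TensorProduct.directSumRight A A C M
  refine ⟨(e y).support, e.injective ?_⟩
  conv_lhs => rw [← DirectSum.sum_support_of (e y)]
  rw [map_sum]
  refine Finset.sum_congr rfl fun i _ => ?_
  rw [directSumRight_component]
  generalize (DirectSum.component A ι M i).lTensor C y = w
  induction w using TensorProduct.induction_on with
  | zero => simp
  | tmul c m =>
    rw [LinearMap.lTensor_tmul, TensorProduct.directSumRight_tmul_lof, DirectSum.lof_eq_of]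
  | add x y hx hy => simp only [map_add, hx, hy]

theorem component_lof {C : Type*} [AddCommGroup C] [Module A C] {M : ι → Type*}
    [∀ i, AddCommGroup (M i)] [∀ i, Module A (M i)] (i k : ι) (w : C ⊗[A] M i) :
    (DirectSum.component A ι M k).lTensor C ((DirectSum.lof A ι M i).lTensor C w) =
      if h : i = k then h ▸ w else 0 := by
  split_ifs with h
  · subst h
    rw [← LinearMap.lTensor_comp_apply,
      show (DirectSum.component A ι M i).comp (DirectSum.lof A ι M i) = LinearMap.id from
        LinearMap.ext (DirectSum.component.lof_self A i), LinearMap.lTensor_id_apply]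
  · rw [← LinearMap.lTensor_comp_apply,
      show (DirectSum.component A ι M k).comp (DirectSum.lof A ι M i) = 0 from
        LinearMap.ext fun m => by rw [LinearMap.comp_apply, DirectSum.component.of, dif_neg h,
          LinearMap.zero_apply],
      LinearMap.lTensor_zero, LinearMap.zero_apply]

end DirectSum

/-- A coproduct of adequate functors, with its colimiting cofan. -/
theorem exists_adequate_cofan {ι : Type (u + 1)} (F : ι → MVF A) (hF : ∀ i, adequate A (F i)) :
    ∃ (c : Cofan F) (_ : IsColimit c), adequate A c.pt := by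
  classical
  choose M N g j hj using fun i => adequate_iff.mp (hF i)
  let MM : ModuleCat.{u + 1} A := ModuleCat.of A (⨁ i, M i)
  let NN : ModuleCat.{u + 1} A := ModuleCat.of A (⨁ i, N i)
  let G : MM ⟶ NN := ModuleCat.ofHom (DirectSum.lmap fun i => (g i).hom)
  let inM : ∀ i, M i ⟶ MM := fun i => ModuleCat.ofHom (DirectSum.lof A ι (fun i => M i) i)
  have hG : ∀ i (C : Alg A) (w : C ⊗[A] M i),
      G.hom.baseChange C ((inM i).hom.baseChange C w) =
        (DirectSum.lof A ι (fun i => N i) i).lTensor C ((g i).hom.lTensor C w) := by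
    intro i C w
    show G.hom.lTensor C ((inM i).hom.lTensor C w) = _
    rw [← LinearMap.lTensor_comp_apply, ← LinearMap.lTensor_comp_apply]
    refine congrArg (fun l : M i →ₗ[A] NN => l.lTensor C w) (LinearMap.ext fun m => ?_)
    exact DirectSum.lmap_lof _ _ _
  let S : MVF A := kernel ((underline A).map G)
  let jS : S ⟶ uO MM := kernel.ι ((underline A).map G)
  have hS : IsKer jS G := isKer_kernel G
  let inS : ∀ i, F i ⟶ S := fun i => hS.lift (j i ≫ (underline A).map (inM i)) fun B x => by
    rw [emb_comp_map, hG, show (g i).hom.lTensor B (emb (j i) B x) = 0 from (hj i).comp_zero B x,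
      map_zero]
  have hinS : ∀ i B x, emb jS B (ap (inS i) B x) =
      (DirectSum.lof A ι (fun i => M i) i).lTensor B (emb (j i) B x) := fun i B x => by
    rw [← emb_comp, hS.lift_fac, emb_comp_map]
    rfl
  let θ : ∀ B : Alg A, (⨁ i, (F i).obj (pt B)) →ₗ[B] S.obj (pt B) := fun B =>
    DirectSum.toModule B ι _ fun i => ap (inS i) B
  have hθ : ∀ B, Function.Bijective (θ B) := by
    intro B
    have hcomp : ∀ (w : ⨁ i, (F i).obj (pt B)) (k : ι),
        (DirectSum.component A ι (fun i => M i) k).lTensor B (emb jS B (θ B w)) =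
          emb (j k) B (w k) := by
      intro w k
      induction w using DirectSum.induction_on with
      | zero => simp
      | of i x =>
        rw [← DirectSum.lof_eq_of B, DirectSum.toModule_lof, hinS, component_lof]
        split_ifs with h
        · subst h
          rw [DirectSum.lof_eq_of, DirectSum.of_eq_same]
        · rw [DirectSum.lof_eq_of, DirectSum.of_eq_of_ne _ _ _ (Ne.symm h), map_zero]
      | add x y hx hy => simp only [map_add, DirectSum.add_apply, hx, hy]
    refine ⟨(injective_iff_map_eq_zero _).mpr fun w hw => ?_, fun s => ?_⟩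
    · refine DFinsupp.ext fun k => ?_
      refine (hj k).inj B ?_
      show emb (j k) B (w k) = emb (j k) B ((0 : ⨁ i, (F i).obj (pt B)) k)
      rw [← hcomp, hw, map_zero, map_zero, DirectSum.zero_apply, map_zero]
    · obtain ⟨t, ht⟩ := sum_component (emb jS B s)
      have hk : ∀ k, ∃ x, emb (j k) B x =
          (DirectSum.component A ι (fun i => M i) k).lTensor B (emb jS B s) := by
        intro k
        refine ((hj k).exact B _).mp ?_
        show (g k).hom.lTensor B _ = 0
        have h0 := hS.comp_zero B s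
        rw [← LinearMap.lTensor_comp_apply,
          show (g k).hom.comp (DirectSum.component A ι (fun i => M i) k) =
            (DirectSum.component A ι (fun i => N i) k).comp G.hom from
              LinearMap.ext fun m =>
                (DirectSum.lmap_apply (fun i => (g i).hom) m k).symm,
          LinearMap.lTensor_comp_apply]
        exact (congrArg _ h0).trans (map_zero _)
      choose x hx using hk
      refine ⟨∑ k ∈ t, DirectSum.lof B ι _ k (x k), hS.inj B ?_⟩
      refine Eq.trans ?_ ht.symm
      rw [map_sum, map_sum]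
      exact Finset.sum_congr rfl fun k _ => by rw [DirectSum.toModule_lof, hinS, hx]
  let c : Cofan F := Cofan.mk S inS
  have desc_tr : ∀ (G' : MVF A) (φ : ∀ i, F i ⟶ G') {X Y : Alg A} (f : X ⟶ Y)
      (w : ⨁ i, (F i).obj (pt X)),
      ∃ w' : ⨁ i, (F i).obj (pt Y), θ Y w' = tr S f (θ X w) ∧
        DirectSum.toModule Y ι (G'.obj (pt Y)) (fun i => ap (φ i) Y) w' =
          tr G' f (DirectSum.toModule X ι (G'.obj (pt X)) (fun i => ap (φ i) X) w) := by
    intro G' φ X Y f w
    induction w using DirectSum.induction_on with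
    | zero => exact ⟨0, by simp, by simp⟩
    | of i x =>
      refine ⟨DirectSum.lof Y ι _ i (tr (F i) f x), ?_, ?_⟩
      · rw [← DirectSum.lof_eq_of X, DirectSum.toModule_lof, DirectSum.toModule_lof, ap_tr]
      · rw [← DirectSum.lof_eq_of X, DirectSum.toModule_lof, DirectSum.toModule_lof, ap_tr]
    | add a b ha hb =>
      obtain ⟨a', ha1, ha2⟩ := ha
      obtain ⟨b', hb1, hb2⟩ := hb
      exact ⟨a' + b', by simp only [map_add, ha1, hb1], by simp only [map_add, ha2, hb2]⟩
  refine ⟨c, mkCofanColimit c
    (fun s => mkHom (fun B => (DirectSum.toModule B ι _ fun i => ap (s.inj i) B).comp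
      (LinearEquiv.ofBijective (θ B) (hθ B)).symm.toLinearMap) ?_) ?_ ?_, ?_⟩
  · intro X Y f x
    obtain ⟨w, rfl⟩ := (hθ X).2 x
    obtain ⟨w', h1, h2⟩ := desc_tr s.pt s.inj f w
    show DirectSum.toModule Y ι (s.pt.obj (pt Y)) (fun i => ap (s.inj i) Y)
        ((LinearEquiv.ofBijective (θ Y) (hθ Y)).symm (tr S f (θ X w))) =
      tr s.pt f (DirectSum.toModule X ι (s.pt.obj (pt X)) (fun i => ap (s.inj i) X)
        ((LinearEquiv.ofBijective (θ X) (hθ X)).symm (θ X w)))
    rw [← h1, LinearEquiv.ofBijective_symm_apply_apply, LinearEquiv.ofBijective_symm_apply_apply,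
      h2]
  · intro s i
    refine hom_ext' fun B x => ?_
    show DirectSum.toModule B ι (s.pt.obj (pt B)) (fun i => ap (s.inj i) B)
      ((LinearEquiv.ofBijective (θ B) (hθ B)).symm (ap (inS i) B x)) = ap (s.inj i) B x
    rw [show ap (inS i) B x = θ B (DirectSum.lof B ι (fun i => (F i).obj (pt B)) i x) from by
        simp only [θ, DirectSum.toModule_lof],
      LinearEquiv.ofBijective_symm_apply_apply, DirectSum.toModule_lof]
  · intro s m hm
    refine hom_ext' fun B x => ?_
    obtain ⟨w, rfl⟩ := (hθ B).2 x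
    show ap m B (θ B w) = DirectSum.toModule B ι (s.pt.obj (pt B)) (fun i => ap (s.inj i) B)
      ((LinearEquiv.ofBijective (θ B) (hθ B)).symm (θ B w))
    rw [LinearEquiv.ofBijective_symm_apply_apply]
    induction w using DirectSum.induction_on with
    | zero => simp
    | of i x =>
      rw [← DirectSum.lof_eq_of B, DirectSum.toModule_lof, DirectSum.toModule_lof, ← hm i]
      rfl
    | add a b ha hb => simp only [map_add, ha, hb]
  · exact adequate_iff.mpr ⟨MM, NN, G, jS, hS⟩

/-- An element of a tensor product with a module with finite basis. -/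
theorem exists_basis_sum {C P : Type*} [AddCommGroup C] [Module A C] [AddCommGroup P] [Module A P]
    {n : Type*} [Fintype n] (b : Module.Basis n A P) (y : C ⊗[A] P) :
    ∃ v : n → C, y = ∑ i, v i ⊗ₜ[A] b i := by
  induction y using TensorProduct.induction_on with
  | zero => exact ⟨0, by simp⟩
  | tmul c p =>
    refine ⟨fun i => b.repr p i • c, ?_⟩
    conv_lhs => rw [← b.sum_repr p]
    simp only [tmul_sum, tmul_smul, smul_tmul']
  | add x y hx hy =>
    obtain ⟨v, rfl⟩ := hx
    obtain ⟨w, rfl⟩ := hy
    exact ⟨v + w, by simp [add_tmul, Finset.sum_add_distrib]⟩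

/-- An element of a tensor product with a quotient of `A^ι` on the left. -/
theorem exists_quot_sum {M : Type*} [AddCommGroup M] [Module A M] {ι : Type*} [Fintype ι]
    [DecidableEq ι] (K : Submodule A (ι → A)) (e : ((ι → A) ⧸ K) ⊗[A] M) :
    ∃ c : ι → M, e = ∑ i, K.mkQ (Pi.single i 1) ⊗ₜ[A] c i := by
  induction e using TensorProduct.induction_on with
  | zero => exact ⟨0, by simp⟩
  | tmul n f =>
    obtain ⟨x, rfl⟩ := Submodule.mkQ_surjective K n
    refine ⟨fun i => x i • f, ?_⟩
    simp only [tmul_smul, smul_tmul', ← sum_tmul, ← map_smul, ← map_sum]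
    refine congrArg (fun m => K.mkQ m ⊗ₜ[A] f) ?_
    exact funext fun i => by simp [Finset.sum_apply, Pi.single_apply]
  | add x y hx hy =>
    obtain ⟨c, rfl⟩ := hx
    obtain ⟨d, rfl⟩ := hy
    exact ⟨c + d, by simp [tmul_add, Finset.sum_add_distrib]⟩

/-- A map from a linearly adequate functor to `uO M` extends to the ambient `uO P`. -/
theorem IsKer.exists_extension_free {F : MVF A} {P P' : ModuleCat.{u + 1} A} [Module.Finite A P]
    [Module.Free A P] [Module.Finite A P'] [Module.Free A P'] {j : F ⟶ uO P} {a : P ⟶ P'}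
    (hj : IsKer j a) {M : ModuleCat.{u + 1} A} (φ : F ⟶ uO M) :
    ∃ g : P ⟶ M, j ≫ (underline A).map g = φ := by
  classical
  let I := Module.Free.ChooseBasisIndex A P
  let L := Module.Free.ChooseBasisIndex A P'
  let b : Module.Basis (Fin (Fintype.card I)) A P :=
    (Module.Free.chooseBasis A P).reindex (Fintype.equivFin I)
  let c : Module.Basis L A P' := Module.Free.chooseBasis A P'
  let rel : L → Fin (Fintype.card I) → A := fun l i => c.repr (a.hom (b i)) l
  let K : Submodule A (Fin (Fintype.card I) → A) := LinearMap.range (famMap (A := A) rel)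
  let Q : ModuleCat.{u} A := ModuleCat.of A ((Fin (Fintype.card I) → A) ⧸ K)
  let ξ : Fin (Fintype.card I) → Q := fun i => K.mkQ (Pi.single i 1)
  have hξ : ∀ l, ∑ i, rel l i • ξ i = 0 := fun l => by
    show ∑ i, rel l i • K.mkQ (Pi.single i 1) = 0
    simp only [← map_smul, ← map_sum]
    refine (Submodule.Quotient.mk_eq_zero _).mpr ⟨Pi.single l 1, ?_⟩
    rw [famMap_single, one_smul]
    exact funext fun i => by simp [Finset.sum_apply, Pi.single_apply]
  have hy : a.hom.lTensor Q (∑ i, ξ i ⊗ₜ[A] b i) = 0 := by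
    rw [map_sum]
    calc ∑ i, a.hom.lTensor Q (ξ i ⊗ₜ[A] b i)
        = ∑ i, ∑ l, (rel l i • ξ i) ⊗ₜ[A] c l := by
          refine Finset.sum_congr rfl fun i _ => ?_
          rw [LinearMap.lTensor_tmul]
          conv_lhs => rw [← c.sum_repr (a.hom (b i))]
          simp only [tmul_sum, tmul_smul, smul_tmul', rel]
      _ = ∑ l, (∑ i, rel l i • ξ i) ⊗ₜ[A] c l := by
          rw [Finset.sum_comm]
          simp only [sum_tmul]
      _ = 0 := Finset.sum_eq_zero fun l _ => by rw [hξ, zero_tmul]
  obtain ⟨z, hz⟩ := hj.exists_sq _ hy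
  obtain ⟨m, hm⟩ := exists_quot_sum K ((sqSnd Q).rTensor M (emb φ (Sq Q) z))
  let g : P ⟶ M := ModuleCat.ofHom (b.constr A m)
  refine ⟨g, emb_ext fun B x => ?_⟩
  obtain ⟨v, hv⟩ := exists_basis_sum b (emb j B x)
  have hrel : ∀ l, ∑ i, rel l i • v i = 0 := fun l => by
    have h1 : a.hom.lTensor B (emb j B x) = 0 := hj.comp_zero B x
    rw [hv] at h1
    have h2 := congrArg (fun w => TensorProduct.rid A (B : Type u) ((c.coord l).lTensor B w)) h1
    simp only [map_sum, LinearMap.lTensor_tmul, TensorProduct.rid_tmul, map_zero,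
      Module.Basis.coord_apply] at h2
    exact h2
  have hle : K ≤ LinearMap.ker (famMap v) := by
    rintro _ ⟨w, rfl⟩
    rw [LinearMap.mem_ker, famMap_apply (A := A) rel, map_sum]
    refine Finset.sum_eq_zero fun l _ => ?_
    rw [map_smul, famMap_apply, hrel, smul_zero]
  let f : Q →ₗ[A] B := Submodule.liftQ K (famMap v) hle
  have hfξ : ∀ i, f (ξ i) = v i := fun i => by
    show Submodule.liftQ K (famMap v) hle (Submodule.Quotient.mk (Pi.single i 1)) = v i
    rw [Submodule.liftQ_apply, famMap_single, one_smul]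
  have hz0 : (sqFstHom Q).hom.toLinearMap.rTensor P (emb j (Sq Q) z) = 0 := by
    rw [hz, ← LinearMap.rTensor_comp_apply,
      show (sqFstHom Q).hom.toLinearMap.comp (sqInr Q) = 0 from LinearMap.ext (sqFst_inr Q),
      LinearMap.rTensor_zero, LinearMap.zero_apply]
  have hφ := emb_sq_eq hj.inj φ f x z hz0 (by
    rw [hz, ← LinearMap.rTensor_comp_apply, LinearMap.comp_assoc,
      show (sqSnd Q).comp (sqInr Q) = LinearMap.id from LinearMap.ext (sqSnd_inr Q),
      LinearMap.comp_id, map_sum, hv]
    exact Finset.sum_congr rfl fun i _ => by rw [LinearMap.rTensor_tmul, hfξ])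
  rw [← hφ, emb_comp_map, hv, LinearMap.rTensor_comp_apply, hm, map_sum, map_sum]
  refine Finset.sum_congr rfl fun i _ => ?_
  show v i ⊗ₜ[A] g.hom (b i) = f (ξ i) ⊗ₜ[A] m i
  rw [hfξ, show g.hom (b i) = m i from b.constr_basis A m i]

/-- The data of a covering map from a linearly adequate functor at a point. -/
theorem IsKer.exists_cover {F : MVF A} {M N : ModuleCat.{u + 1} A} {j : F ⟶ uO M} {g : M ⟶ N}
    (hj : IsKer j g) (B : Alg A) (x : F.obj (pt B)) :
    ∃ (P P' : ModuleCat.{u + 1} A) (_ : Module.Finite A P) (_ : Module.Free A P)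
      (_ : Module.Finite A P') (_ : Module.Free A P') (a : P ⟶ P')
      (φ : kernel ((underline A).map a) ⟶ F) (y : (kernel ((underline A).map a)).obj (pt B)),
      ap φ B y = x := by
  classical
  obtain ⟨n, v, m, hvm⟩ := exists_fin_sum (emb j B x)
  have h0 : ∑ i, v i ⊗ₜ[A] g.hom (m i) = 0 := by
    have := hj.comp_zero B x
    rw [LinearMap.baseChange_eq_ltensor, hvm, map_sum] at this
    simpa using this
  obtain ⟨s, r, c, rel, q, hq1, hq2, hrel⟩ := exists_relations v (fun i => g.hom (m i)) h0
  let P : ModuleCat.{u + 1} A := ModuleCat.of A (ULift.{u + 1} (Fin n ⊕ Fin s → A))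
  let P' : ModuleCat.{u + 1} A := ModuleCat.of A (ULift.{u + 1} (Fin r → A))
  let e : P →ₗ[A] (Fin n ⊕ Fin s → A) := ULift.moduleEquiv.toLinearMap
  let e' : P' →ₗ[A] (Fin r → A) := ULift.moduleEquiv.toLinearMap
  let a₀ : (Fin n ⊕ Fin s → A) →ₗ[A] (Fin r → A) := famMap (fun i l => rel l i)
  let a : P ⟶ P' := ModuleCat.ofHom (ULift.moduleEquiv.symm.toLinearMap.comp (a₀.comp e))
  let h : P ⟶ M := ModuleCat.ofHom ((famMap (Sum.elim m fun _ => 0)).comp e)
  let qq : P' ⟶ N := ModuleCat.ofHom ((famMap q).comp e')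
  have hsq : g.hom.comp h.hom = qq.hom.comp a.hom := by
    refine LinearMap.ext fun w => ?_
    show g.hom (famMap (Sum.elim m fun _ => (0 : M)) (e w)) = famMap q (a₀ (e w))
    generalize e w = t
    rw [famMap_apply, map_sum, famMap_apply q]
    simp only [a₀, famMap_apply, Finset.sum_apply, Pi.smul_apply, smul_eq_mul, Finset.sum_smul,
      map_smul]
    rw [Finset.sum_comm]
    refine Finset.sum_congr rfl fun i _ => ?_
    simp only [mul_smul, ← Finset.smul_sum]
    refine congrArg _ ?_
    cases i with
    | inl i => exact hq1 i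
    | inr t => exact (map_zero _).trans (hq2 t).symm
  let jL : kernel ((underline A).map a) ⟶ uO P := kernel.ι ((underline A).map a)
  have hL : IsKer jL a := isKer_kernel a
  let φ : kernel ((underline A).map a) ⟶ F := hj.lift (jL ≫ (underline A).map h) fun C w => by
    rw [emb_comp_map, LinearMap.baseChange_eq_ltensor, LinearMap.baseChange_eq_ltensor,
      ← LinearMap.lTensor_comp_apply, hsq, LinearMap.lTensor_comp_apply]
    exact (congrArg _ (hL.comp_zero C w)).trans (map_zero _)
  let el : B ⊗[A] P :=
    ∑ i, Sum.elim v c i ⊗ₜ[A] (ULift.up (Pi.single i 1) : ULift.{u + 1} (Fin n ⊕ Fin s → A))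
  have hel : a.hom.lTensor B el = 0 := by
    show a.hom.lTensor B (∑ i, Sum.elim v c i ⊗ₜ[A] _) = 0
    rw [map_sum]
    calc ∑ i, Sum.elim v c i ⊗ₜ[A] ULift.moduleEquiv.symm (a₀ (Pi.single i 1))
        = ∑ i, ∑ l, (rel l i • Sum.elim v c i) ⊗ₜ[A]
            (ULift.moduleEquiv.symm (Pi.single l 1) : ULift.{u + 1} (Fin r → A)) := by
          refine Finset.sum_congr rfl fun i _ => ?_
          rw [show a₀ (Pi.single i 1) = ∑ l, rel l i • (Pi.single l 1 : Fin r → A) from by
            rw [famMap_single, one_smul]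
            exact funext fun l => by simp [Finset.sum_apply, Pi.single_apply]]
          simp only [map_sum, map_smul, tmul_sum, tmul_smul, smul_tmul']
          rfl
      _ = ∑ l, famMap (Sum.elim v c) (rel l) ⊗ₜ[A]
            (ULift.moduleEquiv.symm (Pi.single l 1) : ULift.{u + 1} (Fin r → A)) := by
          rw [Finset.sum_comm]
          simp only [famMap_apply, sum_tmul]
          rfl
      _ = 0 := Finset.sum_eq_zero fun l _ => by rw [hrel, zero_tmul]
  obtain ⟨y, hy⟩ := (hL.exact B el).mp hel
  refine ⟨P, P', inferInstanceAs (Module.Finite A (ULift.{u + 1} (Fin n ⊕ Fin s → A))),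
    inferInstanceAs (Module.Free A (ULift.{u + 1} (Fin n ⊕ Fin s → A))),
    inferInstanceAs (Module.Finite A (ULift.{u + 1} (Fin r → A))),
    inferInstanceAs (Module.Free A (ULift.{u + 1} (Fin r → A))), a, φ, y, hj.inj B ?_⟩
  rw [← emb_comp, hj.lift_fac, emb_comp_map, hy, hvm]
  show h.hom.lTensor B (∑ i, Sum.elim v c i ⊗ₜ[A] _) = _
  rw [map_sum, Fintype.sum_sum_type]
  refine (congrArg₂ (· + ·) (Finset.sum_congr rfl fun i _ => ?_)
    (Finset.sum_eq_zero fun t _ => ?_)).trans (add_zero _)
  · show v i ⊗ₜ[A] famMap (A := A) (Sum.elim m fun _ => (0 : M)) (Pi.single (Sum.inl i : Fin n ⊕ Fin s) 1) = v i ⊗ₜ[A] m i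
    rw [famMap_single, one_smul, Sum.elim_inl]
  · show c t ⊗ₜ[A] famMap (A := A) (Sum.elim m fun _ => (0 : M)) (Pi.single (Sum.inr t : Fin n ⊕ Fin s) 1) = 0
    rw [famMap_single, one_smul, Sum.elim_inr, tmul_zero]

/-- The covering family of an adequate functor by linearly adequate ones. -/
theorem exists_linAdequate_cover {F : MVF A} (hF : adequate A F) :
    ∃ (ι : Type (u + 1)) (P P' : ι → ModuleCat.{u + 1} A)
      (_ : ∀ i, Module.Finite A (P i)) (_ : ∀ i, Module.Free A (P i))
      (_ : ∀ i, Module.Finite A (P' i)) (_ : ∀ i, Module.Free A (P' i)) (a : ∀ i, P i ⟶ P' i)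
      (φ : ∀ i, kernel ((underline A).map (a i)) ⟶ F),
      ∀ (B : Alg A) (x : F.obj (pt B)), ∃ i y, ap (φ i) B y = x := by
  obtain ⟨M, N, g, j, hj⟩ := adequate_iff.mp hF
  choose P P' h1 h2 h3 h4 a φ y hy using fun p : Σ B : Alg A, F.obj (pt B) =>
    hj.exists_cover p.1 p.2
  exact ⟨Σ B : Alg A, F.obj (pt B), P, P', h1, h2, h3, h4, a, φ,
    fun B x => ⟨⟨B, x⟩, y ⟨B, x⟩, hy ⟨B, x⟩⟩⟩

end

end Groth.Agent.AdeqLib
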