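import Groth.Agent.AdeqLib.Coker
import Groth.Agent.SiteCoh.Cech
import Mathlib.RingTheory.Spectrum.Prime.RingHom
import Mathlib.RingTheory.Flat.Basic
import Mathlib.LinearAlgebra.TensorProduct.Quotient
import Mathlib.LinearAlgebra.TensorProduct.Pi
import Mathlib.CategoryTheory.Limits.Shapes.Opposites.Products

/-!
# Čech complexes of adequate functors for jointly faithfully flat families of algebras
-/

set_option autoImplicit false
set_option backward.isDefEq.respectTransparency false

universe u w

open CategoryTheory Limits TensorProduct Opposite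
open Groth.Agent.SiteCoh

namespace Groth.Agent.AdeqLib

open Adeq

noncomputable section

variable {R : Type u} [CommRing R] {ι : Type (u + 1)}

/-- A jointly faithfully flat family of algebras. -/
def FFam (A : ι → Alg R) : Prop :=
  (∀ i, Module.Flat R (A i)) ∧
    ∀ p : PrimeSpectrum R, ∃ i, p ∈ Set.range (PrimeSpectrum.comap (algebraMap R (A i)))

theorem FFam.eq_zero {A : ι → Alg R} (hA : FFam A) {Q : Type w} [AddCommGroup Q] [Module R Q]
    (q : Q) (h : ∀ i, (1 : A i) ⊗ₜ[R] q = 0) : q = 0 := by
  by_contra hq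
  let J : Ideal R := LinearMap.ker (LinearMap.toSpanSingleton R Q q)
  have hJ : J ≠ ⊤ := fun hJ => hq (by
    have h1 : (1 : R) ∈ J := hJ ▸ Submodule.mem_top
    simpa [J] using h1)
  obtain ⟨m, hm, hJm⟩ := Ideal.exists_le_maximal J hJ
  obtain ⟨i, P, hP⟩ := hA.2 ⟨m, hm.isPrime⟩
  have := hA.1 i
  let f : (R ⧸ J) →ₗ[R] Q := Submodule.liftQ J (LinearMap.toSpanSingleton R Q q) le_rfl
  have hf : Function.Injective f := by
    rw [← LinearMap.ker_eq_bot]
    exact Submodule.ker_liftQ_eq_bot _ _ _ le_rfl
  have h1 : (1 : A i) ⊗ₜ[R] (Submodule.Quotient.mk (1 : R) : R ⧸ J) = 0 := by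
    refine Module.Flat.lTensor_preserves_injective_linearMap (M := (A i : Type u)) f hf ?_
    rw [LinearMap.lTensor_tmul, map_zero, Submodule.liftQ_apply]
    simpa using h i
  have h2 := congrArg (TensorProduct.tensorQuotEquivQuotSMul (A i : Type u) J) h1
  rw [map_zero] at h2
  have h3 : (1 : A i) ∈ J • (⊤ : Submodule R (A i)) := by
    refine (Submodule.Quotient.mk_eq_zero _).mp (Eq.trans ?_ h2)
    show _ = TensorProduct.quotTensorEquivQuotSMul (A i : Type u) J
      ((Ideal.Quotient.mk J 1) ⊗ₜ[R] (1 : A i))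
    rw [TensorProduct.quotTensorEquivQuotSMul_mk_tmul, one_smul]
  have h4 : (1 : A i) ∈ P.asIdeal := by
    refine (Submodule.smul_le (I := J) (N := (⊤ : Submodule R (A i)))
      (P := P.asIdeal.restrictScalars R)).mpr ?_ h3
    intro r hr x _
    show r • x ∈ P.asIdeal
    rw [Algebra.smul_def]
    refine Ideal.mul_mem_right _ _ ?_
    have h5 : r ∈ (PrimeSpectrum.comap (algebraMap R (A i)) P).asIdeal := by
      rw [hP]
      exact hJm hr
    exact h5
  exact P.isPrime.ne_top ((Ideal.eq_top_iff_one _).mpr h4)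

/-- Membership in a range may be tested after a jointly faithfully flat base change. -/
theorem FFam.mem_range {A : ι → Alg R} (hA : FFam A) {X Y : Type w} [AddCommGroup X] [Module R X]
    [AddCommGroup Y] [Module R Y] (D : X →ₗ[R] Y) (y : Y)
    (h : ∀ i, (1 : A i) ⊗ₜ[R] y ∈ LinearMap.range (D.lTensor (A i))) : y ∈ LinearMap.range D := by
  rw [← Submodule.Quotient.mk_eq_zero]
  refine hA.eq_zero _ fun i => ?_
  obtain ⟨t, ht⟩ := h i
  show (LinearMap.range D).mkQ.lTensor (A i) ((1 : A i) ⊗ₜ[R] y) = 0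
  rw [← ht, ← LinearMap.lTensor_comp_apply, LinearMap.range_mkQ_comp, LinearMap.lTensor_zero,
    LinearMap.zero_apply]

/-- An element of a tensor product with a finite product is given by its components. -/
theorem exists_pi_components {C : Type*} [AddCommGroup C] [Module R C] {κ : Type*} [Finite κ]
    {N : κ → Type*} [∀ a, AddCommGroup (N a)] [∀ a, Module R (N a)] (f : ∀ a, C ⊗[R] N a) :
    ∃ y : C ⊗[R] (∀ a, N a), ∀ a, (LinearMap.proj a).lTensor C y = f a := by
  classical
  have := Fintype.ofFinite κ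
  refine ⟨∑ b, (LinearMap.single R N b).lTensor C (f b), fun a => ?_⟩
  rw [map_sum, Finset.sum_eq_single a]
  · rw [← LinearMap.lTensor_comp_apply, LinearMap.proj_comp_single_same, LinearMap.lTensor_id_apply]
  · intro b _ hb
    rw [← LinearMap.lTensor_comp_apply, LinearMap.proj_comp_single_ne R N a b (Ne.symm hb),
      LinearMap.lTensor_zero, LinearMap.zero_apply]
  · intro hh
    exact (hh (Finset.mem_univ a)).elim

theorem lTensor_fsum {C M N : Type*} [AddCommGroup C] [Module R C] [AddCommGroup M] [Module R M]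
    [AddCommGroup N] [Module R N] {κ : Type*} (s : Finset κ) (f : κ → (M →ₗ[R] N)) :
    (∑ k ∈ s, f k).lTensor C = ∑ k ∈ s, (f k).lTensor C :=
  map_sum (LinearMap.lTensorHom C) f s

theorem lTensor_zsmul {C M N : Type*} [AddCommGroup C] [Module R C] [AddCommGroup M] [Module R M]
    [AddCommGroup N] [Module R N] (n : ℤ) (f : M →ₗ[R] N) :
    (n • f).lTensor C = n • f.lTensor C :=
  map_zsmul (LinearMap.lTensorHom C) n f

theorem pi_components_ext {C : Type*} [AddCommGroup C] [Module R C] {κ : Type*} [Finite κ]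
    {N : κ → Type*} [∀ a, AddCommGroup (N a)] [∀ a, Module R (N a)] {y z : C ⊗[R] (∀ a, N a)}
    (h : ∀ a, (LinearMap.proj a).lTensor C y = (LinearMap.proj a).lTensor C z) : y = z := by
  classical
  have := Fintype.ofFinite κ
  have hid : ∑ a, (LinearMap.single R N a).comp (LinearMap.proj a) =
      (LinearMap.id : (∀ a, N a) →ₗ[R] _) :=
    LinearMap.ext fun v => funext fun b => by simp [Finset.sum_apply, Pi.single_apply]
  have key : ∀ w : C ⊗[R] (∀ a, N a),
      w = ∑ a, (LinearMap.single R N a).lTensor C ((LinearMap.proj a).lTensor C w) := by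
    intro w
    conv_lhs => rw [← LinearMap.lTensor_id_apply C _ w, ← hid, lTensor_fsum, LinearMap.sum_apply]
    simp only [LinearMap.lTensor_comp_apply]
  rw [key y, key z]
  exact Finset.sum_congr rfl fun a _ => by rw [h]

/-- The Čech family in the opposite of algebras. -/
abbrev opFam (A : ι → Alg R) : ι → (Alg R)ᵒᵖ := fun i => op (A i)

/-- The algebra of an intersection. -/
abbrev algInter (A : ι → Alg R) {p : ℕ} (a : Fin (p + 1) → ι) : Alg R :=
  (Cech.inter (opFam A) a).unop

/-- The tensor algebra `A_i ⊗ C`. -/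
abbrev tAlg (B C : Alg R) : Alg R := algOf R ((B : Type u) ⊗[R] (C : Type u))

/-- The left map into a tensor algebra. -/
def tLeft (B C : Alg R) : B ⟶ tAlg B C :=
  CommAlgCat.ofHom Algebra.TensorProduct.includeLeft

/-- The right map into a tensor algebra. -/
def tRight (B C : Alg R) : C ⟶ tAlg B C :=
  CommAlgCat.ofHom Algebra.TensorProduct.includeRight

/-- Functoriality of tensor algebras. -/
def tMap (B : Alg R) {C C' : Alg R} (f : C ⟶ C') : tAlg B C ⟶ tAlg B C' :=
  CommAlgCat.ofHom (Algebra.TensorProduct.map (AlgHom.id R B) f.hom)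

/-- The comparison `(B ⊗ C) ⊗ M ≅ B ⊗ (C ⊗ M)`. -/
def tAssoc (B C : Alg R) (M : Type w) [AddCommGroup M] [Module R M] :
    (tAlg B C) ⊗[R] M ≃ₗ[R] (B : Type u) ⊗[R] ((C : Type u) ⊗[R] M) :=
  TensorProduct.assoc R B C M

theorem tAssoc_right (B C : Alg R) (M : Type w) [AddCommGroup M] [Module R M]
    (z : (C : Type u) ⊗[R] M) :
    tAssoc B C M ((tRight B C).hom.toLinearMap.rTensor M z) = (1 : B) ⊗ₜ[R] z := by
  induction z using TensorProduct.induction_on with
  | zero => simp only [map_zero, tmul_zero]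
  | tmul c m => rfl
  | add x y hx hy => simp only [map_add, hx, hy, tmul_add]

theorem tAssoc_map (B : Alg R) {C C' : Alg R} (f : C ⟶ C') (M : Type w) [AddCommGroup M]
    [Module R M] (z : (tAlg B C) ⊗[R] M) :
    tAssoc B C' M ((tMap B f).hom.toLinearMap.rTensor M z) =
      (f.hom.toLinearMap.rTensor M).lTensor B (tAssoc B C M z) := by
  induction z using TensorProduct.induction_on with
  | zero => simp only [map_zero]
  | tmul w m =>
    induction w using TensorProduct.induction_on with
    | zero => simp only [TensorProduct.zero_tmul, map_zero]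
    | tmul b c => rfl
    | add x y hx hy => simp only [TensorProduct.add_tmul, map_add, hx, hy]
  | add x y hx hy => simp only [map_add, hx, hy]

/-- The Čech differential of `uO M` as a linear map. -/
def cechD (A : ι → Alg R) (M : ModuleCat.{u + 1} R) (p : ℕ) :
    (∀ a : Fin (p + 1) → ι, (algInter A a : Type u) ⊗[R] M) →ₗ[R]
      (∀ a : Fin (p + 2) → ι, (algInter A a : Type u) ⊗[R] M) :=
  LinearMap.pi fun a => ∑ j : Fin (p + 2), ((-1 : ℤ) ^ (j : ℕ)) •
    ((Cech.face (opFam A) a j).unop.hom.toLinearMap.rTensor M ∘ₗ LinearMap.proj (a ∘ j.succAbove))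

theorem cechD_apply (A : ι → Alg R) (M : ModuleCat.{u + 1} R) (p : ℕ)
    (y : ∀ a : Fin (p + 1) → ι, (algInter A a : Type u) ⊗[R] M) (a : Fin (p + 2) → ι) :
    cechD A M p y a = ∑ j : Fin (p + 2), ((-1 : ℤ) ^ (j : ℕ)) •
      (Cech.face (opFam A) a j).unop.hom.toLinearMap.rTensor M (y (a ∘ j.succAbove)) := by
  simp [cechD]

/-- Čech acyclicity of `uO M`. -/
theorem exists_cech_uO [Finite ι] {A : ι → Alg R} (hA : FFam A) (M : ModuleCat.{u + 1} R) (p : ℕ)
    (x : (Cech.cx (uO M).presheaf (opFam A)).X (p + 1))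
    (hx : (Cech.cx (uO M).presheaf (opFam A)).d (p + 1) (p + 2) x = 0) :
    ∃ y, (Cech.cx (uO M).presheaf (opFam A)).d p (p + 1) y = x := by
  let W := opFam A
  let P := (uO M).presheaf
  let xf : ∀ a : Fin (p + 2) → ι, (algInter A a : Type u) ⊗[R] M := fun a => Cech.ev P W a x
  have hmem : xf ∈ LinearMap.range (cechD A M p) := by
    refine hA.mem_range _ _ fun i => ?_
    let tup : ∀ {q : ℕ} (a : Fin (q + 1) → ι),
        Fin (q + 1) → (k : ι) × (op (tAlg (A i) (algInter A a)) ⟶ W k) := fun {q} a k =>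
      ⟨a k, (tRight (A i) (algInter A a)).op ≫ Pi.π (fun k => W (a k)) k⟩
    let hd : ∀ {q : ℕ} (a : Fin (q + 1) → ι), (k : ι) × (op (tAlg (A i) (algInter A a)) ⟶ W k) :=
      fun {q} a => ⟨i, (tLeft (A i) (algInter A a)).op⟩
    let Y : ∀ a : Fin (p + 1) → ι, (A i : Type u) ⊗[R] ((algInter A a : Type u) ⊗[R] M) :=
      fun a => tAssoc (A i) (algInter A a) M (Cech.val P W x (Fin.cons (hd a) (tup a)))
    obtain ⟨y, hy⟩ := exists_pi_components (C := (A i : Type u)) Y
    refine ⟨y, pi_components_ext fun a => ?_⟩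
    rw [LinearMap.lTensor_tmul, LinearMap.proj_apply, ← LinearMap.lTensor_comp_apply, cechD,
      LinearMap.proj_pi]
    let V : (Alg R)ᵒᵖ := op (tAlg (A i) (algInter A a))
    have h0 := Cech.val_d P W x (Fin.cons (hd a) (tup a))
    rw [hx, Fin.sum_univ_succ] at h0
    simp only [Fin.val_zero, pow_zero, one_zsmul, Fin.val_succ, pow_succ, mul_neg, mul_one,
      neg_smul] at h0
    have hz : Cech.val P W (0 : (Cech.cx P W).X (p + 2)) (Fin.cons (hd a) (tup a)) = 0 := by
      rw [Cech.val, map_zero, map_zero]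
    rw [hz] at h0
    have htail : (Fin.cons (hd a) (tup a) : Fin (p + 3) → _) ∘ Fin.succAbove 0 = tup a := by
      funext k
      rw [Function.comp_apply, Fin.succAbove_zero, Fin.cons_succ]
    rw [htail, Finset.sum_neg_distrib] at h0
    have h1 : Cech.val P W x (tup a) = ∑ j : Fin (p + 2), ((-1 : ℤ) ^ (j : ℕ)) •
        Cech.val P W x ((Fin.cons (hd a) (tup a) : Fin (p + 3) → _) ∘ j.succ.succAbove) :=
      (eq_neg_of_add_eq_zero_left h0.symm).trans (neg_neg _)
    have hx0 : tAssoc (A i) (algInter A a) M (Cech.val P W x (tup a)) = (1 : A i) ⊗ₜ[R] xf a := by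
      rw [← tAssoc_right]
      refine congrArg _ ?_
      exact (Cech.map_ev P W x a (tRight (A i) (algInter A a)).op).symm
    have hx1 : ∀ j : Fin (p + 2),
        tAssoc (A i) (algInter A a) M (Cech.val P W x
          ((Fin.cons (hd a) (tup a) : Fin (p + 3) → _) ∘ j.succ.succAbove)) =
        ((Cech.face W a j).unop.hom.toLinearMap.rTensor M).lTensor (A i) (Y (a ∘ j.succAbove)) := by
      intro j
      rw [← tAssoc_map]
      refine congrArg _ ?_
      refine Eq.trans ?_ (Cech.map_val P W x (tMap (A i) (Cech.face W a j).unop).op _).symm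
      refine congrArg (Cech.val P W x) (funext fun k => ?_)
      induction k using Fin.cases with
      | zero =>
        refine (congrArg (fun t : Fin (p + 3) => (Fin.cons (hd a) (tup a) : Fin (p + 3) → _) t)
          (Fin.succ_succAbove_zero j)).trans ?_
        simp only [Fin.cons_zero]
        refine Sigma.ext rfl (heq_of_eq (Quiver.Hom.unop_inj ?_))
        refine CommAlgCat.hom_ext (AlgHom.ext fun b => ?_)
        show b ⊗ₜ[R] (1 : algInter A a) = b ⊗ₜ[R] (Cech.face W a j).unop.hom 1
        rw [map_one]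
      | succ k =>
        refine (congrArg (fun t : Fin (p + 3) => (Fin.cons (hd a) (tup a) : Fin (p + 3) → _) t)
          (Fin.succ_succAbove_succ j k)).trans ?_
        simp only [Fin.cons_succ]
        refine Sigma.ext rfl (heq_of_eq ?_)
        show (tRight (A i) (algInter A a)).op ≫ Pi.π (fun k => W (a k)) (j.succAbove k) =
          (tMap (A i) (Cech.face W a j).unop).op ≫
            (tRight (A i) (algInter A (a ∘ j.succAbove))).op ≫
              Pi.π (fun k => W ((a ∘ j.succAbove) k)) k
        have e : (tMap (A i) (Cech.face W a j).unop).op ≫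
            (tRight (A i) (algInter A (a ∘ j.succAbove))).op =
              (tRight (A i) (algInter A a)).op ≫ Cech.face W a j := by
          refine Quiver.Hom.unop_inj (CommAlgCat.hom_ext (AlgHom.ext fun c => ?_))
          show (1 : A i) ⊗ₜ[R] _ = (1 : A i) ⊗ₜ[R] _
          rfl
        rw [← Category.assoc, e, Category.assoc]
        refine congrArg _ ?_
        exact (Pi.lift_π (fun k => Pi.π (fun k => W (a k)) (j.succAbove k)) k).symm
    rw [← hx0, h1, map_sum]
    simp only [map_zsmul, hx1, lTensor_fsum, LinearMap.sum_apply, lTensor_zsmul,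
      LinearMap.smul_apply, LinearMap.lTensor_comp, LinearMap.comp_apply, hy]
    rfl
  obtain ⟨y, hy⟩ := hmem
  refine ⟨Cech.mk P W y, Cech.ext P W fun a => ?_⟩
  rw [Cech.ev_d]
  refine Eq.trans ?_ ((cechD_apply A M p y a).symm.trans (congrFun hy a))
  refine Finset.sum_congr rfl fun j _ => ?_
  rw [Cech.ev_mk]
  rfl

/-- The unit map into a member of the family. -/
def unitTo (A : ι → Alg R) (i : ι) : algOf R R ⟶ A i := CommAlgCat.ofHom (Algebra.ofId R (A i))

theorem unitTo_rTensor (A : ι → Alg R) (i : ι) {M : Type w} [AddCommGroup M] [Module R M]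
    (z : R ⊗[R] M) :
    (unitTo A i).hom.toLinearMap.rTensor M z = (1 : A i) ⊗ₜ[R] TensorProduct.lid R M z := by
  induction z using TensorProduct.induction_on with
  | zero => simp only [map_zero, tmul_zero]
  | tmul r m =>
    rw [LinearMap.rTensor_tmul, TensorProduct.lid_tmul]
    show algebraMap R (A i) r ⊗ₜ[R] m = (1 : A i) ⊗ₜ[R] (r • m)
    rw [tmul_smul, smul_tmul', Algebra.algebraMap_eq_smul_one]
  | add x y hx hy => simp only [map_add, hx, hy, tmul_add]

/-- Separatedness of adequate functors for faithfully flat families. -/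
theorem FFam.sep {A : ι → Alg R} (hA : FFam A) {F : MVF R} (hF : adequate R F)
    {x : F.obj (pt (algOf R R))} (h : ∀ i, tr F (unitTo A i) x = 0) : x = 0 := by
  obtain ⟨M, N, g, j, hj⟩ := adequate_iff.mp hF
  refine hj.inj _ ((TensorProduct.lid R M).injective ?_)
  rw [map_zero, map_zero]
  refine hA.eq_zero _ fun i => ?_
  rw [← unitTo_rTensor A i (emb j (algOf R R) x), ← emb_tr, h i, map_zero]

/-- Amalgamation in `uO M`. -/
theorem exists_amalg_uO [Finite ι] {A : ι → Alg R} (hA : FFam A) (M : ModuleCat.{u + 1} R)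
    (x : ∀ i, (A i : Type u) ⊗[R] M)
    (hx : ∀ i k, (tRight (A i) (A k)).hom.toLinearMap.rTensor M (x k) =
      (tLeft (A i) (A k)).hom.toLinearMap.rTensor M (x i)) :
    ∃ t : R ⊗[R] M, ∀ i, (unitTo A i).hom.toLinearMap.rTensor M t = x i := by
  let D : M →ₗ[R] (∀ i, (A i : Type u) ⊗[R] M) :=
    LinearMap.pi fun i => TensorProduct.mk R (A i : Type u) M 1
  obtain ⟨m, hm⟩ : x ∈ LinearMap.range D := by
    refine hA.mem_range _ _ fun i => ⟨x i, pi_components_ext fun k => ?_⟩
    rw [LinearMap.lTensor_tmul, LinearMap.proj_apply, ← LinearMap.lTensor_comp_apply,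
      LinearMap.proj_pi, ← tAssoc_right, hx i k]
    generalize x i = w
    induction w using TensorProduct.induction_on with
    | zero => simp only [map_zero]
    | tmul c m => rfl
    | add y z hy hz => simp only [map_add, hy, hz]
  refine ⟨(TensorProduct.lid R M).symm m, fun i => ?_⟩
  rw [unitTo_rTensor, LinearEquiv.apply_symm_apply]
  exact congrFun hm i

/-- Amalgamation in adequate functors. -/
theorem FFam.exists_amalg [Finite ι] {A : ι → Alg R} (hA : FFam A) {F : MVF R} (hF : adequate R F)
    (x : ∀ i, F.obj (pt (A i)))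
    (hx : ∀ i k, tr F (tRight (A i) (A k)) (x k) = tr F (tLeft (A i) (A k)) (x i)) :
    ∃ t, ∀ i, tr F (unitTo A i) t = x i := by
  obtain ⟨M, N, g, j, hj⟩ := adequate_iff.mp hF
  obtain ⟨t, ht⟩ := exists_amalg_uO hA M (fun i => emb j (A i) (x i)) fun i k => by
    rw [← emb_tr, hx i k, emb_tr]
  have h0 : g.hom.baseChange (algOf R R) t = 0 := by
    refine (TensorProduct.lid R N).injective ?_
    rw [map_zero]
    refine hA.eq_zero _ fun i => ?_
    rw [← unitTo_rTensor A i (g.hom.baseChange (algOf R R) t)]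
    refine Eq.trans ?_ (hj.comp_zero (A i) (x i))
    rw [← ht i, LinearMap.baseChange_eq_ltensor, LinearMap.baseChange_eq_ltensor,
      ← LinearMap.comp_apply, ← LinearMap.comp_apply, LinearMap.rTensor_comp_lTensor,
      LinearMap.lTensor_comp_rTensor]
  obtain ⟨s, hs⟩ := (hj.exact (algOf R R) t).mp h0
  exact ⟨s, fun i => hj.inj _ (by rw [emb_tr, hs, ht])⟩

/-- Čech cohomology of adequate functors vanishes in positive degrees. -/
theorem FFam.exists_cech [Finite ι] {A : ι → Alg R} (hA : FFam A) (p : ℕ) :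
    ∀ {F : MVF R}, adequate R F → ∀ x : (Cech.cx F.presheaf (opFam A)).X (p + 1),
      (Cech.cx F.presheaf (opFam A)).d (p + 1) (p + 2) x = 0 →
      ∃ y, (Cech.cx F.presheaf (opFam A)).d p (p + 1) y = x := by
  induction p using Nat.strong_induction_on with
  | _ p ih =>
    intro F hF x hx
    obtain ⟨M, N, g, j, hj⟩ := adequate_iff.mp hF
    let W := opFam A
    let ug : uO M ⟶ uO N := (underline R).map g
    let G : MVF R := Abelian.image ug
    have hG : adequate R G := adequate_kernel _ (adequate_uO N)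
      (adequate_cokernel ug (adequate_uO M) (adequate_uO N))
    let π : uO M ⟶ G := Abelian.factorThruImage ug
    let jp : F.presheaf ⟶ (uO M).presheaf := (PresheafOfModules.toPresheaf _).map j
    let πp : (uO M).presheaf ⟶ G.presheaf := (PresheafOfModules.toPresheaf _).map π
    have hjp : ∀ (a : (Alg R)ᵒᵖ), Function.Injective (jp.app (op a)) := fun a => hj.inj a.unop
    have hjπ : ∀ (B : Alg R) z, ap π B (ap j B z) = 0 := fun B z => by
      refine inj_of_mono (Abelian.image.ι ug) B ?_
      rw [← ap_comp, Abelian.image.fac, map_zero]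
      exact (toT N B).injective (hj.comp_zero B z)
    have hker : ∀ (B : Alg R) w, ap π B w = 0 → ∃ z, ap j B z = w := fun B w hw => by
      have h0 : g.hom.baseChange B (toT M B w) = 0 := by
        rw [← toT_ap_map]
        show toT N B (ap ug B w) = 0
        rw [← Abelian.image.fac ug, ap_comp]
        show toT N B (ap (Abelian.image.ι ug) B (ap π B w)) = 0
        rw [hw, map_zero, map_zero]
      obtain ⟨z, hz⟩ := (hj.exact B _).mp h0
      exact ⟨z, (toT M B).injective hz⟩
    obtain ⟨y, hy⟩ := exists_cech_uO hA M p (Cech.map W jp x) (by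
      rw [← Cech.map_d, hx, Cech.map_eq_zero])
    have hgy : (Cech.cx G.presheaf W).d p (p + 1) (Cech.map W πp y) = 0 := by
      rw [← Cech.map_d, hy]
      refine Cech.ext _ _ fun a => ?_
      rw [Cech.ev_map, Cech.ev_map, map_zero]
      exact hjπ _ _
    suffices hcor : ∃ w, (Cech.cx (uO M).presheaf W).d p (p + 1) w = 0 ∧
        Cech.map W πp w = Cech.map W πp y by
      obtain ⟨w, hw0, hwπ⟩ := hcor
      choose e he using fun a : Fin (p + 1) → ι =>
        hker (algInter A a) (Cech.ev (uO M).presheaf W a (y - w)) (by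
          show πp.app (op (Cech.inter W a)) (Cech.ev (uO M).presheaf W a (y - w)) = 0
          rw [← Cech.ev_map, Cech.map_sub, hwπ, sub_self, map_zero])
      refine ⟨Cech.mk F.presheaf W e, Cech.map_injective W jp (fun a => hjp _) ?_⟩
      rw [Cech.map_d, show Cech.map W jp (Cech.mk F.presheaf W e) = y - w from
        Cech.ext _ _ fun a => by rw [Cech.ev_map, Cech.ev_mk]; exact he a, _root_.map_sub, hy, hw0,
        sub_zero]
    cases p with
    | zero =>
      have hz : ∀ i, ∃ z : G.obj (pt (A i)), ∀ (V : (Alg R)ᵒᵖ) (f : V ⟶ W i),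
          Cech.val G.presheaf W (Cech.map W πp y) (fun _ : Fin 1 => ⟨i, f⟩) = tr G f.unop z := by
        intro i
        refine ⟨Cech.val G.presheaf W (Cech.map W πp y) (fun _ : Fin 1 => ⟨i, 𝟙 (W i)⟩),
          fun V f => ?_⟩
        have := Cech.map_val G.presheaf W (Cech.map W πp y) f (fun _ : Fin 1 => ⟨i, 𝟙 (W i)⟩)
        simp only [Category.comp_id] at this
        exact this.symm
      choose z hz using hz
      obtain ⟨t, ht⟩ := hA.exists_amalg hG z fun i k => by
        let s : Fin 2 → (l : ι) × (op (tAlg (A i) (A k)) ⟶ W l) :=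
          Fin.cons ⟨k, (tRight (A i) (A k)).op⟩ fun _ : Fin 1 => ⟨i, (tLeft (A i) (A k)).op⟩
        have h := Cech.val_d G.presheaf W (Cech.map W πp y) s
        rw [hgy, Fin.sum_univ_two] at h
        simp only [Fin.val_zero, pow_zero, one_zsmul, Fin.val_one, pow_one, neg_smul, Cech.val,
          map_zero] at h
        have h' := eq_of_sub_eq_zero ((sub_eq_add_neg _ _).trans h.symm)
        refine ((hz k _ (tRight (A i) (A k)).op).symm.trans ?_).trans (hz i _ (tLeft (A i) (A k)).op)
        refine Eq.trans ?_ (h'.symm.trans ?_)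
        · exact congrArg (Cech.val G.presheaf W _) (funext fun l => by fin_cases l; rfl)
        · exact congrArg (Cech.val G.presheaf W _) (funext fun l => by fin_cases l; rfl)
      obtain ⟨w₀, rfl⟩ := surj_of_epi π (algOf R R) t
      let toR : ∀ a : Fin 1 → ι, algOf R R ⟶ algInter A a := fun a =>
        CommAlgCat.ofHom (Algebra.ofId R (algInter A a))
      refine ⟨Cech.mk (uO M).presheaf W fun a => tr (uO M) (toR a) w₀, ?_, ?_⟩
      · refine Cech.ext _ _ fun a => ?_
        rw [Cech.ev_d, Fin.sum_univ_two, map_zero, Cech.ev_mk, Cech.ev_mk]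
        simp only [Fin.val_zero, pow_zero, one_zsmul, Fin.val_one, pow_one, neg_smul]
        rw [← sub_eq_add_neg, sub_eq_zero]
        show tr (uO M) (Cech.face W a 0).unop (tr (uO M) (toR _) w₀) =
          tr (uO M) (Cech.face W a 1).unop (tr (uO M) (toR _) w₀)
        rw [← tr_comp, ← tr_comp]
        refine congrArg (fun f : algOf R R ⟶ algInter A a => tr (uO M) f w₀) ?_
        exact CommAlgCat.hom_ext (Subsingleton.elim (α := R →ₐ[R] (algInter A a : Type u)) _ _)
      · refine Cech.ext _ _ fun a => ?_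
        rw [Cech.ev_map, Cech.ev_mk, Cech.ev_eq_val_taut]
        have ha : Cech.taut W a = fun _ : Fin 1 => ⟨a 0, Pi.π (fun k => W (a k)) 0⟩ := by
          funext l
          fin_cases l
          rfl
        rw [ha, hz, ← ht (a 0)]
        show ap π (algInter A a) (tr (uO M) (toR a) w₀) = _
        rw [ap_tr, ← tr_comp]
        refine congrArg (fun f : algOf R R ⟶ algInter A a => tr G f (ap π (algOf R R) w₀)) ?_
        exact CommAlgCat.hom_ext (Subsingleton.elim (α := R →ₐ[R] (algInter A a : Type u)) _ _)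
    | succ q =>
      obtain ⟨z, hz⟩ := ih q (Nat.lt_succ_self q) hG (Cech.map W πp y) hgy
      choose c hc using fun a : Fin (q + 1) → ι =>
        surj_of_epi π (algInter A a) (Cech.ev G.presheaf W a z)
      have hc' : Cech.map W πp (Cech.mk (uO M).presheaf W c) = z :=
        Cech.ext _ _ fun a => by rw [Cech.ev_map, Cech.ev_mk]; exact hc a
      refine ⟨(Cech.cx (uO M).presheaf W).d q (q + 1) (Cech.mk (uO M).presheaf W c), ?_, ?_⟩
      · rw [← ConcreteCategory.comp_apply, HomologicalComplex.d_comp_d]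
        rfl
      · rw [Cech.map_d, hc', hz]

end

end Groth.Agent.AdeqLib
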