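import Groth.Agent.AdeqLib.Site
import Groth.Agent.EtCechLib.Transfer

/-!
# Čech cohomology of adequate modules on affine objects of big sites
-/

set_option autoImplicit false
set_option linter.style.haveILetI false
set_option backward.isDefEq.respectTransparency false
set_option backward.isDefEq.respectTransparency.types false

universe u

open CategoryTheory Limits TensorProduct Opposite AlgebraicGeometry
open Groth.Agent.SiteCoh

namespace Groth.Agent.AdeqLib

open Adeq

noncomputable section

variable {K : Precoverage Scheme.{u}} [BigSite.OSh K] {S : Scheme.{u}} {R : CommRingCat.{u}}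
  (a : Spec R ⟶ S) {U : Over S} (e : Over.mk a ≅ U)

/-- Algebras as objects over an affine object. -/
def algTo : (Alg R)ᵒᵖ ⥤ Over U :=
  algSpec R ⋙ (Over.mk a : Over S).iteratedSliceEquiv.inverse ⋙ Over.map e.hom

instance (n : ℕ) : PreservesLimitsOfShape (Discrete (Fin n)) (algTo a e) := by
  haveI : (Over.map e.hom).IsEquivalence := (Over.mapIso e).isEquivalence_functor
  haveI : (Over.mk a : Over S).iteratedSliceEquiv.inverse.IsEquivalence := inferInstance
  unfold algTo
  haveI : PreservesLimitsOfShape (Discrete (Fin n))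
      ((Over.mk a : Over S).iteratedSliceEquiv.inverse ⋙ Over.map e.hom) :=
    comp_preservesLimitsOfShape _ _
  exact comp_preservesLimitsOfShape _ _

theorem algTo_obj_left (B : Alg R) : ((algTo a e).obj (op B)).left = sO a B := rfl

theorem algTo_obj_hom_left (B : Alg R) :
    ((algTo a e).obj (op B)).hom.left = sStr B ≫ e.hom.left := rfl

theorem algTo_map_left {B B' : Alg R} (f : B ⟶ B') :
    ((algTo a e).map f.op).left = sM a f := rfl

/-- The presheaf on algebras of a sheaf of modules along `algTo`. -/
theorem algTo_pullPsh (M : BigSite.Mod K S) :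
    (algTo a e).op ⋙ EtCechLib.pullPsh (Over.forget U) ((BigSite.toAbMod K S).obj M) =
      ((toMVF K a).obj M).presheaf := rfl

/-- The sieve of a family of algebras over an affine object. -/
theorem algTo_cover {ι : Type (u + 1)} {A : ι → Alg R} (hA : CoversBase K A) :
    Sieve.ofArrows (fun i => ((algTo a e).obj (op (A i))).left)
      (fun i => ((algTo a e).obj (op (A i))).hom) ∈ QuotSh.J K S U := by
  let b : sO a (algOf R R) ⟶ U :=
    Over.homMk (sStr (algOf R R) ≫ e.hom.left) (by
      show (sStr (algOf R R) ≫ e.hom.left) ≫ U.hom = sStr (algOf R R) ≫ a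
      rw [Category.assoc, Over.w e.hom]
      rfl)
  haveI : IsIso (sStr (algOf R R)) := by
    rw [show sStr (algOf R R) = 𝟙 (Spec R) from
      (congrArg Spec.map (CommRingCat.ofHom_id (R := R))).trans (Spec.map_id R)]
    infer_instance
  haveI : IsIso b := by
    haveI : IsIso ((Over.forget S).map b) := by
      haveI : IsIso e.hom.left := inferInstanceAs (IsIso ((Over.forget S).map e.hom))
      show IsIso (sStr (algOf R R) ≫ e.hom.left)
      infer_instance
    exact isIso_of_reflects_iso _ (Over.forget S)
  have h := (QuotSh.J K S).pullback_stable (inv b) (hA.mem a K)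
  refine GrothendieckTopology.superset_covering _ ?_ h
  intro Z g hg
  obtain ⟨W, f, _, ⟨i⟩, hf⟩ := hg
  refine ⟨_, f, _, Presieve.ofArrows.mk i, ?_⟩
  have h' := congrArg (· ≫ b) hf
  simp only [Category.assoc, IsIso.inv_hom_id, Category.comp_id] at h'
  refine Eq.trans (congrArg (f ≫ ·) ?_) h'
  refine Over.OverMorphism.ext ?_
  show sStr (A i) ≫ e.hom.left = (sM a (unitTo A i)).left ≫ sStr (algOf R R) ≫ e.hom.left
  rw [← Category.assoc, sM_left_str]

/-- Čech cohomology of adequate modules vanishes on affine families. -/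
theorem isZero_cech [HasAffRef K] [K.IsStableUnderBaseChange]
    [∀ U : Over S, HasFiniteProducts (Over U)] {M : BigSite.Mod K S} (hM : adequateMod K S M)
    {ι : Type (u + 1)} [Finite ι] {A : ι → Alg R} (hA : FFam A) (p : ℕ) :
    IsZero ((Cech.cx (EtCechLib.pullPsh (Over.forget U) ((BigSite.toAbMod K S).obj M))
      (fun i => (algTo a e).obj (op (A i)))).homology (p + 1)) := by
  refine (EtCechLib.isZero_homology_comp_iff (algTo a e)
    (EtCechLib.pullPsh (Over.forget U) ((BigSite.toAbMod K S).obj M)) (opFam A) p).mp ?_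
  rw [algTo_pullPsh]
  exact (Cech.isZero_homology_succ_iff _ _ p).mpr fun x hx =>
    hA.exists_cech p (adequate_toMVF a hM) x hx

/-- Refinement of coverings of affine objects by affine families. -/
theorem exists_affine_family [HasAffRef K] {T : Sieve U} (hT : T ∈ QuotSh.J K S U) :
    ∃ (ι : Type (u + 1)) (_ : Finite ι) (A : ι → Alg R), FFam A ∧ CoversBase K A ∧
      ∀ i, T.arrows ((algTo a e).obj (op (A i))).hom := by
  have hT' := (QuotSh.J K S).pullback_stable e.hom hT
  rw [GrothendieckTopology.mem_over_iff] at hT'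
  obtain ⟨ι, hι, A, hA, hAc, hAT⟩ := HasAffRef.refine_ (K := K) R _ hT'
  refine ⟨ι, hι, A, hA, hAc, fun i => ?_⟩
  have h := (Sieve.overEquiv_iff (Sieve.pullback e.hom T) (sStr (A i))).mp (hAT i)
  exact h

/-- An affine object is the object of a ring. -/
theorem exists_affine_presentation (U : Over S) [IsAffine U.left] :
    ∃ (R : CommRingCat.{u}) (a : Spec R ⟶ S), Nonempty (Over.mk a ≅ U) :=
  ⟨Γ(U.left, ⊤), U.left.isoSpec.inv ≫ U.hom, ⟨Over.isoMk U.left.isoSpec.symm rfl⟩⟩

/-- Surjectivity on affine objects. -/
theorem surjective_affine [HasAffRef K] [K.IsStableUnderBaseChange]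
    [∀ U : Over S, HasFiniteProducts (Over U)] {C : ShortComplex (BigSite.Mod K S)}
    (hC : (C.map (BigSite.toAbMod K S)).ShortExact) (h₁ : adequateMod K S C.X₁) (U : Over S)
    [IsAffine U.left] : Function.Surjective ((C.g.val.app (op U)).hom) := by
  obtain ⟨R, a, ⟨e⟩⟩ := exists_affine_presentation U
  exact EtCechLib.surjective_sections_of_cech hC U fun T hT => by
    obtain ⟨ι, hι, A, hA, hAc, hAT⟩ := exists_affine_family (K := K) a e hT
    exact ⟨ι, fun i => (algTo a e).obj (op (A i)), hAT, algTo_cover a e hAc,
      isZero_cech a e h₁ hA 0⟩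

end

end Groth.Agent.AdeqLib
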