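import Groth.Agent.AdeqLib.Alg

/-!
# Change of ring for adequate functors
-/

set_option autoImplicit false

universe u

open CategoryTheory Limits TensorProduct

namespace Groth.Agent.AdeqLib

open Adeq

noncomputable section

variable (A A' : Type u) [CommRing A] [CommRing A'] [Algebra A A']

/-- An `A'`-algebra as an `A`-algebra. -/
abbrev rAlg (B : Alg A') : Alg A := (Alg.restr A A').obj B

/-- The base change of an `A`-algebra. -/
abbrev bAlg (B : Alg A) : Alg A' := (Alg.baseChange A A').obj B

theorem rAlg_tower (B : Alg A') :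
    letI : Algebra A B := ((algebraMap A' B).comp (algebraMap A A')).toAlgebra
    IsScalarTower A A' B :=
  letI : Algebra A B := ((algebraMap A' B).comp (algebraMap A A')).toAlgebra
  IsScalarTower.of_algebraMap_eq fun _ => rfl

/-- Restriction of an adequate functor is adequate. -/
theorem adequate_restr {F : MVF A} (hF : adequate A F) :
    adequate A' ((Adeq.restr A A').obj F) := by
  obtain ⟨M, N, g, j, hj⟩ := adequate_iff.mp hF
  let E : ∀ (P : ModuleCat.{u + 1} A) (B : Alg A'), rAlg A A' B ⊗[A] P ≃ₗ[(B : Type u)]
      B ⊗[A'] (A' ⊗[A] P) := fun P B =>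
    letI : Algebra A B := ((algebraMap A' B).comp (algebraMap A A')).toAlgebra
    haveI := rAlg_tower A A' B
    (TensorProduct.AlgebraTensorModule.cancelBaseChange A A' B B P).symm
  have hE : ∀ (P : ModuleCat.{u + 1} A) (B : Alg A') (b : B) (p : P),
      E P B ((b : rAlg A A' B) ⊗ₜ[A] p) = b ⊗ₜ[A'] ((1 : A') ⊗ₜ[A] p) := fun P B b p => rfl
  let M' : ModuleCat.{u + 1} A' := ModuleCat.of A' (A' ⊗[A] M)
  let N' : ModuleCat.{u + 1} A' := ModuleCat.of A' (A' ⊗[A] N)
  let g' : M' ⟶ N' := ModuleCat.ofHom (g.hom.baseChange A')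
  have hEg : ∀ (B : Alg A') (z : rAlg A A' B ⊗[A] M),
      g'.hom.baseChange B (E M B z) = E N B (g.hom.baseChange (rAlg A A' B) z) := by
    intro B z
    induction z using TensorProduct.induction_on with
    | zero => simp only [map_zero]
    | tmul b m =>
      rw [hE, LinearMap.baseChange_tmul, LinearMap.baseChange_tmul, hE]
      rfl
    | add x y hx hy => simp only [map_add, hx, hy]
  have hEnat : ∀ {B B' : Alg A'} (f : B ⟶ B') (z : rAlg A A' B ⊗[A] M),
      E M B' (((Alg.restr A A').map f).hom.toLinearMap.rTensor M z) =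
        f.hom.toLinearMap.rTensor (A' ⊗[A] M) (E M B z) := by
    intro B B' f z
    induction z using TensorProduct.induction_on with
    | zero => simp only [map_zero]
    | tmul b m =>
      rw [LinearMap.rTensor_tmul, hE]
      exact hE M B' (f.hom b) m
    | add x y hx hy => simp only [map_add, hx, hy]
  let jj : (Adeq.restr A A').obj F ⟶ uO M' := mkHom
    (fun B =>
      { toFun := fun x => (toT M' B).symm (E M B (emb j (rAlg A A' B) x))
        map_add' := fun x y => by
          show E M B (emb j (rAlg A A' B) _) = _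
          exact (congrArg (E M B) (map_add (emb j (rAlg A A' B)) x y)).trans (map_add (E M B) _ _)
        map_smul' := fun b x => by
          show E M B (emb j (rAlg A A' B) _) = _
          exact (congrArg (E M B) (map_smul (emb j (rAlg A A' B)) b x)).trans
            (map_smul (E M B) b _) })
    (fun {X Y} f x => by
      show E M Y (emb j (rAlg A A' Y) (tr F ((Alg.restr A A').map f) x)) =
        f.hom.toLinearMap.rTensor (A' ⊗[A] M) (E M X (emb j (rAlg A A' X) x))
      rw [emb_tr, hEnat])
  refine adequate_iff.mpr ⟨M', N', g', jj, fun B => ?_, fun B z => ?_⟩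
  · exact (E M B).injective.comp (hj.inj (rAlg A A' B))
  · obtain ⟨w, rfl⟩ := (E M B).surjective z
    constructor
    · intro hz
      rw [hEg, LinearEquiv.map_eq_zero_iff] at hz
      obtain ⟨x, hx⟩ := (hj.exact _ w).mp hz
      exact ⟨x, congrArg (E M B) hx⟩
    · rintro ⟨x, hx⟩
      have hw : emb j (rAlg A A' B) x = w := (E M B).injective hx
      rw [hEg, ← hw, hj.comp_zero, map_zero]

/-- A module over `A'` as a module over `A`. -/
abbrev rMod (P : ModuleCat.{u + 1} A') : ModuleCat.{u + 1} A :=
  letI : Module A P := Module.compHom P (algebraMap A A')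
  ModuleCat.of A P

/-- The comparison `(A' ⊗ B) ⊗ P ≅ B ⊗ P`. -/
def pushEquiv (P : ModuleCat.{u + 1} A') (B : Alg A) :
    (bAlg A A' B) ⊗[A'] P ≃+ B ⊗[A] rMod A A' P :=
  letI : Module A P := Module.compHom P (algebraMap A A')
  haveI : IsScalarTower A A' P := ⟨fun a b p => by
    show (a • b) • p = algebraMap A A' a • (b • p)
    rw [Algebra.smul_def, mul_smul]⟩
  ((TensorProduct.comm A' (A' ⊗[A] B) P).toAddEquiv.trans
    (TensorProduct.AlgebraTensorModule.cancelBaseChange A A' A' P B).toAddEquiv).trans
    (TensorProduct.comm A P B).toAddEquiv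

theorem pushEquiv_tmul (P : ModuleCat.{u + 1} A') (B : Alg A) (a : A') (b : B) (p : P) :
    pushEquiv A A' P B ((a ⊗ₜ[A] b : A' ⊗[A] B) ⊗ₜ[A'] p) =
      b ⊗ₜ[A] (@id (rMod A A' P : Type (u + 1)) (a • p : P)) := rfl

theorem pushEquiv_smul (P : ModuleCat.{u + 1} A') (B : Alg A) (c : B)
    (z : (bAlg A A' B) ⊗[A'] P) :
    pushEquiv A A' P B (((1 : A') ⊗ₜ[A] c : A' ⊗[A] B) • z) = c • pushEquiv A A' P B z := by
  induction z using TensorProduct.induction_on with
  | zero => simp only [smul_zero, map_zero]
  | tmul w p =>
    induction w using TensorProduct.induction_on with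
    | zero => simp only [TensorProduct.zero_tmul, smul_zero, map_zero]
    | tmul a b =>
      rw [TensorProduct.smul_tmul', smul_eq_mul, Algebra.TensorProduct.tmul_mul_tmul, one_mul,
        pushEquiv_tmul, pushEquiv_tmul, TensorProduct.smul_tmul', smul_eq_mul]
    | add x y hx hy => simp only [TensorProduct.add_tmul, smul_add, map_add, hx, hy]
  | add x y hx hy => simp only [smul_add, map_add, hx, hy]

/-- Pushforward of an adequate functor is adequate. -/
theorem adequate_push {F' : MVF A'} (hF : adequate A' F') :
    adequate A ((Adeq.push A A').obj F') := by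
  obtain ⟨M, N, g, j, hj⟩ := adequate_iff.mp hF
  let g₀ : rMod A A' M ⟶ rMod A A' N :=
    letI : Module A M := Module.compHom M (algebraMap A A')
    letI : Module A N := Module.compHom N (algebraMap A A')
    ModuleCat.ofHom
      { toFun := g.hom
        map_add' := g.hom.map_add
        map_smul' := fun a m => g.hom.map_smul (algebraMap A A' a) m }
  have hTg : ∀ (B : Alg A) (z : (bAlg A A' B) ⊗[A'] M),
      g₀.hom.baseChange B (pushEquiv A A' M B z) =
        pushEquiv A A' N B (g.hom.baseChange (bAlg A A' B) z) := by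
    intro B z
    induction z using TensorProduct.induction_on with
    | zero => simp only [map_zero]
    | tmul w m =>
      induction w using TensorProduct.induction_on with
      | zero => simp only [TensorProduct.zero_tmul, map_zero]
      | tmul a b =>
        rw [LinearMap.baseChange_tmul, pushEquiv_tmul, pushEquiv_tmul]
        refine (LinearMap.baseChange_tmul (f := g₀.hom) b _).trans ?_
        exact congrArg (fun n => (b : B) ⊗ₜ[A] n) (g.hom.map_smul a m)
      | add x y hx hy => simp only [TensorProduct.add_tmul, map_add, hx, hy]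
    | add x y hx hy => simp only [map_add, hx, hy]
  have hTnat : ∀ {B B' : Alg A} (f : B ⟶ B') (z : (bAlg A A' B) ⊗[A'] M),
      pushEquiv A A' M B'
        (((Alg.baseChange A A').map f).hom.toLinearMap.rTensor M z) =
      f.hom.toLinearMap.rTensor (rMod A A' M) (pushEquiv A A' M B z) := by
    intro B B' f z
    induction z using TensorProduct.induction_on with
    | zero => simp only [map_zero]
    | tmul w m =>
      induction w using TensorProduct.induction_on with
      | zero => simp only [TensorProduct.zero_tmul, map_zero]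
      | tmul a b =>
        rw [LinearMap.rTensor_tmul, pushEquiv_tmul, LinearMap.rTensor_tmul]
        exact pushEquiv_tmul A A' M B' a (f.hom b) m
      | add x y hx hy => simp only [TensorProduct.add_tmul, map_add, hx, hy]
    | add x y hx hy => simp only [map_add, hx, hy]
  let jj : (Adeq.push A A').obj F' ⟶ uO (rMod A A' M) := mkHom
    (fun B =>
      { toFun := fun x => (toT (rMod A A' M) B).symm
          (pushEquiv A A' M B (emb j (bAlg A A' B) x))
        map_add' := fun x y => by
          show pushEquiv A A' M B (emb j (bAlg A A' B) _) = _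
          exact (congrArg (pushEquiv A A' M B) (map_add (emb j (bAlg A A' B)) x y)).trans
            (map_add (pushEquiv A A' M B) _ _)
        map_smul' := fun b x => by
          show pushEquiv A A' M B (emb j (bAlg A A' B) _) = _
          exact (congrArg (pushEquiv A A' M B)
            (map_smul (emb j (bAlg A A' B)) ((1 : A') ⊗ₜ[A] b : A' ⊗[A] B)
              (@id (F'.obj (pt (bAlg A A' B)) : Type (u + 1)) x))).trans
            (pushEquiv_smul A A' M B b _) })
    (fun {X Y} f x => by
      show pushEquiv A A' M Y (emb j (bAlg A A' Y) (tr F' ((Alg.baseChange A A').map f) x)) =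
        f.hom.toLinearMap.rTensor (rMod A A' M) (pushEquiv A A' M X (emb j (bAlg A A' X) x))
      rw [emb_tr, hTnat])
  refine adequate_iff.mpr ⟨_, _, g₀, jj, fun B => ?_, fun B z => ?_⟩
  · exact (pushEquiv A A' M B).injective.comp (hj.inj (bAlg A A' B))
  · obtain ⟨w, rfl⟩ := (pushEquiv A A' M B).surjective z
    constructor
    · intro hz
      rw [hTg, AddEquiv.map_eq_zero_iff] at hz
      obtain ⟨x, hx⟩ := (hj.exact _ w).mp hz
      exact ⟨x, congrArg (pushEquiv A A' M B) hx⟩
    · rintro ⟨x, hx⟩
      have hw : emb j (bAlg A A' B) x = w := (pushEquiv A A' M B).injective hx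
      rw [hTg, ← hw, hj.comp_zero, map_zero]

theorem unit_nat {B B' : Alg A} (f : B ⟶ B') :
    f ≫ Alg.unit A A' B' =
      Alg.unit A A' B ≫ (Alg.restr A A').map ((Alg.baseChange A A').map f) :=
  CommAlgCat.hom_ext (DFunLike.ext _ _ fun _ => rfl)

/-- The unit to the push of the restriction. -/
def unitPush (G : MVF A) : G ⟶ (Adeq.push A A').obj ((Adeq.restr A A').obj G) :=
  mkHom
    (fun B =>
      { toFun := fun x => tr G (Alg.unit A A' B) x
        map_add' := fun x y => map_add (tr G (Alg.unit A A' B)) x y
        map_smul' := fun b x => tr_smul G (Alg.unit A A' B) b x })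
    (fun {X Y} f x => by
      show tr G (Alg.unit A A' Y) (tr G f x) =
        tr G ((Alg.restr A A').map ((Alg.baseChange A A').map f)) (tr G (Alg.unit A A' X) x)
      rw [← tr_comp, ← tr_comp, unit_nat])

theorem unit_cofaces (B : Alg A) :
    Alg.unit A A' B ≫ Alg.unit A A' (rAlg A A' (bAlg A A' B)) =
      Alg.unit A A' B ≫ (Alg.restr A A').map ((Alg.baseChange A A').map (Alg.unit A A' B)) :=
  unit_nat A A' (Alg.unit A A' B)

/-- Descent of adequacy. -/
theorem adequate_of_restr {F : MVF A} (h₁ : adequate A' ((Adeq.restr A A').obj F))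
    (h₂ : ∀ B : Alg A, Function.Injective (tr F (Alg.unit A A' B)) ∧
      ∀ y, tr F (Alg.unit A A' (rAlg A A' (bAlg A A' B))) y =
        tr F ((Alg.restr A A').map ((Alg.baseChange A A').map (Alg.unit A A' B))) y →
          y ∈ Set.range (tr F (Alg.unit A A' B))) :
    adequate A F := by
  let T : MVF A ⥤ MVF A := Adeq.restr A A' ⋙ Adeq.push A A'
  have hG : adequate A (T.obj F) := adequate_push A A' h₁
  have hGG : adequate A (T.obj (T.obj F)) := adequate_push A A' (adequate_restr A A' hG)
  let η : F ⟶ T.obj F := unitPush A A' F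
  let η' : T.obj F ⟶ T.obj (T.obj F) := unitPush A A' (T.obj F)
  let d : T.obj F ⟶ T.obj (T.obj F) := T.map η - η'
  have hd : ∀ (B : Alg A) (y : F.obj (pt (rAlg A A' (bAlg A A' B)))),
      ap d B y = tr F (Alg.unit A A' (rAlg A A' (bAlg A A' B))) y -
        tr F ((Alg.restr A A').map ((Alg.baseChange A A').map (Alg.unit A A' B))) y :=
    fun B y => rfl
  have hηd : η ≫ d = 0 := hom_ext' fun B x => by
    rw [ap_comp, ap_zero]
    refine (hd B (tr F (Alg.unit A A' B) x)).trans (sub_eq_zero.mpr ?_)
    rw [← tr_comp, ← tr_comp, unit_cofaces]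
  have : IsIso (kernel.lift d η hηd) := by
    refine isIso_of_bij _ fun B => ⟨fun x y h => ?_, fun z => ?_⟩
    · refine (h₂ B).1 ?_
      have h' := congrArg (ap (kernel.ι d) B) h
      rw [← ap_comp, ← ap_comp, kernel.lift_ι] at h'
      exact h'
    · have h0 := (hd B (ap (kernel.ι d) B z)).symm.trans ((kernel_exact d B).apply_apply_eq_zero z)
      obtain ⟨x, hx⟩ := (h₂ B).2 _ (sub_eq_zero.mp h0)
      refine ⟨x, kernel_inj d B ?_⟩
      rw [← ap_comp, kernel.lift_ι]
      exact hx
  exact (adequate A).prop_of_iso (asIso (kernel.lift d η hηd)).symm (adequate_kernel d hG hGG)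

end

end Groth.Agent.AdeqLib
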