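import Mathlib.Algebra.Homology.HomologySequence
import Mathlib.Algebra.Homology.HomologicalComplexAbelian
import Mathlib.Algebra.Homology.Additive
import Mathlib.Algebra.Homology.ShortComplex.ShortExact
import Mathlib.CategoryTheory.Limits.Preserves.Shapes.Biproducts
import Mathlib.CategoryTheory.Limits.Preserves.Shapes.Kernels
import Mathlib.CategoryTheory.Preadditive.AdditiveFunctor
import Mathlib.CategoryTheory.ObjectProperty.ClosedUnderIsomorphisms

/-!
# Properties closed under kernels, cokernels and extensions, and long exact sequences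
-/

set_option autoImplicit false
set_option linter.style.haveILetI false
set_option backward.isDefEq.respectTransparency false

universe v u

open CategoryTheory CategoryTheory.Limits

namespace Groth.Agent.AdeqLib

variable {𝒜 : Type u} [Category.{v} 𝒜] [Abelian 𝒜]

/-- A weak Serre-type closure condition. -/
structure Closed (P : ObjectProperty 𝒜) : Prop where
  of_iso : ∀ {X Y : 𝒜}, (X ≅ Y) → P X → P Y
  of_isZero : ∀ {X : 𝒜}, IsZero X → P X
  ker : ∀ {X Y : 𝒜} (φ : X ⟶ Y), P X → P Y → P (kernel φ)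
  coker : ∀ {X Y : 𝒜} (φ : X ⟶ Y), P X → P Y → P (cokernel φ)
  ext : ∀ {S : ShortComplex 𝒜}, S.ShortExact → P S.X₁ → P S.X₃ → P S.X₂

variable {P : ObjectProperty 𝒜}

theorem Closed.biprod (hP : Closed P) {X Y : 𝒜} (hX : P X) (hY : P Y) : P (X ⊞ Y) :=
  hP.ext (S := ShortComplex.mk (biprod.inl : X ⟶ X ⊞ Y) (biprod.snd : X ⊞ Y ⟶ Y) (by simp))
    (ShortComplex.Splitting.shortExact
      { r := biprod.fst
        s := biprod.inr
        f_r := by simp
        s_g := by simp
        id := by simp }) hX hY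

/-- The middle term of a five term exact sequence. -/
theorem Closed.middle (hP : Closed P) {A B C D E : 𝒜} (f₁ : A ⟶ B) (f₂ : B ⟶ C) (f₃ : C ⟶ D)
    (f₄ : D ⟶ E) (w₁ : f₁ ≫ f₂ = 0) (w₂ : f₂ ≫ f₃ = 0) (w₃ : f₃ ≫ f₄ = 0)
    (h₁ : (ShortComplex.mk f₁ f₂ w₁).Exact) (h₂ : (ShortComplex.mk f₂ f₃ w₂).Exact)
    (h₃ : (ShortComplex.mk f₃ f₄ w₃).Exact) (hA : P A) (hB : P B) (hD : P D) (hE : P E) : P C := by
  let i : cokernel f₁ ⟶ C := cokernel.desc f₁ f₂ w₁
  let q : C ⟶ kernel f₄ := kernel.lift f₄ f₃ w₃
  haveI hi : Mono i := h₁.mono_cokernelDesc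
  haveI hq : Epi q := h₃.epi_kernelLift
  have w : i ≫ q = 0 := by
    rw [← cancel_mono (kernel.ι f₄), ← cancel_epi (cokernel.π f₁)]
    simp [i, q, w₂]
  have he : (ShortComplex.mk i q w).Exact := by
    rw [ShortComplex.exact_iff_exact_up_to_refinements]
    intro Z x hx
    have hx' : x ≫ f₃ = 0 := by
      have := congrArg (· ≫ kernel.ι f₄) hx
      simpa [q] using this
    obtain ⟨Z', p, hp, y, hy⟩ := h₂.exact_up_to_refinements x hx'
    exact ⟨Z', p, hp, y ≫ cokernel.π f₁, by simpa [i] using hy⟩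
  exact hP.ext (S := ShortComplex.mk i q w) ⟨he⟩ (hP.coker f₁ hA hB) (hP.ker f₄ hD hE)

/-- In a short exact sequence of cochain complexes the property passes to the cohomology of the
first term. -/
theorem Closed.homology_X₁ (hP : Closed P) {S : ShortComplex (CochainComplex 𝒜 ℕ)}
    (hS : S.ShortExact) (h₂ : ∀ n, P (S.X₂.homology n)) (h₃ : ∀ n, P (S.X₃.homology n)) (n : ℕ) :
    P (S.X₁.homology n) := by
  cases n with
  | zero =>
    haveI : Mono (HomologicalComplex.homologyMap S.f 0) := by
      haveI := hS.mono_f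
      haveI : IsIso (S.X₁.homologyπ 0) := S.X₁.isIso_homologyπ _ _ rfl (S.X₁.shape _ _ (by simp))
      haveI : IsIso (S.X₂.homologyπ 0) := S.X₂.isIso_homologyπ _ _ rfl (S.X₂.shape _ _ (by simp))
      haveI : Mono (S.f.f 0) := by
        haveI := hS.mono_f
        infer_instance
      haveI : Mono (HomologicalComplex.cyclesMap S.f 0) := by
        haveI : Mono (HomologicalComplex.cyclesMap S.f 0 ≫ S.X₂.iCycles 0) := by
          rw [HomologicalComplex.cyclesMap_i]
          infer_instance
        exact mono_of_mono _ (S.X₂.iCycles 0)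
      have : HomologicalComplex.homologyMap S.f 0 =
          inv (S.X₁.homologyπ 0) ≫ HomologicalComplex.cyclesMap S.f 0 ≫ S.X₂.homologyπ 0 := by
        rw [← HomologicalComplex.homologyπ_naturality, IsIso.inv_hom_id_assoc]
      rw [this]
      infer_instance
    let f := HomologicalComplex.homologyMap S.f 0
    let g := HomologicalComplex.homologyMap S.g 0
    have he := hS.homology_exact₂ 0
    haveI : Mono (ShortComplex.mk f g (by rw [← HomologicalComplex.homologyMap_comp, S.zero,
        HomologicalComplex.homologyMap_zero])).f := inferInstanceAs (Mono f)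
    exact hP.of_iso (IsLimit.conePointUniqueUpToIso (kernelIsKernel g) he.fIsKernel)
      (hP.ker g (h₂ 0) (h₃ 0))
  | succ n =>
    exact hP.middle (HomologicalComplex.homologyMap S.g n) (hS.δ n (n + 1) rfl)
      (HomologicalComplex.homologyMap S.f (n + 1)) (HomologicalComplex.homologyMap S.g (n + 1))
      (hS.comp_δ n (n + 1) rfl) (hS.δ_comp n (n + 1) rfl)
      (by rw [← HomologicalComplex.homologyMap_comp, S.zero, HomologicalComplex.homologyMap_zero])
      (hS.homology_exact₃ n (n + 1) rfl) (hS.homology_exact₁ n (n + 1) rfl)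
      (hS.homology_exact₂ (n + 1)) (h₂ n) (h₃ n) (h₂ (n + 1)) (h₃ (n + 1))

/-- The cohomology of a biproduct of complexes. -/
theorem Closed.homology_biprod (hP : Closed P) (C D : CochainComplex 𝒜 ℕ) (n : ℕ)
    (hC : P (C.homology n)) (hD : P (D.homology n)) : P ((C ⊞ D).homology n) := by
  let H := HomologicalComplex.homologyFunctor 𝒜 (ComplexShape.up ℕ) n
  haveI : PreservesBinaryBiproducts H := preservesBinaryBiproducts_of_preservesBiproducts H
  exact hP.of_iso (H.mapBiprod C D).symm (hP.biprod hC hD)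

end Groth.Agent.AdeqLib
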