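import Groth.Agent.AdeqLib.Ker
import Mathlib.Algebra.Category.ModuleCat.EnoughInjectives
import Mathlib.CategoryTheory.Preadditive.Injective.Basic

/-!
# Enough injectives among module-valued functors
-/

set_option autoImplicit false

universe u

open CategoryTheory Limits

namespace Groth.Agent.AdeqLib

open Adeq

noncomputable section

variable {A : Type u} [CommRing A]

/-- Values of the cofree functor of a module over `B`. -/
def Cofree (B : Alg A) (N : ModuleCat.{u + 1} B) (X : Alg A) : Type (u + 1) := (X ⟶ B) → N

instance (B : Alg A) (N : ModuleCat.{u + 1} B) (X : Alg A) : AddCommGroup (Cofree B N X) :=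
  inferInstanceAs (AddCommGroup ((X ⟶ B) → N))

instance (B : Alg A) (N : ModuleCat.{u + 1} B) (X : Alg A) :
    Module (X : Type u) (Cofree B N X) where
  smul x φ := fun f => f.hom x • φ f
  one_smul φ := funext fun f => by
    show f.hom 1 • φ f = φ f
    rw [map_one, one_smul]
  mul_smul x y φ := funext fun f => by
    show f.hom (x * y) • φ f = f.hom x • f.hom y • φ f
    rw [map_mul, mul_smul]
  smul_zero x := funext fun f => smul_zero (f.hom x)
  smul_add x φ ψ := funext fun f => smul_add (f.hom x) (φ f) (ψ f)
  add_smul x y φ := funext fun f => by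
    show f.hom (x + y) • φ f = f.hom x • φ f + f.hom y • φ f
    rw [map_add, add_smul]
  zero_smul φ := funext fun f => by
    show f.hom 0 • φ f = 0
    rw [map_zero, zero_smul]

/-- The abelian group valued cofree functor. -/
def cofreeAb (B : Alg A) (N : ModuleCat.{u + 1} B) : (Alg A)ᵒᵖᵒᵖ ⥤ Ab.{u + 1} where
  obj X := AddCommGrpCat.of (Cofree B N X.unop.unop)
  map h := AddCommGrpCat.ofHom
    { toFun := fun φ f => φ (h.unop.unop ≫ f)
      map_zero' := rfl
      map_add' := fun _ _ => rfl }
  map_id X := by
    ext φ
    exact funext fun f => congrArg φ (Category.id_comp f)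
  map_comp {X Y Z} h k := by
    ext φ
    exact funext fun f => congrArg φ (Category.assoc h.unop.unop k.unop.unop f)

instance (B : Alg A) (N : ModuleCat.{u + 1} B) (X : (Alg A)ᵒᵖᵒᵖ) :
    Module ((ringOf A).obj X) ((cofreeAb B N).obj X) :=
  inferInstanceAs (Module (X.unop.unop : Type u) (Cofree B N X.unop.unop))

/-- The cofree functor of a module over `B`. -/
def cofree (B : Alg A) (N : ModuleCat.{u + 1} B) : MVF A :=
  PresheafOfModules.ofPresheaf (cofreeAb B N) fun _ _ _ _ _ => funext fun _ => rfl

theorem cofree_injective (B : Alg A) (N : ModuleCat.{u + 1} B) [Injective N] :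
    Injective (cofree B N) := by
  refine ⟨fun {F G} θ φ hφ => ?_⟩
  let evalId : F.obj (pt B) →ₗ[(B : Type u)] N :=
    { toFun := fun x => (ap θ B x : Cofree B N B) (𝟙 B)
      map_add' := fun x y => by
        exact congrArg (fun t : Cofree B N B => t (𝟙 B)) (map_add (ap θ B) x y)
      map_smul' := fun b x => by
        exact congrArg (fun t : Cofree B N B => t (𝟙 B)) (map_smul (ap θ B) b x) }
  have : Mono (ModuleCat.ofHom (ap φ B)) := (ModuleCat.mono_iff_injective _).mpr (inj_of_mono φ B)
  let i : ModuleCat.of (B : Type u) (F.obj (pt B)) ⟶ ModuleCat.of (B : Type u) (G.obj (pt B)) :=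
    ModuleCat.ofHom (ap φ B)
  let lam : ModuleCat.of (B : Type u) (G.obj (pt B)) ⟶ N :=
    Injective.factorThru (ModuleCat.ofHom evalId) i
  have hlam : ∀ x, lam.hom (ap φ B x) = evalId x := fun x =>
    DFunLike.congr_fun (congrArg ModuleCat.Hom.hom
      (Injective.comp_factorThru (ModuleCat.ofHom evalId) i)) x
  refine ⟨mkHom (fun X =>
    { toFun := fun y => ((fun f => lam.hom (tr G f y)) : Cofree B N X)
      map_add' := fun y z => funext fun f => by
        show lam.hom (tr G f (y + z)) = lam.hom (tr G f y) + lam.hom (tr G f z)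
        rw [map_add, map_add]
      map_smul' := fun x y => funext fun f => by
        show lam.hom (tr G f (x • y)) = f.hom x • lam.hom (tr G f y)
        rw [tr_smul, map_smul] }) (fun {X Y} h y => funext fun f => by
      show lam.hom (tr G f (tr G h y)) = lam.hom (tr G (h ≫ f) y)
      rw [tr_comp]), hom_ext' fun X x => funext fun f => ?_⟩
  show lam.hom (tr G f (ap φ X x)) = (ap θ X x : Cofree B N X) f
  rw [← ap_tr, hlam]
  refine (congrArg (fun t : Cofree B N B => t (𝟙 B)) (ap_tr θ f x)).trans ?_
  exact congrArg (ap θ X x : Cofree B N X) (Category.comp_id f)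

/-- Module-valued functors have enough injectives. -/
theorem enoughInjectives_MVF : EnoughInjectives (MVF A) := by
  refine ⟨fun F => ?_⟩
  let I : ∀ B : Alg A, ModuleCat.{u + 1} B := fun B => Injective.under (F.obj (pt B))
  let comp : ∀ B : Alg A, F ⟶ cofree B (I B) := fun B => mkHom
    (fun X =>
      { toFun := fun x => ((fun f => (Injective.ι (F.obj (pt B))).hom (tr F f x)) : Cofree B (I B) X)
        map_add' := fun y z => funext fun f => by
          show (Injective.ι (F.obj (pt B))).hom (tr F f (y + z)) = _
          rw [map_add, map_add]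
          rfl
        map_smul' := fun x y => funext fun f => by
          show (Injective.ι (F.obj (pt B))).hom (tr F f (x • y)) = _
          rw [tr_smul]
          exact map_smul (Injective.ι (F.obj (pt B))).hom (f.hom x) _ })
    (fun {X Y} h x => funext fun f => by
      show (Injective.ι (F.obj (pt B))).hom (tr F f (tr F h x)) =
        (Injective.ι (F.obj (pt B))).hom (tr F (h ≫ f) x)
      rw [tr_comp])
  have hinj : ∀ B : Alg A, Injective (cofree B (I B)) := fun B => cofree_injective B (I B)
  refine ⟨{ J := ∏ᶜ fun B : Alg A => cofree B (I B), f := Pi.lift comp, injective := inferInstance, mono := ?_ }⟩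
  refine mono_of_inj _ fun X x y h => ?_
  have h1 : ap (comp X) X x = ap (comp X) X y := by
    rw [← Pi.lift_π comp X, ap_comp, ap_comp, h]
  have h2 : (Injective.ι (F.obj (pt X))).hom (tr F (𝟙 X) x) =
      (Injective.ι (F.obj (pt X))).hom (tr F (𝟙 X) y) :=
    congrArg (fun t : Cofree X (I X) X => t (𝟙 X)) h1
  rw [tr_id, tr_id] at h2
  exact (ModuleCat.mono_iff_injective (Injective.ι (F.obj (pt X)))).mp inferInstance h2

end

end Groth.Agent.AdeqLib
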