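import Groth.Agent.AdeqLib.Alg
import Mathlib.CategoryTheory.Preadditive.Basic

/-!
# Cokernels and colimits of adequate functors
-/

set_option autoImplicit false

universe u

open CategoryTheory Limits TensorProduct DirectSum

namespace Groth.Agent.AdeqLib

open Adeq

noncomputable section

variable {A : Type u} [CommRing A]

/-- Elements of a base-changed product split into their components. -/
theorem lTensor_prod_ext {C N N' : Type*} [AddCommGroup C] [Module A C] [AddCommGroup N]
    [Module A N] [AddCommGroup N'] [Module A N'] (y : C ⊗[A] (N × N')) :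
    (LinearMap.inl A N N').lTensor C ((LinearMap.fst A N N').lTensor C y) +
      (LinearMap.inr A N N').lTensor C ((LinearMap.snd A N N').lTensor C y) = y := by
  have h : (LinearMap.inl A N N').comp (LinearMap.fst A N N') +
      (LinearMap.inr A N N').comp (LinearMap.snd A N N') = LinearMap.id :=
    LinearMap.ext fun x => by simp
  rw [← LinearMap.lTensor_comp_apply, ← LinearMap.lTensor_comp_apply, ← LinearMap.add_apply,
    ← LinearMap.lTensor_add, h, LinearMap.lTensor_id_apply]

/-- The cokernel of a map of adequate functors is adequate. -/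
theorem adequate_cokernel {F G : MVF A} (φ : F ⟶ G) (hF : adequate A F) (hG : adequate A G) :
    adequate A (cokernel φ) := by
  classical
  obtain ⟨ι, P, P', h1, h2, h3, h4, a, φs, hcov⟩ := exists_linAdequate_cover hF
  obtain ⟨M', N', g', j', hj'⟩ := adequate_iff.mp hG
  choose h hh using fun i =>
    (isKer_kernel (a i)).exists_extension_free (φs i ≫ φ ≫ j')
  let H : (⨁ i, P i) →ₗ[A] M' := DirectSum.toModule A ι M' fun i => (h i).hom
  let aa : (⨁ i, P i) →ₗ[A] (⨁ i, P' i) := DirectSum.lmap fun i => (a i).hom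
  let R : Submodule A (M' × ⨁ i, P' i) := LinearMap.range (H.prod aa)
  let R' : Submodule A (N' × ⨁ i, P' i) := LinearMap.range ((g'.hom.comp H).prod aa)
  let T : (M' × ⨁ i, P' i) →ₗ[A] (N' × ⨁ i, P' i) := g'.hom.prodMap LinearMap.id
  have hR : R ≤ R'.comap T := by
    rintro _ ⟨p, rfl⟩
    exact ⟨p, rfl⟩
  let M'' : ModuleCat.{u + 1} A := ModuleCat.of A ((M' × ⨁ i, P' i) ⧸ R)
  let N'' : ModuleCat.{u + 1} A := ModuleCat.of A ((N' × ⨁ i, P' i) ⧸ R')
  let gg : M'' ⟶ N'' := ModuleCat.ofHom (R.mapQ R' T hR)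
  let i0 : M' ⟶ M'' := ModuleCat.ofHom (R.mkQ.comp (LinearMap.inl A M' (⨁ i, P' i)))
  let jX : kernel ((underline A).map gg) ⟶ uO M'' := kernel.ι ((underline A).map gg)
  have hX : IsKer jX gg := isKer_kernel gg
  have hη : ∀ B (y : G.obj (pt B)),
      gg.hom.baseChange B (emb (j' ≫ (underline A).map i0) B y) = 0 := by
    intro B y
    rw [emb_comp_map]
    show gg.hom.lTensor B (i0.hom.lTensor B (emb j' B y)) = 0
    rw [← LinearMap.lTensor_comp_apply,
      show gg.hom.comp i0.hom =
        (R'.mkQ.comp (LinearMap.inl A N' (⨁ i, P' i))).comp g'.hom from LinearMap.ext fun m => by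
          show R'.mkQ (T (m, 0)) = R'.mkQ (g'.hom m, 0)
          simp [T],
      LinearMap.lTensor_comp_apply]
    exact (congrArg _ (hj'.comp_zero B y)).trans (map_zero _)
  let ρ : G ⟶ kernel ((underline A).map gg) := hX.lift (j' ≫ (underline A).map i0) hη
  have hρ : ∀ B y, emb jX B (ap ρ B y) = i0.hom.lTensor B (emb j' B y) := fun B y => by
    rw [← emb_comp, hX.lift_fac, emb_comp_map]
    rfl
  have hHi : ∀ i, H.comp (DirectSum.lof A ι (fun i => P i) i) = (h i).hom := fun i =>
    LinearMap.ext fun x => by simp only [H, LinearMap.comp_apply, DirectSum.toModule_lof]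
  have haai : ∀ i, aa.comp (DirectSum.lof A ι (fun i => P i) i) =
      (DirectSum.lof A ι (fun i => P' i) i).comp (a i).hom := fun i =>
    LinearMap.ext fun x => by simp only [aa, LinearMap.comp_apply, DirectSum.lmap_lof]
  have hlin : ∀ B i (w : (kernel ((underline A).map (a i))).obj (pt B)),
      (h i).hom.lTensor B (emb (kernel.ι ((underline A).map (a i))) B w) =
        emb j' B (ap φ B (ap (φs i) B w)) := fun B i w =>
    congrArg (fun t : kernel ((underline A).map (a i)) ⟶ uO M' => emb t B w) (hh i)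
  have hzero : φ ≫ ρ = 0 := by
    refine hom_ext' fun B x => hX.inj B ?_
    rw [ap_zero, map_zero, ap_comp, hρ]
    obtain ⟨i, w, rfl⟩ := hcov B x
    show (R.mkQ.comp (LinearMap.inl A M' (⨁ i, P' i))).lTensor B
      (emb j' B (ap φ B (ap (φs i) B w))) = 0
    rw [← hlin, ← LinearMap.lTensor_comp_apply]
    have e : (R.mkQ.comp (LinearMap.inl A M' (⨁ i, P' i))).comp (h i).hom =
        (R.mkQ.comp (-(LinearMap.inr A M' (⨁ i, P' i)).comp
          (DirectSum.lof A ι (fun i => P' i) i))).comp (a i).hom := by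
      refine LinearMap.ext fun p => (Submodule.Quotient.eq R).mpr ?_
      refine ⟨DirectSum.lof A ι (fun i => P i) i p, ?_⟩
      show (H (DirectSum.lof A ι (fun i => P i) i p), aa (DirectSum.lof A ι (fun i => P i) i p)) =
        ((h i).hom p, (0 : ⨁ i, P' i)) -
          -((0 : M'), DirectSum.lof A ι (fun i => P' i) i ((a i).hom p))
      rw [sub_neg_eq_add, Prod.mk_add_mk, add_zero, zero_add]
      exact Prod.ext (LinearMap.congr_fun (hHi i) p) (LinearMap.congr_fun (haai i) p)
    rw [e, LinearMap.lTensor_comp_apply]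
    exact (congrArg _ ((isKer_kernel (a i)).comp_zero B w)).trans (map_zero _)
  have hker : ∀ B y, ap ρ B y = 0 → ∃ x, ap φ B x = y := by
    intro B y hy
    have h0 : R.mkQ.lTensor B ((LinearMap.inl A M' (⨁ i, P' i)).lTensor B (emb j' B y)) = 0 := by
      rw [← LinearMap.lTensor_comp_apply]
      exact (hρ B y).symm.trans ((congrArg _ hy).trans (map_zero _))
    obtain ⟨p, hp⟩ := (lTensor_exact (B : Type u) (LinearMap.exact_map_mkQ_range (H.prod aa))
      (Submodule.mkQ_surjective R) _).mp h0
    have hpa : aa.lTensor B p = 0 := by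
      have := congrArg ((LinearMap.snd A M' (⨁ i, P' i)).lTensor B) hp
      rw [← LinearMap.lTensor_comp_apply, ← LinearMap.lTensor_comp_apply, LinearMap.snd_prod,
        LinearMap.snd_comp_inl, LinearMap.lTensor_zero, LinearMap.zero_apply] at this
      exact this
    have hpH : H.lTensor B p = emb j' B y := by
      have := congrArg ((LinearMap.fst A M' (⨁ i, P' i)).lTensor B) hp
      rw [← LinearMap.lTensor_comp_apply, ← LinearMap.lTensor_comp_apply, LinearMap.fst_prod,
        LinearMap.fst_comp_inl, LinearMap.lTensor_id_apply] at this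
      exact this
    obtain ⟨s, hs⟩ := sum_component p
    have hk : ∀ i, ∃ w, emb (kernel.ι ((underline A).map (a i))) B w =
        (DirectSum.component A ι (fun i => P i) i).lTensor B p := by
      intro i
      refine ((isKer_kernel (a i)).exact B _).mp ?_
      show (a i).hom.lTensor B _ = 0
      rw [← LinearMap.lTensor_comp_apply,
        show (a i).hom.comp (DirectSum.component A ι (fun i => P i) i) =
          (DirectSum.component A ι (fun i => P' i) i).comp aa from
            LinearMap.ext fun m => (DirectSum.lmap_apply (fun i => (a i).hom) m i).symm,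
        LinearMap.lTensor_comp_apply, hpa, map_zero]
    choose w hw using hk
    refine ⟨∑ i ∈ s, ap (φs i) B (w i), hj'.inj B ?_⟩
    rw [← hpH, hs, map_sum, map_sum, map_sum]
    refine Finset.sum_congr rfl fun i _ => ?_
    rw [← LinearMap.lTensor_comp_apply, hHi, ← hw, hlin]
  have hsurj : ∀ B, Function.Surjective (ap ρ B) := by
    intro B z
    obtain ⟨w, hw⟩ := LinearMap.lTensor_surjective (B : Type u) (Submodule.mkQ_surjective R)
      (emb jX B z)
    have h0 : R'.mkQ.lTensor B (T.lTensor B w) = 0 := by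
      rw [← LinearMap.lTensor_comp_apply, show R'.mkQ.comp T = gg.hom.comp R.mkQ from rfl,
        LinearMap.lTensor_comp_apply, hw]
      exact hX.comp_zero B z
    obtain ⟨p, hp⟩ := (lTensor_exact (B : Type u)
      (LinearMap.exact_map_mkQ_range ((g'.hom.comp H).prod aa))
      (Submodule.mkQ_surjective R') _).mp h0
    let w' : B ⊗[A] (M' × ⨁ i, P' i) := w - (H.prod aa).lTensor B p
    have hT : T.lTensor B w' = 0 := by
      rw [map_sub, ← LinearMap.lTensor_comp_apply, sub_eq_zero, ← hp]
      rfl
    have hsnd : (LinearMap.snd A M' (⨁ i, P' i)).lTensor B w' = 0 := by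
      have := congrArg ((LinearMap.snd A N' (⨁ i, P' i)).lTensor B) hT
      rw [← LinearMap.lTensor_comp_apply, map_zero] at this
      exact this
    have hfst : g'.hom.lTensor B ((LinearMap.fst A M' (⨁ i, P' i)).lTensor B w') = 0 := by
      have := congrArg ((LinearMap.fst A N' (⨁ i, P' i)).lTensor B) hT
      rw [← LinearMap.lTensor_comp_apply, map_zero] at this
      rw [← LinearMap.lTensor_comp_apply]
      exact this
    obtain ⟨y, hy⟩ := (hj'.exact B _).mp hfst
    refine ⟨y, hX.inj B ?_⟩
    have hdec := lTensor_prod_ext w'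
    rw [hsnd, map_zero, add_zero] at hdec
    rw [hρ, hy, ← hw]
    show (R.mkQ.comp (LinearMap.inl A M' (⨁ i, P' i))).lTensor B
      ((LinearMap.fst A M' (⨁ i, P' i)).lTensor B w') = R.mkQ.lTensor B w
    rw [LinearMap.lTensor_comp_apply, hdec, map_sub, ← LinearMap.lTensor_comp_apply,
      LinearMap.range_mkQ_comp, LinearMap.lTensor_zero, LinearMap.zero_apply, sub_zero]
  let κ : cokernel φ ⟶ kernel ((underline A).map gg) := cokernel.desc φ ρ hzero
  have : IsIso κ := by
    refine isIso_of_bij κ fun B => ⟨(injective_iff_map_eq_zero _).mpr fun z hz => ?_, fun z => ?_⟩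
    · obtain ⟨y, rfl⟩ := surj_of_epi (cokernel.π φ) B z
      obtain ⟨x, rfl⟩ := hker B y (by
        rw [← cokernel.π_desc φ ρ hzero, ap_comp]
        exact hz)
      rw [← ap_comp, cokernel.condition, ap_zero]
    · obtain ⟨y, rfl⟩ := hsurj B z
      exact ⟨ap (cokernel.π φ) B y, by rw [← ap_comp, cokernel.π_desc]⟩
  exact adequate_iff.mpr ⟨M'', N'', gg, κ ≫ jX, hX.of_iso (asIso κ)⟩

open HasColimitOfHasCoproductsOfHasCoequalizers in
/-- A colimit of adequate functors is adequate. -/
theorem adequate_colimit {J : Type (u + 1)} [SmallCategory J] (D : J ⥤ MVF A)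
    (hD : ∀ j, adequate A (D.obj j)) : adequate A (colimit D) := by
  obtain ⟨c₁, t₁, hc₁⟩ := exists_adequate_cofan
    (fun f : Σ p : J × J, p.1 ⟶ p.2 => D.obj f.1.1) (fun f => hD _)
  obtain ⟨c₂, t₂, hc₂⟩ := exists_adequate_cofan D.obj hD
  let s : c₁.pt ⟶ c₂.pt := Cofan.IsColimit.desc t₁ fun f => D.map f.2 ≫ c₂.inj f.1.2
  let t : c₁.pt ⟶ c₂.pt := Cofan.IsColimit.desc t₁ fun f => c₂.inj f.1.1
  let i : Cofork s t := Preadditive.coforkOfCokernelCofork
    (CokernelCofork.ofπ (cokernel.π (s - t)) (cokernel.condition (s - t)))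
  have hi : IsColimit i :=
    Preadditive.isColimitCoforkOfCokernelCofork (cokernelIsCokernel (s - t))
  have hlim := buildIsColimit (F := D) s t
    (fun f => Cofan.IsColimit.fac t₁ _ f) (fun f => Cofan.IsColimit.fac t₁ _ f) t₁ t₂ hi
  exact (adequate A).prop_of_iso
    (hlim.coconePointUniqueUpToIso (colimit.isColimit D))
    (adequate_cokernel (s - t) hc₁ hc₂)

end

end Groth.Agent.AdeqLib
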