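import Groth.Agent.AdeqLib.SpecOver
import Groth.Agent.AdeqLib.Change

/-!
# Comparison of the functors attached to a presheaf of modules on the big site
-/

set_option autoImplicit false
set_option linter.style.haveILetI false
set_option backward.isDefEq.respectTransparency false
set_option backward.isDefEq.respectTransparency.types false

universe u

open CategoryTheory Limits TensorProduct Opposite AlgebraicGeometry

namespace Groth.Agent.AdeqLib

open Adeq

noncomputable section

variable {K : Precoverage Scheme.{u}} [BigSite.OSh K] {S : Scheme.{u}}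

/-- Presheaves of modules on the big site. -/
abbrev PMod (K : Precoverage Scheme.{u}) [BigSite.OSh K] (S : Scheme.{u}) :=
  PresheafOfModules.{u + 1} (BigSite.ORing K S).obj

/-- The restriction maps of a presheaf of modules. -/
abbrev rs (P : PMod K S) {U V : Over S} (g : V ⟶ U) :
    P.presheaf.obj (op U) →+ P.presheaf.obj (op V) :=
  (P.presheaf.map g.op).hom

theorem rs_comp (P : PMod K S) {U V W : Over S} (g : V ⟶ U) (h : W ⟶ V)
    (x : P.presheaf.obj (op U)) : rs P (h ≫ g) x = rs P h (rs P g x) := by
  show P.presheaf.map (g.op ≫ h.op) x = P.presheaf.map h.op (P.presheaf.map g.op x)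
  rw [Functor.map_comp, ConcreteCategory.comp_apply]

theorem rs_id (P : PMod K S) (U : Over S) (x : P.presheaf.obj (op U)) : rs P (𝟙 U) x = x := by
  show P.presheaf.map (𝟙 (op U)) x = x
  rw [P.presheaf.map_id]
  rfl

theorem rs_bijective (P : PMod K S) {U V : Over S} (g : V ⟶ U) [IsIso g] :
    Function.Bijective (rs P g) := by
  refine ⟨fun x y h => ?_, fun y => ⟨rs P (inv g) y, ?_⟩⟩
  · rw [← rs_id P U x, ← rs_id P U y, ← IsIso.inv_hom_id g, rs_comp, rs_comp, h]
  · rw [← rs_comp, IsIso.hom_inv_id, rs_id]

theorem ap_map {R : CommRingCat.{u}} (a : Spec R ⟶ S) {P Q : PMod K S} (ψ : P ⟶ Q) (B : Alg R)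
    (x : ((toMVFPre K a).obj P).obj (pt B)) :
    ap ((toMVFPre K a).map ψ) B x =
      ((PresheafOfModules.toPresheaf _).map ψ).app (op (sO a B)) x :=
  rfl

theorem tr_toMVFPre {R : CommRingCat.{u}} (a : Spec R ⟶ S) (P : PMod K S) {B B' : Alg R}
    (f : B ⟶ B') (x : ((toMVFPre K a).obj P).obj (pt B)) :
    tr ((toMVFPre K a).obj P) f x = rs P (sM a f) x :=
  rfl

/-- Restriction to the spectrum of an algebra map is semilinear. -/
theorem rs_toSect {R R' : CommRingCat.{u}} (a : Spec R ⟶ S) (a' : Spec R' ⟶ S) (P : PMod K S)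
    {B : Alg R} {B' : Alg R'} (g : sO a' B' ⟶ sO a B) (φ : (B : Type u) →+* (B' : Type u))
    (hg : g.left = Spec.map (CommRingCat.ofHom φ)) (b : B)
    (x : ((toMVFPre K a).obj P).obj (pt B)) :
    rs P g (b • x : ((toMVFPre K a).obj P).obj (pt B)) =
      (φ b • (id (rs P g x) : ((toMVFPre K a').obj P).obj (pt B')) :
        ((toMVFPre K a').obj P).obj (pt B')) := by
  have h := P.map_smul g.op (toSect K a B b) x
  refine h.trans ?_
  congr 1
  apply ULift.ext
  change ((Scheme.ΓSpecIso (CommRingCat.of B)).inv ≫ g.left.appTop) b =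
    (CommRingCat.ofHom φ ≫ (Scheme.ΓSpecIso (CommRingCat.of B')).inv) b
  rw [Scheme.ΓSpecIso_inv_naturality, hg]
  rfl

section Restr

variable {R R' : CommRingCat.{u}} [Algebra R R'] (a : Spec R ⟶ S) (a' : Spec R' ⟶ S)
  (h : Spec.map (CommRingCat.ofHom (algebraMap R R')) ≫ a = a')

/-- The comparison of the two objects of an algebra over `R'`. -/
def restrObjHom (B : Alg R') : sO a' B ⟶ sO a (rAlg R R' B) :=
  Over.homMk (𝟙 (Spec (CommRingCat.of B))) (by
    show 𝟙 _ ≫ Spec.map (CommRingCat.ofHom ((algebraMap R' B).comp (algebraMap R R'))) ≫ a =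
      Spec.map (CommRingCat.ofHom (algebraMap R' B)) ≫ a'
    rw [Category.id_comp, ← h, CommRingCat.ofHom_comp, Spec.map_comp, Category.assoc])

instance (B : Alg R') : IsIso (restrObjHom a a' h B) := by
  haveI : IsIso ((Over.forget S).map (restrObjHom a a' h B)) := inferInstanceAs (IsIso (𝟙 _))
  exact isIso_of_reflects_iso _ (Over.forget S)

/-- The comparison map for a restriction. -/
def restrCmp (P : PMod K S) :
    (Adeq.restr R R').obj ((toMVFPre K a).obj P) ⟶ (toMVFPre K a').obj P :=
  mkHom
    (fun B =>
      { toFun := fun x => rs P (restrObjHom a a' h B) x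
        map_add' := fun x y => map_add (rs P (restrObjHom a a' h B)) x y
        map_smul' := fun b x =>
          rs_toSect a a' P (B := rAlg R R' B) (B' := B) (restrObjHom a a' h B) (RingHom.id B)
            (by rw [CommRingCat.ofHom_id]; exact (Spec.map_id _).symm) b x })
    (fun {X Y} f x => by
      show rs P (restrObjHom a a' h Y) (rs P (sM a ((Alg.restr R R').map f)) x) =
        rs P (sM a' f) (rs P (restrObjHom a a' h X) x)
      rw [← rs_comp, ← rs_comp]
      refine congrArg (fun g => rs P g x) (Over.OverMorphism.ext ?_)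
      exact (Category.id_comp _).trans (Category.comp_id _).symm)

instance isIso_restrCmp (P : PMod K S) : IsIso (restrCmp a a' h P) :=
  isIso_of_bij _ fun B => rs_bijective P (restrObjHom a a' h B)

include h in
theorem adequate_of_restr_eq {P : PMod K S} :
    adequate R' ((toMVFPre K a').obj P) ↔
      adequate R' ((Adeq.restr R R').obj ((toMVFPre K a).obj P)) :=
  ⟨fun hP => (adequate R').prop_of_iso (asIso (restrCmp a a' h P)).symm hP,
    fun hP => (adequate R').prop_of_iso (asIso (restrCmp a a' h P)) hP⟩

include h in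
theorem adequate_change {P : PMod K S} (hP : adequate R ((toMVFPre K a).obj P)) :
    adequate R' ((toMVFPre K a').obj P) :=
  (adequate_of_restr_eq a a' h).mpr (adequate_restr R R' hP)

end Restr

section Pull

variable {T : Scheme.{u}} (f : T ⟶ S) {R : CommRingCat.{u}} (a : Spec R ⟶ T) (M : BigSite.Mod K S)

/-- The comparison of objects under composition. -/
def pullObjHom (B : Alg R) : sO (a ≫ f) B ⟶ (Over.map f).obj (sO a B) :=
  Over.homMk (𝟙 (Spec (CommRingCat.of B))) (by
    show 𝟙 _ ≫ (Spec.map (CommRingCat.ofHom (algebraMap R B)) ≫ a) ≫ f =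
      Spec.map (CommRingCat.ofHom (algebraMap R B)) ≫ a ≫ f
    rw [Category.id_comp, Category.assoc])

instance (B : Alg R) : IsIso (pullObjHom f a B) := by
  haveI : IsIso ((Over.forget S).map (pullObjHom f a B)) := inferInstanceAs (IsIso (𝟙 _))
  exact isIso_of_reflects_iso _ (Over.forget S)

/-- The comparison map for a pullback. -/
def pullCmp :
    (toMVF K a).obj ((BigSite.pullMod K f).obj M) ⟶ (toMVF K (a ≫ f)).obj M :=
  mkHom
    (fun B =>
      { toFun := fun x => rs M.val (pullObjHom f a B) x
        map_add' := fun x y => map_add (rs M.val (pullObjHom f a B)) x y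
        map_smul' := fun b x => by
          have h := M.val.map_smul (pullObjHom f a B).op (toSect K a B b) x
          refine h.trans ?_
          congr 1 })
    (fun {X Y} g x => by
      show rs M.val (pullObjHom f a Y) (rs M.val ((Over.map f).map (sM a g)) x) =
        rs M.val (sM (a ≫ f) g) (rs M.val (pullObjHom f a X) x)
      rw [← rs_comp, ← rs_comp]
      refine congrArg (fun g => rs M.val g x) (Over.OverMorphism.ext ?_)
      exact (Category.id_comp _).trans (Category.comp_id _).symm)

instance isIso_pullCmp : IsIso (pullCmp f a M) :=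
  isIso_of_bij _ fun B => rs_bijective M.val (pullObjHom f a B)

theorem adequate_pull_iff :
    adequate R ((toMVF K a).obj ((BigSite.pullMod K f).obj M)) ↔
      adequate R ((toMVF K (a ≫ f)).obj M) :=
  ⟨fun hP => (adequate R).prop_of_iso (asIso (pullCmp f a M)) hP,
    fun hP => (adequate R).prop_of_iso (asIso (pullCmp f a M)).symm hP⟩

end Pull

end

end Groth.Agent.AdeqLib
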