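import Groth.Agent.Coherent.ModulesExact
import Groth.Prelude.Def_BigSite2

/-!
# Short exact sequences of modules on big sites are exact on abelian sheaves
-/

set_option autoImplicit false
set_option backward.isDefEq.respectTransparency false
set_option backward.isDefEq.respectTransparency.types false

universe u

open CategoryTheory Limits AlgebraicGeometry

namespace Groth.Agent.AdeqLib

variable {K : Precoverage Scheme.{u}} [BigSite.OSh K] {S : Scheme.{u}}

theorem shortExact_toAb {C : ShortComplex (BigSite.Mod K S)} (hC : C.ShortExact) :
    (C.map (BigSite.toAbMod K S)).ShortExact :=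
  have := hC.mono_f
  have := hC.epi_g
  have : Mono (C.map (BigSite.toAbMod K S)).f := (BigSite.toAbMod K S).map_mono C.f
  have : Epi (C.map (BigSite.toAbMod K S)).g := Coherent.epi_toSheaf_map C.g
  ⟨hC.exact.map_of_mono_of_preservesKernel _ hC.mono_f inferInstance⟩

end Groth.Agent.AdeqLib
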