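import Mathlib.LinearAlgebra.TensorProduct.Vanishing
import Mathlib.RingTheory.TensorProduct.DirectLimitFG
import Mathlib.LinearAlgebra.Quotient.Basic

/-!
# Finitely presented witnesses for vanishing in tensor products
-/

set_option autoImplicit false

open TensorProduct

namespace Groth.Agent.AdeqLib

noncomputable section

/-- The map `A^ι → C` given by a family. -/
def famMap {A : Type*} [CommRing A] {ι : Type*} [Fintype ι] {C : Type*} [AddCommGroup C]
    [Module A C] (v : ι → C) : (ι → A) →ₗ[A] C where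
  toFun x := ∑ i, x i • v i
  map_add' x y := by simp only [Pi.add_apply, add_smul, Finset.sum_add_distrib]
  map_smul' r x := by simp only [Pi.smul_apply, smul_eq_mul, mul_smul, Finset.smul_sum,
    RingHom.id_apply]

theorem famMap_apply {A : Type*} [CommRing A] {ι : Type*} [Fintype ι] {C : Type*}
    [AddCommGroup C] [Module A C] (v : ι → C) (x : ι → A) : famMap v x = ∑ i, x i • v i := rfl

theorem famMap_single {A : Type*} [CommRing A] {ι : Type*} [Fintype ι] [DecidableEq ι] {C : Type*}
    [AddCommGroup C] [Module A C] (v : ι → C) (i : ι) (r : A) :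
    famMap v (Pi.single i r) = r • v i := by
  rw [famMap_apply, Finset.sum_eq_single i (fun j _ hj => by rw [Pi.single_eq_of_ne hj, zero_smul])
    (fun h => (h (Finset.mem_univ i)).elim), Pi.single_eq_same]

theorem famMap_comp {A : Type*} [CommRing A] {ι κ : Type*} [Fintype ι] [Fintype κ] {C : Type*}
    [AddCommGroup C] [Module A C] (v : ι → C) (a : κ → ι → A) :
    (famMap v).comp (famMap (A := A) a) = famMap (fun l => famMap v (a l)) := by
  refine LinearMap.ext fun x => ?_
  rw [LinearMap.comp_apply, famMap_apply (A := A) a, map_sum, famMap_apply]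
  exact Finset.sum_congr rfl fun l _ => map_smul _ _ _

/-- An element of a tensor product is a combination of finitely many pure tensors, indexed. -/
theorem exists_fin_sum {A : Type*} [CommRing A] {C M : Type*} [AddCommGroup C] [Module A C]
    [AddCommGroup M] [Module A M] (y : C ⊗[A] M) :
    ∃ (n : ℕ) (v : Fin n → C) (m : Fin n → M), y = ∑ i, v i ⊗ₜ[A] m i :=
  TensorProduct.exists_sum_tmul_eq y

/-- A vanishing combination of pure tensors is explained by finitely many relations among
finitely many elements. -/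
theorem exists_relations {A : Type*} [CommRing A] {C N : Type*} [AddCommGroup C] [Module A C]
    [AddCommGroup N] [Module A N] {n : ℕ} (v : Fin n → C) (w : Fin n → N)
    (h : ∑ i, v i ⊗ₜ[A] w i = 0) :
    ∃ (s r : ℕ) (c : Fin s → C) (a : Fin r → (Fin n ⊕ Fin s → A)) (y : Fin r → N),
      (∀ i, w i = ∑ l, a l (.inl i) • y l) ∧ (∀ t, ∑ l, a l (.inr t) • y l = 0) ∧
        ∀ l, famMap (Sum.elim v c) (a l) = 0 := by
  classical
  let P : Submodule A C := Submodule.span A (Set.range v)
  have hP : P.FG := Submodule.fg_span (Set.finite_range v)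
  have hv : ∀ i, v i ∈ P := fun i => Submodule.subset_span ⟨i, rfl⟩
  obtain ⟨Q, hPQ, hQ, hz⟩ := TensorProduct.eq_zero_of_fg_of_subtype_eq_zero (N := N)
    (t := ∑ i, (⟨v i, hv i⟩ : P) ⊗ₜ[A] w i) hP (by simpa using h)
  obtain ⟨s, c, hc⟩ := Submodule.fg_iff_exists_fin_generating_family.1 hQ
  have hcQ : ∀ t, c t ∈ Q := fun t => hc ▸ Submodule.subset_span ⟨t, rfl⟩
  let m' : Fin n ⊕ Fin s → Q := Sum.elim (fun i => ⟨v i, hPQ (hv i)⟩) (fun t => ⟨c t, hcQ t⟩)
  have hm' : Submodule.span A (Set.range m') = ⊤ := by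
    refine Submodule.map_injective_of_injective Q.injective_subtype ?_
    rw [Submodule.map_span, Submodule.map_top, Submodule.range_subtype, ← Set.range_comp]
    refine le_antisymm (Submodule.span_le.mpr ?_) ?_
    · rintro _ ⟨i, rfl⟩
      exact (m' i).2
    · conv_lhs => rw [← hc]
      refine Submodule.span_mono ?_
      rintro _ ⟨t, rfl⟩
      exact ⟨.inr t, rfl⟩
  have hz' : ∑ i, m' i ⊗ₜ[A] (Sum.elim w (fun _ => (0 : N))) i = 0 := by
    rw [Fintype.sum_sum_type]
    simp only [m', Sum.elim_inl, Sum.elim_inr, tmul_zero, Finset.sum_const_zero, add_zero]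
    simp only [map_sum] at hz
    exact hz
  obtain ⟨r, a, y, h1, h2⟩ := TensorProduct.vanishesTrivially_of_sum_tmul_eq_zero A hm' hz'
  refine ⟨s, r, c, fun l i => a i l, y, fun i => h1 (.inl i), fun t => (h1 (.inr t)).symm,
    fun l => ?_⟩
  have h3 := congrArg (fun q : Q => (q : C)) (h2 l)
  simp only [Submodule.coe_sum, Submodule.coe_smul, ZeroMemClass.coe_zero] at h3
  rw [famMap_apply]
  refine (Finset.sum_congr rfl fun i _ => ?_).trans h3
  cases i <;> rfl

/-- An element killed by `g` comes from a finitely presented module where it is killed by `g`. -/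
theorem exists_fp_lift {A : Type*} [CommRing A] {C M N : Type*} [AddCommGroup C] [Module A C]
    [AddCommGroup M] [Module A M] [AddCommGroup N] [Module A N] (g : M →ₗ[A] N) {n : ℕ}
    (v : Fin n → C) (m : Fin n → M) (h : g.lTensor C (∑ i, v i ⊗ₜ[A] m i) = 0) :
    ∃ (s r : ℕ) (a : Fin r → (Fin n ⊕ Fin s → A))
      (f : ((Fin n ⊕ Fin s → A) ⧸ LinearMap.range (famMap (A := A) a)) →ₗ[A] C),
      (∀ i, f (Submodule.Quotient.mk (Pi.single (.inl i) 1)) = v i) ∧
      g.lTensor ((Fin n ⊕ Fin s → A) ⧸ LinearMap.range (famMap (A := A) a))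
        (∑ i, (Submodule.Quotient.mk (Pi.single (.inl i) 1) :
          (Fin n ⊕ Fin s → A) ⧸ LinearMap.range (famMap (A := A) a)) ⊗ₜ[A] m i) = 0 := by
  classical
  simp only [map_sum, LinearMap.lTensor_tmul] at h
  obtain ⟨s, r, c, a, y, h1, h2, h3⟩ := exists_relations v (fun i => g (m i)) h
  have hle : LinearMap.range (famMap (A := A) a) ≤ LinearMap.ker (famMap (Sum.elim v c)) := by
    rintro _ ⟨x, rfl⟩
    rw [LinearMap.mem_ker, famMap_apply (A := A) a, map_sum]
    exact Finset.sum_eq_zero fun l _ => by rw [map_smul, h3, smul_zero]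
  refine ⟨s, r, a, Submodule.liftQ _ _ hle, fun i => ?_, ?_⟩
  · rw [Submodule.liftQ_apply, famMap_single, one_smul, Sum.elim_inl]
  · let q := (LinearMap.range (famMap (A := A) a)).mkQ
    have key : ∀ l, ∑ i, a l i • q (Pi.single i (1 : A)) = 0 := fun l => by
      rw [← Submodule.Quotient.mk_zero]
      simp only [← map_smul, ← map_sum]
      refine (Submodule.Quotient.eq _).mpr ⟨Pi.single l 1, ?_⟩
      rw [famMap_single, one_smul, sub_zero]
      exact funext fun i => by simp [Finset.sum_apply, Pi.single_apply]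
    simp only [map_sum, LinearMap.lTensor_tmul]
    calc ∑ i, q (Pi.single (.inl i) (1 : A)) ⊗ₜ[A] g (m i)
        = ∑ i : Fin n ⊕ Fin s, q (Pi.single i (1 : A)) ⊗ₜ[A] ∑ l, a l i • y l := by
          rw [Fintype.sum_sum_type]
          simp only [h2, tmul_zero, Finset.sum_const_zero, add_zero]
          exact Finset.sum_congr rfl fun i _ => by rw [h1]
      _ = ∑ l, (∑ i, a l i • q (Pi.single i (1 : A))) ⊗ₜ[A] y l := by
          simp only [tmul_sum, sum_tmul, tmul_smul, smul_tmul']
          exact Finset.sum_comm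
      _ = 0 := Finset.sum_eq_zero fun l _ => by rw [key, zero_tmul]

end

end Groth.Agent.AdeqLib
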