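import Groth.Prelude.Def_Adeq
import Mathlib.Algebra.TrivSqZeroExt.Basic
import Mathlib.Algebra.DualNumber

/-!
# Square-zero algebras of modules and dual numbers, as objects of `Alg A`
-/

set_option autoImplicit false

universe u

open CategoryTheory

namespace Groth.Agent.AdeqLib

open Adeq

noncomputable section

variable {A : Type u} [CommRing A]

/-- The right action on a module over a commutative ring. -/
@[reducible] def opMod (N : ModuleCat.{u} A) : Module Aᵐᵒᵖ N :=
  Module.compHom N (RingEquiv.toOpposite A).symm.toRingHom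

attribute [local instance] opMod

instance opMod_central (N : ModuleCat.{u} A) : IsCentralScalar A N := ⟨fun _ _ => rfl⟩

instance opMod_tower (N : ModuleCat.{u} A) : IsScalarTower A Aᵐᵒᵖ N :=
  ⟨fun a b n => by
    show (MulOpposite.unop (a • b)) • n = a • (MulOpposite.unop b • n)
    rw [MulOpposite.unop_smul, smul_eq_mul, mul_smul]⟩

/-- The algebra `A ⊕ N`. -/
def Sq (N : ModuleCat.{u} A) : Alg A := algOf A (TrivSqZeroExt A N)

/-- The projection to `A`. -/
def sqFstHom (N : ModuleCat.{u} A) : Sq N ⟶ algOf A A :=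
  CommAlgCat.ofHom (TrivSqZeroExt.fstHom A A N)

/-- The section of the projection to `A`. -/
def sqInlHom (N : ModuleCat.{u} A) : algOf A A ⟶ Sq N :=
  CommAlgCat.ofHom (TrivSqZeroExt.inlAlgHom A A N)

/-- The projection to `N`. -/
def sqSnd (N : ModuleCat.{u} A) : Sq N →ₗ[A] N := TrivSqZeroExt.sndHom A N

/-- The inclusion of `N`. -/
def sqInr (N : ModuleCat.{u} A) : N →ₗ[A] Sq N := TrivSqZeroExt.inrHom A N

theorem sqSnd_inr (N : ModuleCat.{u} A) (n : N) : sqSnd N (sqInr N n) = n :=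
  TrivSqZeroExt.snd_inr A n

theorem sqFst_inr (N : ModuleCat.{u} A) (n : N) : (sqFstHom N).hom (sqInr N n) = 0 :=
  TrivSqZeroExt.fst_inr A n

theorem sq_decomp (N : ModuleCat.{u} A) (x : Sq N) :
    (sqInlHom N).hom ((sqFstHom N).hom x) + sqInr N (sqSnd N x) = x :=
  TrivSqZeroExt.inl_fst_add_inr_snd_eq x

theorem sqInr_mul (N : ModuleCat.{u} A) (n n' : N) : sqInr N n * sqInr N n' = 0 :=
  TrivSqZeroExt.inr_mul_inr A n n'

/-- The map of algebras induced by a map of modules. -/
def sqMap {N N' : ModuleCat.{u} A} (h : N →ₗ[A] N') : Sq N ⟶ Sq N' :=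
  CommAlgCat.ofHom (TrivSqZeroExt.map h)

theorem sqSnd_map {N N' : ModuleCat.{u} A} (h : N →ₗ[A] N') (x : Sq N) :
    sqSnd N' ((sqMap h).hom x) = h (sqSnd N x) :=
  TrivSqZeroExt.snd_map h x

theorem sqFst_map {N N' : ModuleCat.{u} A} (h : N →ₗ[A] N') (x : Sq N) :
    (sqFstHom N').hom ((sqMap h).hom x) = (sqFstHom N).hom x :=
  TrivSqZeroExt.fst_map h x

theorem sqMap_inr {N N' : ModuleCat.{u} A} (h : N →ₗ[A] N') (n : N) :
    (sqMap h).hom (sqInr N n) = sqInr N' (h n) :=
  TrivSqZeroExt.map_inr h n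

theorem sqMap_fst {N N' : ModuleCat.{u} A} (h : N →ₗ[A] N') :
    sqMap h ≫ sqFstHom N' = sqFstHom N :=
  CommAlgCat.hom_ext (AlgHom.ext (sqFst_map h))

theorem sqInl_fst (N : ModuleCat.{u} A) : sqInlHom N ≫ sqFstHom N = 𝟙 (algOf A A) :=
  CommAlgCat.hom_ext (AlgHom.ext fun a => TrivSqZeroExt.fst_inl N a)

theorem sqMap_comp {N N' N'' : ModuleCat.{u} A} (h : N →ₗ[A] N') (k : N' →ₗ[A] N'') :
    sqMap (k.comp h) = sqMap h ≫ sqMap k :=
  CommAlgCat.hom_ext (TrivSqZeroExt.map_comp_map h k)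

theorem eps_mul_inl {S : Type u} [CommRing S] (b : S) :
    (DualNumber.eps : DualNumber S) * TrivSqZeroExt.inl b = TrivSqZeroExt.inr b := by
  show (TrivSqZeroExt.inr (1 : S) : DualNumber S) * TrivSqZeroExt.inl b = _
  rw [TrivSqZeroExt.inr_mul_inl, op_smul_eq_smul, smul_eq_mul, mul_one]

/-- The dual numbers over an algebra. -/
def Dual (B : Alg A) : Alg A := algOf A (DualNumber B)

/-- The inclusion of an algebra into its dual numbers. -/
def dualInl (B : Alg A) : B ⟶ Dual B :=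
  CommAlgCat.ofHom (TrivSqZeroExt.inlAlgHom A B B)

/-- The projection of the dual numbers. -/
def dualFst (B : Alg A) : Dual B ⟶ B :=
  CommAlgCat.ofHom (TrivSqZeroExt.fstHom A B B)

/-- The nilpotent element. -/
def dualEps (B : Alg A) : Dual B := DualNumber.eps

/-- The projection to the nilpotent part. -/
def dualSnd (B : Alg A) : Dual B →ₗ[A] B := (TrivSqZeroExt.sndHom B B).restrictScalars A

theorem dualSnd_eps_mul (B : Alg A) (b : B) :
    dualSnd B (dualEps B * (dualInl B).hom b) = b := by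
  exact (congrArg TrivSqZeroExt.snd (eps_mul_inl (S := (B : Type u)) b)).trans
    (TrivSqZeroExt.snd_inr _ _)

/-- The map `A ⊕ N → B[ε]` given by a linear map `N → B`. -/
def sqEps {N : ModuleCat.{u} A} {B : Alg A} (f : N →ₗ[A] B) : Sq N ⟶ Dual B :=
  CommAlgCat.ofHom (TrivSqZeroExt.lift (Algebra.ofId A (DualNumber B))
    (((TrivSqZeroExt.inrHom B B).restrictScalars A).comp f)
    (fun _ _ => TrivSqZeroExt.inr_mul_inr _ _ _)
    (fun r n => by rw [map_smul, Algebra.ofId_apply, ← Algebra.smul_def])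
    (fun r n => by
      rw [op_smul_eq_smul, map_smul, Algebra.ofId_apply, ← Algebra.commutes, ← Algebra.smul_def]))

theorem sqEps_inr {N : ModuleCat.{u} A} {B : Alg A} (f : N →ₗ[A] B) (n : N) :
    (sqEps f).hom (sqInr N n) = dualEps B * (dualInl B).hom (f n) := by
  refine Eq.trans ?_ (eps_mul_inl (S := (B : Type u)) (f n)).symm
  show algebraMap A (DualNumber B) 0 + TrivSqZeroExt.inr (f n) = TrivSqZeroExt.inr (f n)
  rw [map_zero, zero_add]

theorem dualSnd_sqEps {N : ModuleCat.{u} A} {B : Alg A} (f : N →ₗ[A] B) (x : Sq N) :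
    dualSnd B ((sqEps f).hom x) = f (sqSnd N x) := by
  show TrivSqZeroExt.snd (algebraMap A (DualNumber B) (TrivSqZeroExt.fst x) +
    TrivSqZeroExt.inr (f (TrivSqZeroExt.snd x))) = f (TrivSqZeroExt.snd x)
  simp [TrivSqZeroExt.algebraMap_eq_inl']

end

end Groth.Agent.AdeqLib
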