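import Groth.Agent.AdeqLib.Ker
import Groth.Agent.AdeqLib.Sq
import Groth.Agent.AdeqLib.Rel
import Mathlib.Algebra.Module.CharacterModule

/-!
# Extending maps out of adequate functors
-/

set_option autoImplicit false

universe u v w

open CategoryTheory TensorProduct

namespace Groth.Agent.AdeqLib

open Adeq

noncomputable section

variable {A : Type u} [CommRing A]

/-- Scalars act on a mapped tensor by multiplication on the left. -/
theorem smul_rTensor {C : Alg A} {P : Type*} [AddCommGroup P] [Module A P] {M : Type*}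
    [AddCommGroup M] [Module A M] (d : C) (h : P →ₗ[A] C) (y : P ⊗[A] M) :
    d • h.rTensor M y = ((LinearMap.mulLeft A d).comp h).rTensor M y := by
  induction y using TensorProduct.induction_on with
  | zero => simp
  | tmul p m => simp [TensorProduct.smul_tmul']
  | add x y hx hy => simp only [map_add, smul_add, hx, hy]

/-- The two functorialities of a tensor product commute. -/
theorem lTensor_rTensor_apply {P Q M N : Type*} [AddCommGroup P] [Module A P] [AddCommGroup Q]
    [Module A Q] [AddCommGroup M] [Module A M] [AddCommGroup N] [Module A N] (g : M →ₗ[A] N)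
    (f : P →ₗ[A] Q) (y : P ⊗[A] M) :
    g.lTensor Q (f.rTensor M y) = f.rTensor N (g.lTensor P y) := by
  rw [← LinearMap.comp_apply, LinearMap.lTensor_comp_rTensor, ← LinearMap.rTensor_comp_lTensor,
    LinearMap.comp_apply]

/-- An element killed by the projection lies in the nilpotent part. -/
theorem sq_split {N : ModuleCat.{u} A} {M : Type*} [AddCommGroup M] [Module A M]
    (e : Sq N ⊗[A] M) (he : (sqFstHom N).hom.toLinearMap.rTensor M e = 0) :
    (sqInr N).rTensor M ((sqSnd N).rTensor M e) = e := by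
  have hid : LinearMap.id = ((sqInlHom N).hom.toLinearMap.comp (sqFstHom N).hom.toLinearMap) +
      (sqInr N).comp (sqSnd N) := LinearMap.ext fun x => (sq_decomp N x).symm
  conv_rhs => rw [← LinearMap.id_apply (R := A) e, ← LinearMap.rTensor_id M (Sq N : Type u), hid,
    LinearMap.rTensor_add, LinearMap.add_apply, LinearMap.rTensor_comp_apply, he, map_zero,
    zero_add, LinearMap.rTensor_comp_apply]

/-- An element of the nilpotent part in an adequate functor. -/
theorem IsKer.exists_sq {F : MVF A} {M N₁ : ModuleCat.{u + 1} A} {j : F ⟶ uO M} {g : M ⟶ N₁}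
    (hj : IsKer j g) {N : ModuleCat.{u} A} (y : N ⊗[A] M) (hy : g.hom.lTensor N y = 0) :
    ∃ z, emb j (Sq N) z = (sqInr N).rTensor M y := by
  have h0 : g.hom.baseChange (Sq N) ((sqInr N).rTensor M y) = 0 := by
    rw [LinearMap.baseChange_eq_ltensor, ← LinearMap.comp_apply, LinearMap.lTensor_comp_rTensor,
      ← LinearMap.rTensor_comp_lTensor, LinearMap.comp_apply, hy, map_zero]
  exact (hj.exact _ _).mp h0

/-- Comparison through the dual numbers. -/
theorem emb_sq_eq {F : MVF A} {M M' : ModuleCat.{u + 1} A} {j : F ⟶ uO M}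
    (hj : ∀ B, Function.Injective (emb j B)) (φ : F ⟶ uO M') {N : ModuleCat.{u} A} {B : Alg A}
    (f : N →ₗ[A] B) (x : F.obj (pt B)) (z : F.obj (pt (Sq N)))
    (hz : (sqFstHom N).hom.toLinearMap.rTensor M (emb j (Sq N) z) = 0)
    (hx : (f.comp (sqSnd N)).rTensor M (emb j (Sq N) z) = emb j B x) :
    (f.comp (sqSnd N)).rTensor M' (emb φ (Sq N) z) = emb φ B x := by
  let μ : B →ₗ[A] Dual B :=
    (LinearMap.mulLeft A (dualEps B)).comp (dualInl B).hom.toLinearMap
  have hμ : ∀ {P : ModuleCat.{u + 1} A} (ψ : F ⟶ uO P),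
      emb ψ (Dual B) (dualEps B • tr F (dualInl B) x) = μ.rTensor P (emb ψ B x) := by
    intro P ψ
    rw [map_smul, emb_tr, smul_rTensor]
  have h1 : emb j (Dual B) (tr F (sqEps f) z) = μ.rTensor M (emb j B x) := by
    rw [emb_tr, ← sq_split _ hz, ← LinearMap.rTensor_comp_apply, ← hx,
      ← LinearMap.rTensor_comp_apply, ← LinearMap.rTensor_comp_apply]
    refine congrArg (fun l : Sq N →ₗ[A] Dual B => l.rTensor M (emb j (Sq N) z))
      (LinearMap.ext fun s => ?_)
    exact sqEps_inr f (sqSnd N s)
  have h2 : tr F (sqEps f) z = dualEps B • tr F (dualInl B) x := hj _ (h1.trans (hμ j).symm)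
  have h3 : (dualSnd B).rTensor M' (emb φ (Dual B) (tr F (sqEps f) z)) =
      (dualSnd B).rTensor M' (μ.rTensor M' (emb φ B x)) := by
    rw [h2, hμ φ]
  rw [emb_tr, ← LinearMap.rTensor_comp_apply, ← LinearMap.rTensor_comp_apply] at h3
  rw [show f.comp (sqSnd N) = (dualSnd B).comp (sqEps f).hom.toLinearMap from
    LinearMap.ext fun s => (dualSnd_sqEps f s).symm, h3,
    show (dualSnd B).comp μ = LinearMap.id from LinearMap.ext fun b => dualSnd_eps_mul B b,
    LinearMap.rTensor_id_apply]

/-- A relation killing the first component kills the second. -/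
theorem emb_sq_zero {F : MVF A} {M M' : ModuleCat.{u + 1} A} {j : F ⟶ uO M}
    (hj : ∀ B, Function.Injective (emb j B)) (φ : F ⟶ uO M') {N N' : ModuleCat.{u} A}
    (h : N →ₗ[A] N') (z : F.obj (pt (Sq N)))
    (hz : (sqFstHom N).hom.toLinearMap.rTensor M (emb j (Sq N) z) = 0)
    (hk : (h.comp (sqSnd N)).rTensor M (emb j (Sq N) z) = 0) :
    (h.comp (sqSnd N)).rTensor M' (emb φ (Sq N) z) = 0 := by
  have h1 : emb j (Sq N') (tr F (sqMap h) z) = 0 := by
    refine Eq.trans ?_ ((congrArg ((sqInr N').rTensor M) hk).trans (map_zero _))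
    rw [emb_tr, ← sq_split _ hz, ← LinearMap.rTensor_comp_apply, ← LinearMap.rTensor_comp_apply,
      sq_split _ hz, ← LinearMap.rTensor_comp_apply]
    exact congrArg (fun l : Sq N →ₗ[A] Sq N' => l.rTensor M (emb j (Sq N) z))
      (LinearMap.ext fun s => sqMap_inr h (sqSnd N s))
  have h2 : tr F (sqMap h) z = 0 := hj _ (h1.trans (map_zero _).symm)
  have h3 : (sqSnd N').rTensor M' (emb φ (Sq N') (tr F (sqMap h) z)) = 0 := by
    rw [h2, map_zero, map_zero]
  rw [emb_tr, ← LinearMap.rTensor_comp_apply] at h3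
  rwa [show h.comp (sqSnd N) = (sqSnd N').comp (sqMap h).hom.toLinearMap from
    LinearMap.ext fun s => (sqSnd_map h s).symm]

section Char

/-- An additive map to the circle extends along a map with smaller kernel. -/
theorem exists_char_extend {G : Type v} {H : Type w} [AddCommGroup G] [AddCommGroup H] (p : G →+ H)
    (q : G →+ AddCircle (1 : ℚ)) (hk : ∀ x, p x = 0 → q x = 0) :
    ∃ d : CharacterModule H, ∀ x, d (p x) = q x := by
  let q' : G ⧸ p.ker →+ AddCircle (1 : ℚ) := QuotientAddGroup.lift p.ker q fun x hx => hk x hx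
  obtain ⟨d, hd⟩ := (Module.Baer.of_divisible (AddCircle (1 : ℚ))).extension_property_addMonoidHom
    (QuotientAddGroup.kerLift p) (QuotientAddGroup.kerLift_injective p) q'
  exact ⟨d, fun x => DFunLike.congr_fun hd (QuotientAddGroup.mk x)⟩

/-- Evaluation into the double character module. -/
def evalChar (X : Type v) [AddCommGroup X] [Module A X] :
    X →ₗ[A] CharacterModule (CharacterModule X) where
  toFun x := (⟨⟨fun c => c x, rfl⟩, fun _ _ => rfl⟩ : CharacterModule X →+ AddCircle (1 : ℚ))
  map_add' x y := CharacterModule.ext _ fun c => map_add c x y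
  map_smul' r x := CharacterModule.ext _ fun _ => rfl

theorem evalChar_apply {X : Type v} [AddCommGroup X] [Module A X] (x : X) (c : CharacterModule X) :
    evalChar (A := A) X x c = c x := rfl

/-- The pairing of `N ⊗ X^∨` given by a map `N → X`. -/
def pairChar {X : Type v} [AddCommGroup X] [Module A X] {N : Type w} [AddCommGroup N] [Module A N]
    (h : N →ₗ[A] X) : CharacterModule (N ⊗[A] CharacterModule X) :=
  CharacterModule.uncurry ((evalChar X).comp h)

theorem pairChar_tmul {X : Type v} [AddCommGroup X] [Module A X] {N : Type w} [AddCommGroup N]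
    [Module A N] (h : N →ₗ[A] X) (n : N) (c : CharacterModule X) :
    pairChar h (n ⊗ₜ[A] c) = c (h n) := rfl

/-- Over a finitely presented module, the pairing detects zero. -/
theorem eq_zero_of_pairChar {X : Type v} [AddCommGroup X] [Module A X] {ι : Type} [Fintype ι]
    {r : ℕ} (a : Fin r → ι → A)
    (e : ((ι → A) ⧸ LinearMap.range (famMap (A := A) a)) ⊗[A] CharacterModule X)
    (h : ∀ t : ((ι → A) ⧸ LinearMap.range (famMap (A := A) a)) →ₗ[A] X, pairChar t e = 0) :
    e = 0 := by
  classical
  let q := (LinearMap.range (famMap (A := A) a)).mkQ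
  obtain ⟨c, rfl⟩ : ∃ c : ι → CharacterModule X, ∑ i, q (Pi.single i 1) ⊗ₜ[A] c i = e := by
    clear h
    induction e using TensorProduct.induction_on with
    | zero => exact ⟨0, by simp⟩
    | tmul n f =>
      obtain ⟨x, rfl⟩ := Submodule.mkQ_surjective _ n
      refine ⟨fun i => x i • f, ?_⟩
      simp only [tmul_smul, smul_tmul', ← sum_tmul, ← map_smul, ← map_sum]
      refine congrArg (fun m => q m ⊗ₜ[A] f) ?_
      exact funext fun i => by simp [Finset.sum_apply, Pi.single_apply]
    | add x y hx hy =>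
      obtain ⟨c, rfl⟩ := hx
      obtain ⟨d, rfl⟩ := hy
      exact ⟨c + d, by simp [tmul_add, Finset.sum_add_distrib]⟩
  let a' : (ι → X) →+ (Fin r → X) :=
    { toFun := fun t l => ∑ i, a l i • t i
      map_zero' := funext fun l => by simp
      map_add' := fun s t => funext fun l => by simp [smul_add, Finset.sum_add_distrib] }
  let Φ : (ι → X) →+ AddCircle (1 : ℚ) :=
    { toFun := fun t => ∑ i, c i (t i)
      map_zero' := by simp
      map_add' := fun s t => by simp [Finset.sum_add_distrib] }
  obtain ⟨d, hd⟩ := exists_char_extend a' Φ fun t ht => by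
    have hle : LinearMap.range (famMap (A := A) a) ≤ LinearMap.ker (famMap t) := by
      rintro _ ⟨x, rfl⟩
      rw [LinearMap.mem_ker, famMap_apply (A := A) a, map_sum]
      refine Finset.sum_eq_zero fun l _ => ?_
      rw [map_smul, famMap_apply, show ∑ i, a l i • t i = 0 from congrFun ht l, smul_zero]
    refine Eq.trans ?_ (h (Submodule.liftQ _ _ hle))
    rw [map_sum]
    refine Finset.sum_congr rfl fun i _ => ?_
    rw [pairChar_tmul, Submodule.mkQ_apply, Submodule.liftQ_apply, famMap_single, one_smul]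
  let d' : Fin r → CharacterModule X := fun l =>
    (d : (Fin r → X) →+ AddCircle (1 : ℚ)).comp (AddMonoidHom.single (fun _ => X) l)
  have hc : ∀ i, c i = ∑ l, a l i • d' l := fun i => by
    refine CharacterModule.ext _ fun x => ?_
    have h1 : c i x = d (a' (Pi.single i x)) := by
      rw [hd]
      show c i x = ∑ k, c k ((Pi.single i x : ι → X) k)
      rw [Finset.sum_eq_single i (fun k _ hk => by rw [Pi.single_eq_of_ne hk, map_zero])
        (fun hh => (hh (Finset.mem_univ i)).elim), Pi.single_eq_same]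
    have h2 : a' (Pi.single i x) = ∑ l, Pi.single l (a l i • x) := funext fun l => by
      rw [Finset.sum_apply]
      show ∑ k, a l k • (Pi.single i x : ι → X) k = _
      rw [Finset.sum_eq_single i (fun k _ hk => by rw [Pi.single_eq_of_ne hk, smul_zero])
        (fun hh => (hh (Finset.mem_univ i)).elim), Pi.single_eq_same,
        Finset.sum_eq_single l (fun k _ hk => by rw [Pi.single_eq_of_ne (Ne.symm hk)])
        (fun hh => (hh (Finset.mem_univ l)).elim), Pi.single_eq_same]
    rw [h1, h2, map_sum]
    refine Eq.trans ?_ (map_sum (⟨⟨fun f : CharacterModule X => f x, rfl⟩, fun _ _ => rfl⟩ :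
      CharacterModule X →+ AddCircle (1 : ℚ)) (fun l => a l i • d' l) Finset.univ).symm
    rfl
  simp only [hc, tmul_sum, tmul_smul, smul_tmul']
  rw [Finset.sum_comm]
  refine Finset.sum_eq_zero fun l _ => ?_
  rw [← sum_tmul]
  refine (congrArg (fun m => m ⊗ₜ[A] d' l) ?_).trans (zero_tmul _ _)
  simp only [← map_smul, ← map_sum]
  refine (Submodule.Quotient.mk_eq_zero _).mpr ⟨Pi.single l 1, ?_⟩
  rw [famMap_single, one_smul]
  exact funext fun i => by simp [Finset.sum_apply, Pi.single_apply]

end Char

/-- The double character module. -/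
def dd (M : ModuleCat.{u + 1} A) : ModuleCat.{u + 1} A :=
  ModuleCat.of A (CharacterModule (CharacterModule M))

/-- The map to the double character module. -/
def toDD (M : ModuleCat.{u + 1} A) : M ⟶ dd M := ModuleCat.ofHom (evalChar M)

/-- The map to the double character module is universally injective. -/
theorem toDD_lTensor_injective (M : ModuleCat.{u + 1} A) (N : Type v) [AddCommGroup N]
    [Module A N] : Function.Injective ((toDD M).hom.lTensor N) := by
  refine (injective_iff_map_eq_zero _).mpr fun z hz =>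
    CharacterModule.eq_zero_of_character_apply fun c => ?_
  have key : ∀ y : N ⊗[A] M,
      pairChar (CharacterModule.curry c) ((evalChar (A := A) (M : Type (u + 1))).lTensor N y) =
        c y := by
    intro y
    induction y using TensorProduct.induction_on with
    | zero => simp
    | tmul n m => rfl
    | add x y hx hy => simp only [map_add, hx, hy]
  exact (key z).symm.trans ((congrArg _ hz).trans (map_zero _))

theorem toDD_baseChange_injective (M : ModuleCat.{u + 1} A) (B : Alg A) :
    Function.Injective ((toDD M).hom.baseChange B) :=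
  toDD_lTensor_injective M (B : Type u)

/-- A map out of an adequate functor into `uO M'` extends to `uO` of the double character module. -/
theorem IsKer.exists_extension {F : MVF A} {M N₁ : ModuleCat.{u + 1} A} {j : F ⟶ uO M}
    {g₀ : M ⟶ N₁} (hj : IsKer j g₀) {M' : ModuleCat.{u + 1} A} (φ : F ⟶ uO M') :
    ∃ g : M ⟶ dd M', φ ≫ (underline A).map (toDD M') = j ≫ (underline A).map g := by
  classical
  let T := CharacterModule M'
  let ev : CharacterModule (T ⊗[A] M') := CharacterModule.uncurry (LinearMap.id (R := A) (M := T))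
  let Γ : AddSubgroup ((T ⊗[A] M) × AddCircle (1 : ℚ)) :=
    { carrier := {p | ∃ (N : ModuleCat.{u} A) (h : N →ₗ[A] T) (z : F.obj (pt (Sq N))),
        (sqFstHom N).hom.toLinearMap.rTensor M (emb j (Sq N) z) = 0 ∧
        p = ((h.comp (sqSnd N)).rTensor M (emb j (Sq N) z),
          ev ((h.comp (sqSnd N)).rTensor M' (emb φ (Sq N) z)))}
      zero_mem' := ⟨ModuleCat.of A PUnit.{u + 1}, 0, 0, by simp, by simp [Prod.zero_eq_mk]⟩
      neg_mem' := by
        rintro _ ⟨N, h, z, hz, rfl⟩
        exact ⟨N, h, -z, by rw [map_neg, map_neg, hz, neg_zero],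
          by simp only [map_neg, Prod.neg_mk]⟩
      add_mem' := by
        rintro _ _ ⟨N, h, z, hz, rfl⟩ ⟨N', h', z', hz', rfl⟩
        let i₁ : N →ₗ[A] ModuleCat.of A (N × N') := LinearMap.inl A N N'
        let i₂ : N' →ₗ[A] ModuleCat.of A (N × N') := LinearMap.inr A N N'
        refine ⟨ModuleCat.of A (N × N'), h.coprod h', tr F (sqMap i₁) z + tr F (sqMap i₂) z',
          ?_, ?_⟩
        · rw [map_add, map_add, emb_tr, emb_tr, ← LinearMap.rTensor_comp_apply,
            ← LinearMap.rTensor_comp_apply]
          refine (congrArg₂ (· + ·) ?_ ?_).trans (add_zero _)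
          · refine (congrArg (fun l : Sq N →ₗ[A] A => l.rTensor M (emb j (Sq N) z))
              (LinearMap.ext (sqFst_map i₁))).trans hz
          · refine (congrArg (fun l : Sq N' →ₗ[A] A => l.rTensor M (emb j (Sq N') z'))
              (LinearMap.ext (sqFst_map i₂))).trans hz'
        · have e₁ : ((h.coprod h').comp (sqSnd (ModuleCat.of A (N × N')))).comp
              (sqMap i₁).hom.toLinearMap = h.comp (sqSnd N) := LinearMap.ext fun s => by
            show h.coprod h' (sqSnd _ ((sqMap i₁).hom s)) = h (sqSnd N s)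
            rw [sqSnd_map]
            simp [i₁]
          have e₂ : ((h.coprod h').comp (sqSnd (ModuleCat.of A (N × N')))).comp
              (sqMap i₂).hom.toLinearMap = h'.comp (sqSnd N') := LinearMap.ext fun s => by
            show h.coprod h' (sqSnd _ ((sqMap i₂).hom s)) = h' (sqSnd N' s)
            rw [sqSnd_map]
            simp [i₂]
          simp only [map_add, emb_tr, ← LinearMap.rTensor_comp_apply, e₁, e₂, Prod.mk_add_mk] }
  have hΓ : ∀ p ∈ Γ, p.1 = 0 → p.2 = 0 := by
    rintro _ ⟨N, h, z, hz, rfl⟩ h1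
    dsimp only at h1 ⊢
    obtain ⟨n, v, m, hvm⟩ := exists_fin_sum ((sqSnd N).rTensor M (emb j (Sq N) z))
    rw [LinearMap.rTensor_comp_apply, hvm] at h1
    simp only [map_sum, LinearMap.rTensor_tmul] at h1
    obtain ⟨s, r, a, f, hf, hfm⟩ := exists_fp_lift (LinearMap.id (R := A) (M := M))
      (fun i => h (v i)) m (by simpa using h1)
    let P := (Fin n ⊕ Fin s → A) ⧸ LinearMap.range (famMap (A := A) a)
    let N' : ModuleCat.{u} A := ModuleCat.of A ((N × P) ⧸ LinearMap.ker (h.coprod f))
    let k : N →ₗ[A] N' := (LinearMap.ker (h.coprod f)).mkQ.comp (LinearMap.inl A N P)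
    let t : N' →ₗ[A] T := Submodule.liftQ _ (h.coprod f) le_rfl
    have htk : h = t.comp k := LinearMap.ext fun x => by
      show h x = h.coprod f (x, 0)
      simp
    have hk : (k.comp (sqSnd N)).rTensor M (emb j (Sq N) z) = 0 := by
      rw [LinearMap.rTensor_comp_apply, hvm, map_sum]
      simp only [LinearMap.rTensor_tmul]
      have hkv : ∀ i, k (v i) = (LinearMap.ker (h.coprod f)).mkQ
          (LinearMap.inr A N P (Submodule.Quotient.mk (Pi.single (.inl i) 1))) := fun i => by
        refine (Submodule.Quotient.eq _).mpr ?_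
        rw [LinearMap.mem_ker, map_sub]
        simp [hf]
      simp only [hkv, ← LinearMap.comp_apply]
      refine Eq.trans ?_ (LinearMap.map_zero
        (LinearMap.rTensor M ((LinearMap.ker (h.coprod f)).mkQ.comp (LinearMap.inr A N P))))
      rw [← hfm]
      simp only [map_sum, LinearMap.lTensor_id, LinearMap.id_apply, LinearMap.rTensor_tmul]
    rw [htk, LinearMap.comp_assoc, LinearMap.rTensor_comp_apply,
      emb_sq_zero hj.inj φ k z hz hk, map_zero, map_zero]
  obtain ⟨G, hG⟩ := exists_char_extend
    ((AddMonoidHom.fst (T ⊗[A] M) (AddCircle (1 : ℚ))).comp Γ.subtype)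
    ((AddMonoidHom.snd (T ⊗[A] M) (AddCircle (1 : ℚ))).comp Γ.subtype)
    (fun p hp => hΓ p.1 p.2 hp)
  let g : M →ₗ[A] CharacterModule T :=
    CharacterModule.curry (CharacterModule.dual (TensorProduct.comm A M T).toLinearMap G)
  refine ⟨ModuleCat.ofHom g, emb_ext fun B x => ?_⟩
  rw [emb_comp_map, emb_comp_map, LinearMap.baseChange_eq_ltensor,
    LinearMap.baseChange_eq_ltensor]
  obtain ⟨n, v, m, hvm⟩ := exists_fin_sum (emb j B x)
  have hx := hj.comp_zero B x
  rw [LinearMap.baseChange_eq_ltensor, hvm] at hx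
  obtain ⟨s, r, a, f, hf, hfm⟩ := exists_fp_lift g₀.hom v m hx
  let N₀ : ModuleCat.{u} A :=
    ModuleCat.of A ((Fin n ⊕ Fin s → A) ⧸ LinearMap.range (famMap (A := A) a))
  let y₀ : N₀ ⊗[A] M :=
    ∑ i, (Submodule.Quotient.mk (Pi.single (.inl i) 1) : N₀) ⊗ₜ[A] m i
  let f' : N₀ →ₗ[A] B := f
  obtain ⟨z, hz⟩ := hj.exists_sq y₀ hfm
  have hz0 : (sqFstHom N₀).hom.toLinearMap.rTensor M (emb j (Sq N₀) z) = 0 := by
    rw [hz, ← LinearMap.rTensor_comp_apply,
      show (sqFstHom N₀).hom.toLinearMap.comp (sqInr N₀) = 0 from LinearMap.ext (sqFst_inr N₀),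
      LinearMap.rTensor_zero, LinearMap.zero_apply]
  have hz1 : (sqSnd N₀).rTensor M (emb j (Sq N₀) z) = y₀ := by
    rw [hz, ← LinearMap.rTensor_comp_apply,
      show (sqSnd N₀).comp (sqInr N₀) = LinearMap.id from LinearMap.ext (sqSnd_inr N₀),
      LinearMap.rTensor_id_apply]
  have hy : f'.rTensor M y₀ = emb j B x := by
    rw [hvm, map_sum]
    exact Finset.sum_congr rfl fun i _ => by rw [LinearMap.rTensor_tmul, ← hf i]
  have hφ := emb_sq_eq hj.inj φ f' x z hz0 (by rw [LinearMap.rTensor_comp_apply, hz1, hy])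
  rw [← hφ, ← hy, LinearMap.rTensor_comp_apply]
  show (toDD M').hom.lTensor B _ = g.lTensor B _
  rw [lTensor_rTensor_apply (toDD M').hom f', lTensor_rTensor_apply g f']
  refine congrArg (f'.rTensor (dd M')) ?_
  refine sub_eq_zero.mp (eq_zero_of_pairChar a _ fun t => ?_)
  refine (_root_.map_sub (pairChar t) _ _).trans (sub_eq_zero.mpr ?_)
  have k1 : ∀ w : N₀ ⊗[A] M', pairChar t ((evalChar (A := A) (M' : Type (u + 1))).lTensor N₀ w) =
      ev (LinearMap.rTensor M' (t : N₀ →ₗ[A] T) w) := by
    intro w
    induction w using TensorProduct.induction_on with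
    | zero => simp
    | tmul n m => rfl
    | add x y hx hy => simp only [map_add, hx, hy]
  have k2 : ∀ w : N₀ ⊗[A] M, pairChar t (g.lTensor N₀ w) =
      G (LinearMap.rTensor M (t : N₀ →ₗ[A] T) w) := by
    intro w
    induction w using TensorProduct.induction_on with
    | zero => simp
    | tmul n m => rfl
    | add x y hx hy => simp only [map_add, hx, hy]
  refine (k1 _).trans (Eq.trans ?_ (k2 y₀).symm)
  have hmem := hG ⟨_, ⟨N₀, t, z, hz0, rfl⟩⟩
  refine Eq.trans ?_ (Eq.trans hmem.symm ?_)
  · show _ = ev ((LinearMap.comp t (sqSnd N₀)).rTensor M' (emb φ (Sq N₀) z))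
    rw [LinearMap.rTensor_comp_apply]
  · show G ((LinearMap.comp t (sqSnd N₀)).rTensor M (emb j (Sq N₀) z)) = _
    rw [LinearMap.rTensor_comp_apply, hz1]

end

end Groth.Agent.AdeqLib
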