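import Groth.Agent.AdeqLib.CechAlg
import Groth.Agent.AdeqLib.Change

/-!
# Descent of adequacy along finite families of algebras
-/

set_option autoImplicit false
set_option linter.style.haveILetI false

universe u

open CategoryTheory Limits TensorProduct

namespace Groth.Agent.AdeqLib

open Adeq

noncomputable section

variable {R : Type u} [CommRing R]

attribute [local instance] Abelian.hasFiniteBiproducts

/-- A base change, as an algebra over the base. -/
def cAlg (C B : Alg R) : Alg R := rAlg R C (bAlg R C B)

theorem cAlg_algebraMap (C B : Alg R) (r : R) :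
    algebraMap R (cAlg C B) r = (algebraMap R ((C : Type u) ⊗[R] (B : Type u)) r :) := by
  show algebraMap C ((C : Type u) ⊗[R] (B : Type u)) (algebraMap R C r) =
    algebraMap R ((C : Type u) ⊗[R] (B : Type u)) r
  rw [Algebra.TensorProduct.algebraMap_apply, Algebra.TensorProduct.algebraMap_apply]
  rfl

/-- The canonical comparison of the two algebra structures on a base change. -/
def tToHom (C B : Alg R) : ((C : Type u) ⊗[R] (B : Type u)) →ₐ[R] (cAlg C B : Type u) :=
    { toFun := fun z => z
      map_one' := rfl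
      map_mul' := fun _ _ => rfl
      map_zero' := rfl
      map_add' := fun _ _ => rfl
      commutes' := fun r => (cAlg_algebraMap C B r).symm }

@[inherit_doc tToHom]
def tTo (C B : Alg R) : tAlg C B ⟶ rAlg R C (bAlg R C B) :=
  ConcreteCategory.ofHom (C := Alg R) (X := tAlg C B) (Y := cAlg C B) (tToHom C B)

/-- The inverse comparison. -/
def tFromHom (C B : Alg R) : (cAlg C B : Type u) →ₐ[R] ((C : Type u) ⊗[R] (B : Type u)) :=
    { toFun := fun z => z
      map_one' := rfl
      map_mul' := fun _ _ => rfl
      map_zero' := rfl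
      map_add' := fun _ _ => rfl
      commutes' := fun r => cAlg_algebraMap C B r }

@[inherit_doc tFromHom]
def tFrom (C B : Alg R) : rAlg R C (bAlg R C B) ⟶ tAlg C B :=
  ConcreteCategory.ofHom (C := Alg R) (X := cAlg C B) (Y := tAlg C B) (tFromHom C B)

theorem tTo_tFrom (C B : Alg R) : tTo C B ≫ tFrom C B = 𝟙 _ :=
  CommAlgCat.hom_ext (DFunLike.ext _ _ fun _ => rfl)

theorem tFrom_tTo (C B : Alg R) : tFrom C B ≫ tTo C B = 𝟙 _ :=
  CommAlgCat.hom_ext (DFunLike.ext _ _ fun _ => rfl)

theorem tr_tFrom_tTo (F : MVF R) (C B : Alg R) (y : F.obj (pt (rAlg R C (bAlg R C B)))) :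
    tr F (tTo C B) (tr F (tFrom C B) y) = y := by
  rw [← tr_comp, tFrom_tTo, tr_id]

/-- The composite of restriction and pushforward. -/
abbrev pushRestr (C : Alg R) : MVF R ⥤ MVF R :=
  Adeq.restr R (C : Type u) ⋙ Adeq.push R (C : Type u)

theorem adequate_pushRestr (C : Alg R) {F : MVF R}
    (h : adequate (C : Type u) ((Adeq.restr R (C : Type u)).obj F)) :
    adequate R ((pushRestr C).obj F) :=
  adequate_push R (C : Type u) h

theorem adequate_pushRestr' (C : Alg R) {F : MVF R} (h : adequate R F) :
    adequate R ((pushRestr C).obj F) :=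
  adequate_push R (C : Type u) (adequate_restr R (C : Type u) h)

/-- A finite biproduct of adequate functors is adequate. -/
theorem adequate_biproduct {κ : Type (u + 1)} [Finite κ] (f : κ → MVF R) [HasBiproduct f]
    (hf : ∀ k, adequate R (f k)) : adequate R (⨁ f) := by
  have h : adequate R (colimit (Discrete.functor f)) := adequate_colimit _ fun j => hf j.as
  exact (adequate R).prop_of_iso
    ((colimit.isColimit _).coconePointUniqueUpToIso (biproduct.isColimit f)) h

section Biproduct

variable {κ : Type (u + 1)} [Finite κ] (f : κ → MVF R) [HasBiproduct f]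

theorem biproduct_elem_ext (B : Alg R) {x y : (⨁ f).obj (pt B)}
    (h : ∀ k, ap (biproduct.π f k) B x = ap (biproduct.π f k) B y) : x = y := by
  classical
  haveI := Fintype.ofFinite κ
  have key : ∀ z : (⨁ f).obj (pt B),
      ∑ k, ap (biproduct.ι f k) B (ap (biproduct.π f k) B z) = z := by
    intro z
    have h1 : ap (∑ k, biproduct.π f k ≫ biproduct.ι f k) B z = ap (𝟙 (⨁ f)) B z := by
      refine congrArg (fun φ => ap φ B z) ?_
      exact IsBilimit.total (biproduct.isBilimit f)
    simp only [ap_id] at h1
    refine Eq.trans ?_ h1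
    have : ∀ s : Finset κ, ap (∑ k ∈ s, biproduct.π f k ≫ biproduct.ι f k) B z =
        ∑ k ∈ s, ap (biproduct.ι f k) B (ap (biproduct.π f k) B z) := by
      intro s
      induction s using Finset.induction_on with
      | empty => simp [ap_zero]
      | insert a t hat ih => rw [Finset.sum_insert hat, Finset.sum_insert hat, ap_add, ih, ap_comp]
    exact (this Finset.univ).symm
  rw [← key x, ← key y]
  exact Finset.sum_congr rfl fun k _ => by rw [h k]

theorem biproduct_exists_elem (B : Alg R) (y : ∀ k, (f k).obj (pt B)) :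
    ∃ x : (⨁ f).obj (pt B), ∀ k, ap (biproduct.π f k) B x = y k := by
  classical
  haveI := Fintype.ofFinite κ
  refine ⟨∑ k, ap (biproduct.ι f k) B (y k), fun l => ?_⟩
  rw [map_sum, Finset.sum_eq_single l]
  · rw [← ap_comp, biproduct.ι_π_self, ap_id]
  · intro k _ hk
    rw [← ap_comp, biproduct.ι_π_ne _ hk, ap_zero]
  · exact fun hl => absurd (Finset.mem_univ l) hl

end Biproduct

/-- Descent of adequacy along a finite family. -/
theorem adequate_of_family {ι : Type (u + 1)} [Finite ι] (A : ι → Alg R) {F : MVF R}
    (h₁ : ∀ i, adequate (A i : Type u) ((Adeq.restr R (A i : Type u)).obj F))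
    (hsep : ∀ (B : Alg R) (x : F.obj (pt B)), (∀ i, tr F (tRight (A i) B) x = 0) → x = 0)
    (hamalg : ∀ (B : Alg R) (y : ∀ i, F.obj (pt (tAlg (A i) B))),
      (∀ i k, tr F (tRight (A i) (tAlg (A k) B)) (y k) =
        tr F (tMap (A i) (tRight (A k) B)) (y i)) →
      ∃ x, ∀ i, tr F (tRight (A i) B) x = y i) :
    adequate R F := by
  let T : ι → MVF R := fun i => (pushRestr (A i)).obj F
  let TT : ι × ι → MVF R := fun p => (pushRestr (A p.2)).obj ((pushRestr (A p.1)).obj F)
  have hT : ∀ i, adequate R (T i) := fun i => adequate_pushRestr _ (h₁ i)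
  have hTT : ∀ p, adequate R (TT p) := fun p => adequate_pushRestr' _ (hT p.1)
  let η : ∀ (i : ι) (G : MVF R), G ⟶ (pushRestr (A i)).obj G := fun i G =>
    unitPush R (A i : Type u) G
  let α : ∀ p, (⨁ T) ⟶ TT p := fun p =>
    biproduct.π T p.2 ≫ (pushRestr (A p.2)).map (η p.1 F) -
      biproduct.π T p.1 ≫ η p.2 (T p.1)
  let d : (⨁ T) ⟶ (⨁ TT) := biproduct.lift α
  let e : F ⟶ (⨁ T) := biproduct.lift fun i => η i F
  have he : ∀ i (B : Alg R) (x : F.obj (pt B)),
      ap (biproduct.π T i) B (ap e B x) = tr F (Alg.unit R (A i : Type u) B) x := by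
    intro i B x
    rw [← ap_comp, biproduct.lift_π]
    rfl
  have hd : ∀ i k (B : Alg R) (x : (⨁ T).obj (pt B)),
      ap (biproduct.π TT (i, k)) B (ap d B x) =
        (id (tr F (Alg.unit R (A i : Type u) (rAlg R (A k) (bAlg R (A k) B)))
          (ap (biproduct.π T k) B x)) : (TT (i, k)).obj (pt B)) -
        (id (tr F ((Alg.restr R (A i : Type u)).map ((Alg.baseChange R (A i : Type u)).map
          (Alg.unit R (A k : Type u) B))) (ap (biproduct.π T i) B x)) :
            (TT (i, k)).obj (pt B)) := by
    intro i k B x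
    rw [← ap_comp, biproduct.lift_π]
    rfl
  have h_unit : ∀ i (B : Alg R), tRight (A i) B ≫ tTo (A i) B = Alg.unit R (A i : Type u) B :=
    fun i B => CommAlgCat.hom_ext (DFunLike.ext _ _ fun _ => rfl)
  have hed : e ≫ d = 0 := by
    refine biproduct.hom_ext _ _ fun p => hom_ext' fun B x => ?_
    obtain ⟨i, k⟩ := p
    rw [ap_comp, ap_comp, hd, he, he, zero_comp, ap_zero]
    refine sub_eq_zero.mpr ?_
    show tr F _ (tr F _ x) = tr F _ (tr F _ x)
    rw [← tr_comp, ← tr_comp, unit_nat]
  have hcomp : ∀ (B : Alg R) (x : F.obj (pt B)),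
      ap (kernel.ι d) B (ap (kernel.lift d e hed) B x) = ap e B x := fun B x => by
    rw [← ap_comp, kernel.lift_ι]
  let P : ∀ (i : ι) (B : Alg R), (⨁ T).obj (pt B) →
      F.obj (pt (rAlg R (A i : Type u) (bAlg R (A i : Type u) B))) :=
    fun i B x => ap (biproduct.π T i) B x
  have hP : ∀ i (B : Alg R) (x : F.obj (pt B)),
      tr F (tFrom (A i) B) (P i B (ap e B x)) = tr F (tRight (A i) B) x := fun i B x => by
    rw [show P i B (ap e B x) = tr F (Alg.unit R (A i : Type u) B) x from he i B x, ← tr_comp,
      ← h_unit i B, Category.assoc, tTo_tFrom, Category.comp_id]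
  have : IsIso (kernel.lift d e hed) := by
    refine isIso_of_bij _ fun B => ⟨fun x y h => ?_, fun z => ?_⟩
    · refine sub_eq_zero.mp (hsep B _ fun i => ?_)
      rw [map_sub, sub_eq_zero, ← hP, ← hP]
      exact congrArg (fun v => tr F (tFrom (A i) B) (P i B v))
        (((hcomp B x).symm.trans (congrArg (ap (kernel.ι d) B) h)).trans (hcomp B y))
    · let w := ap (kernel.ι d) B z
      obtain ⟨x, hx⟩ := hamalg B (fun i => tr F (tFrom (A i) B) (P i B w)) fun i k => by
        have h0 : ap (biproduct.π TT (i, k)) B (ap d B w) = 0 := by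
          rw [(kernel_exact d B).apply_apply_eq_zero z, map_zero]
        rw [hd] at h0
        have h0' : tr F (Alg.unit R (A i : Type u) (rAlg R (A k) (bAlg R (A k) B))) (P k B w) =
            tr F ((Alg.restr R (A i : Type u)).map ((Alg.baseChange R (A i : Type u)).map
              (Alg.unit R (A k : Type u) B))) (P i B w) := sub_eq_zero.mp h0
        have h1 := congrArg
          (tr F ((Alg.restr R (A i : Type u)).map ((Alg.baseChange R (A i : Type u)).map
            (tFrom (A k) B)) ≫ tFrom (A i) (tAlg (A k) B))) h0'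
        rw [← tr_comp, ← tr_comp] at h1
        rw [← tr_comp, ← tr_comp]
        refine (Eq.trans ?_ (h1.trans ?_))
        · exact congrArg (fun φ => tr F φ (P k B w))
            (CommAlgCat.hom_ext (DFunLike.ext _ _ fun _ => rfl))
        · refine congrArg (fun φ => tr F φ (P i B w)) ?_
          refine CommAlgCat.hom_ext (DFunLike.ext _ _ fun v => ?_)
          induction v using TensorProduct.induction_on with
          | zero => exact ((map_zero _).trans (map_zero _).symm)
          | tmul c b => rfl
          | add s t hs ht =>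
            exact ((map_add _ s t).trans (congrArg₂ (· + ·) hs ht)).trans (map_add _ s t).symm
      refine ⟨x, kernel_inj d B (biproduct_elem_ext T B fun i => ?_)⟩
      refine (congrArg (ap (biproduct.π T i) B) (hcomp B x)).trans ?_
      show P i B (ap e B x) = P i B w
      have h2 := congrArg (tr F (tTo (A i) B)) ((hP i B x).trans (hx i))
      rwa [tr_tFrom_tTo, tr_tFrom_tTo] at h2
  exact (adequate R).prop_of_iso (asIso (kernel.lift d e hed)).symm
    (adequate_kernel d (adequate_biproduct T hT) (adequate_biproduct TT hTT))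

end

end Groth.Agent.AdeqLib
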