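import Groth.Agent.AdeqLib.Ker
import Groth.Agent.AdeqLib.Rel
import Mathlib.Algebra.Category.Grp.FilteredColimits
import Mathlib.Algebra.Category.Grp.Colimits
import Mathlib.Algebra.Category.Ring.FilteredColimits
import Mathlib.Algebra.Category.Ring.Colimits
import Mathlib.CategoryTheory.Limits.Constructions.Over.Connected
import Mathlib.CategoryTheory.Limits.Types.Filtered
import Mathlib.CategoryTheory.Limits.Preserves.Filtered

/-!
# Adequate functors commute with filtered colimits of algebras
-/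

set_option autoImplicit false

universe u

open CategoryTheory Limits TensorProduct

namespace Groth.Agent.AdeqLib

open Adeq

noncomputable section

variable {A : Type u} [CommRing A] {J : Type u} [SmallCategory J] [IsFiltered J]
  {D : J ⥤ Alg A} {c : Cocone D}

/-- The forgetful functor to types, through rings. -/
abbrev algToType (A : Type u) [CommRing A] : Alg A ⥤ Type u :=
  (commAlgCatEquivUnder (CommRingCat.of A)).functor ⋙ Under.forget _ ⋙ forget CommRingCat.{u}

theorem exists_stage_elem (hc : IsColimit c) (x : c.pt) : ∃ k y, (c.ι.app k).hom y = x := by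
  have : IsConnected J := IsFiltered.isConnected J
  obtain ⟨k, y, hy⟩ := Types.jointly_surjective_of_isColimit
    (isColimitOfPreserves (algToType A) hc) x
  exact ⟨k, y, hy⟩

theorem exists_stage_eq (hc : IsColimit c) {k : J} (x y : D.obj k)
    (h : (c.ι.app k).hom x = (c.ι.app k).hom y) :
    ∃ (l : J) (f : k ⟶ l), (D.map f).hom x = (D.map f).hom y := by
  have : IsConnected J := IsFiltered.isConnected J
  obtain ⟨l, f, hf⟩ := (Types.FilteredColimit.isColimit_eq_iff'
    (isColimitOfPreserves (algToType A) hc) (i := k) x y).mp h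
  exact ⟨l, f, hf⟩

theorem stage_comp {k l m : J} (f : k ⟶ l) (g : l ⟶ m) (x : D.obj k) :
    (D.map (f ≫ g)).hom x = (D.map g).hom ((D.map f).hom x) := by
  rw [D.map_comp]
  rfl

theorem stage_w {k l : J} (f : k ⟶ l) (x : D.obj k) :
    (c.ι.app l).hom ((D.map f).hom x) = (c.ι.app k).hom x := by
  rw [← c.w f]
  rfl

theorem exists_stage_fin (hc : IsColimit c) (k₀ : J) {n : ℕ} (x : Fin n → c.pt) :
    ∃ (k : J) (_ : k₀ ⟶ k) (y : Fin n → D.obj k), ∀ i, (c.ι.app k).hom (y i) = x i := by
  induction n with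
  | zero => exact ⟨k₀, 𝟙 _, fun i => i.elim0, fun i => i.elim0⟩
  | succ n ih =>
    obtain ⟨k, f, y, hy⟩ := ih (fun i => x i.succ)
    obtain ⟨k', y', hy'⟩ := exists_stage_elem hc (x 0)
    refine ⟨IsFiltered.max k k', f ≫ IsFiltered.leftToMax k k',
      Fin.cases ((D.map (IsFiltered.rightToMax k k')).hom y')
        (fun i => (D.map (IsFiltered.leftToMax k k')).hom (y i)), fun i => ?_⟩
    induction i using Fin.cases with
    | zero => simp only [Fin.cases_zero]; rw [stage_w, hy']
    | succ i => simp only [Fin.cases_succ]; rw [stage_w, hy]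

theorem exists_stage_zero_fin (hc : IsColimit c) {k : J} {n : ℕ} (x : Fin n → D.obj k)
    (h : ∀ i, (c.ι.app k).hom (x i) = 0) :
    ∃ (l : J) (f : k ⟶ l), ∀ i, (D.map f).hom (x i) = 0 := by
  induction n with
  | zero => exact ⟨k, 𝟙 _, fun i => i.elim0⟩
  | succ n ih =>
    obtain ⟨l, f, hf⟩ := ih (fun i => x i.succ) fun i => h i.succ
    obtain ⟨l', g, hg⟩ := exists_stage_eq hc ((D.map f).hom (x 0)) 0
      ((stage_w f (x 0)).trans ((h 0).trans (map_zero (c.ι.app l).hom).symm))
    refine ⟨l', f ≫ g, fun i => ?_⟩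
    induction i using Fin.cases with
    | zero => rw [stage_comp, hg, map_zero]
    | succ i => rw [stage_comp, hf, map_zero]

theorem exists_stage_tensor (hc : IsColimit c) {M : Type*} [AddCommGroup M] [Module A M]
    (y : c.pt ⊗[A] M) : ∃ k y', (c.ι.app k).hom.toLinearMap.rTensor M y' = y := by
  obtain ⟨n, v, m, rfl⟩ := exists_fin_sum y
  obtain ⟨k₀⟩ := IsFiltered.nonempty (C := J)
  obtain ⟨k, -, w, hw⟩ := exists_stage_fin hc k₀ v
  refine ⟨k, ∑ i, w i ⊗ₜ[A] m i, ?_⟩
  rw [map_sum]
  exact Finset.sum_congr rfl fun i _ => by rw [LinearMap.rTensor_tmul, ← hw i]; rfl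

theorem exists_stage_tensor_zero (hc : IsColimit c) {M : Type*} [AddCommGroup M] [Module A M]
    {k : J} (y : D.obj k ⊗[A] M) (h : (c.ι.app k).hom.toLinearMap.rTensor M y = 0) :
    ∃ (l : J) (f : k ⟶ l), (D.map f).hom.toLinearMap.rTensor M y = 0 := by
  obtain ⟨n, v, m, rfl⟩ := exists_fin_sum y
  rw [map_sum] at h
  simp only [LinearMap.rTensor_tmul, AlgHom.toLinearMap_apply] at h
  obtain ⟨s, r, e, a, q, h1, h2, h3⟩ := exists_relations _ m h
  obtain ⟨k', f, w, hw⟩ := exists_stage_fin hc k e
  let vv : Fin n ⊕ Fin s → D.obj k' := Sum.elim (fun i => (D.map f).hom (v i)) w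
  obtain ⟨l, g, hg⟩ := exists_stage_zero_fin hc (fun i => famMap vv (a i)) fun i => by
    refine Eq.trans ?_ (h3 i)
    rw [famMap_apply, famMap_apply, map_sum]
    refine Finset.sum_congr rfl fun t _ => ?_
    rw [map_smul]
    refine congrArg _ ?_
    cases t with
    | inl i => exact stage_w f (v i)
    | inr t => exact hw t
  refine ⟨l, f ≫ g, ?_⟩
  let u' : Fin n ⊕ Fin s → D.obj l := fun t => (D.map g).hom (vv t)
  have hz : ∑ t, u' t ⊗ₜ[A] (Sum.elim m (fun _ => (0 : M))) t = 0 := by
    refine sum_tmul_eq_zero_of_vanishesTrivially A ⟨r, fun t i => a i t, q, fun t => ?_, fun i => ?_⟩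
    · cases t with
      | inl i => exact h1 i
      | inr t => exact (h2 t).symm
    · refine Eq.trans ?_ (hg i)
      rw [famMap_apply, map_sum]
      exact Finset.sum_congr rfl fun t _ => (map_smul (D.map g).hom _ _).symm
  rw [Fintype.sum_sum_type] at hz
  simp only [Sum.elim_inl, Sum.elim_inr, tmul_zero, Finset.sum_const_zero, add_zero] at hz
  rw [map_sum]
  refine Eq.trans (Finset.sum_congr rfl fun i _ => ?_) hz
  rw [LinearMap.rTensor_tmul]
  exact congrArg (· ⊗ₜ[A] m i) (stage_comp f g (v i))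

/-- An adequate functor commutes with filtered colimits of algebras. -/
theorem isColimit_toAb {F : MVF A} (hF : adequate A F) (hc : IsColimit c) :
    Nonempty (IsColimit (F.toAb.mapCocone c)) := by
  obtain ⟨M, N, g, j, hj⟩ := adequate_iff.mp hF
  have : PreservesFilteredColimitsOfSize.{u, u} (forget Ab.{u + 1}) :=
    preservesFilteredColimitsOfSize_shrink.{u, u + 1, u, u + 1} _
  have : ReflectsColimitsOfShape J (forget Ab.{u + 1}) :=
    reflectsColimitsOfShape_of_reflectsIsomorphisms
  refine ⟨isColimitOfReflects (forget Ab.{u + 1}) ?_⟩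
  refine Types.FilteredColimit.isColimitOf' _ _ (fun x => ?_) (fun k (x y : F.obj (pt (D.obj k))) h => ?_)
  · obtain ⟨k, y, hy⟩ := exists_stage_tensor hc (emb j c.pt x)
    have h0 : (c.ι.app k).hom.toLinearMap.rTensor N (g.hom.baseChange (D.obj k) y) = 0 := by
      refine Eq.trans ?_ (hj.comp_zero c.pt x)
      rw [← hy, LinearMap.baseChange_eq_ltensor, LinearMap.baseChange_eq_ltensor,
        ← LinearMap.comp_apply, ← LinearMap.comp_apply, LinearMap.rTensor_comp_lTensor,
        LinearMap.lTensor_comp_rTensor]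
    obtain ⟨l, f, hf⟩ := exists_stage_tensor_zero hc _ h0
    have h1 : g.hom.baseChange (D.obj l) ((D.map f).hom.toLinearMap.rTensor M y) = 0 := by
      refine Eq.trans ?_ hf
      rw [LinearMap.baseChange_eq_ltensor, LinearMap.baseChange_eq_ltensor,
        ← LinearMap.comp_apply, ← LinearMap.comp_apply, LinearMap.rTensor_comp_lTensor,
        LinearMap.lTensor_comp_rTensor]
    obtain ⟨z, hz⟩ := (hj.exact (D.obj l) _).mp h1
    refine ⟨l, z, hj.inj c.pt ?_⟩
    show emb j c.pt x = emb j c.pt (tr F (c.ι.app l) z)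
    rw [emb_tr, hz, ← hy, ← LinearMap.rTensor_comp_apply]
    refine congrArg (fun t : D.obj k →ₗ[A] c.pt => t.rTensor M y) ?_
    exact LinearMap.ext fun t => (stage_w f t).symm
  · have h0 : (c.ι.app k).hom.toLinearMap.rTensor M (emb j (D.obj k) x - emb j (D.obj k) y) = 0 := by
      rw [map_sub, ← emb_tr, ← emb_tr, sub_eq_zero]
      exact congrArg (emb j c.pt) h
    obtain ⟨l, f, hf⟩ := exists_stage_tensor_zero hc _ h0
    refine ⟨l, f, hj.inj _ ?_⟩
    show emb j (D.obj l) (tr F (D.map f) x) = emb j (D.obj l) (tr F (D.map f) y)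
    rw [emb_tr, emb_tr]
    rw [map_sub, sub_eq_zero] at hf
    exact hf

end

end Groth.Agent.AdeqLib
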