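import Groth.Agent.AdeqLib.Ker
import Mathlib.RingTheory.RingHom.Flat
import Mathlib.RingTheory.Flat.Basic

/-!
# Adequate functors commute with flat base change
-/

set_option autoImplicit false

universe u

open CategoryTheory TensorProduct
open scoped ChangeOfRings

namespace Groth.Agent.AdeqLib

open Adeq

noncomputable section

variable {A : Type u} [CommRing A]

theorem bc_tmul (F : MVF A) {B B' : Alg A} (f : B ⟶ B') (b' : B') (x : F.obj (pt B)) :
    letI : Algebra B B' := f.hom.toRingHom.toAlgebra
    (F.bc f).hom (b' ⊗ₜ[(B : Type u)] x) = b' • tr F f x := rfl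

/-- An adequate functor commutes with flat base change. -/
theorem isIso_bc_of_flat {F : MVF A} (hF : adequate A F) {B B' : Alg A} (f : B ⟶ B')
    (hf : f.hom.toRingHom.Flat) : IsIso (F.bc f) := by
  obtain ⟨M, N, g, j, hj⟩ := adequate_iff.mp hF
  letI : Algebra B B' := f.hom.toRingHom.toAlgebra
  haveI : IsScalarTower A B B' := IsScalarTower.of_algebraMap_eq fun a => (f.hom.commutes a).symm
  haveI : Module.Flat B B' := hf
  let EM := TensorProduct.AlgebraTensorModule.cancelBaseChange A B B' B' M
  let EN := TensorProduct.AlgebraTensorModule.cancelBaseChange A B B' B' N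
  have hEf : ∀ (b' : B') (v : B ⊗[A] M),
      EM (b' ⊗ₜ[B] v) = b' • f.hom.toLinearMap.rTensor M v := by
    intro b' v
    induction v using TensorProduct.induction_on with
    | zero => simp
    | tmul b m =>
      rw [LinearMap.rTensor_tmul, TensorProduct.smul_tmul']
      refine (TensorProduct.AlgebraTensorModule.cancelBaseChange_tmul A B B' b' m b).trans ?_
      refine congrArg (· ⊗ₜ[A] m) ?_
      show f.hom b * b' = b' * f.hom b
      exact mul_comm _ _
    | add x y hx hy => simp only [tmul_add, map_add, smul_add, hx, hy]
  have hEg : ∀ v : B' ⊗[B] (B ⊗[A] M),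
      EN ((g.hom.baseChange B).lTensor B' v) = g.hom.baseChange B' (EM v) := by
    intro v
    induction v using TensorProduct.induction_on with
    | zero => simp
    | tmul b' w =>
      induction w using TensorProduct.induction_on with
      | zero => simp
      | tmul b m =>
        rw [LinearMap.lTensor_tmul, LinearMap.baseChange_tmul]
        refine (TensorProduct.AlgebraTensorModule.cancelBaseChange_tmul A B B' b' _ b).trans ?_
        refine Eq.trans ?_ (congrArg _
          (TensorProduct.AlgebraTensorModule.cancelBaseChange_tmul A B B' b' m b)).symm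
        rw [LinearMap.baseChange_tmul]
      | add x y hx hy => simp only [tmul_add, map_add, hx, hy]
    | add x y hx hy => simp only [map_add, hx, hy]
  let bc' : B' ⊗[B] F.obj (pt B) → F.obj (pt B') := fun z => (F.bc f).hom z
  have hbc : ∀ z : B' ⊗[B] F.obj (pt B),
      emb j B' (bc' z) = EM ((emb j B).lTensor B' z) := by
    intro z
    induction z using TensorProduct.induction_on with
    | zero => exact (congrArg (emb j B') (F.bc f).hom.map_zero).trans (by simp)
    | tmul b' x =>
      refine (congrArg (emb j B') (bc_tmul F f b' x)).trans ?_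
      rw [map_smul, emb_tr, LinearMap.lTensor_tmul, hEf]
    | add x y hx hy =>
      refine (congrArg (emb j B') ((F.bc f).hom.map_add x y)).trans ?_
      rw [map_add, map_add, map_add, ← hx, ← hy]
  refine (ConcreteCategory.isIso_iff_bijective (F.bc f)).mpr ⟨fun z z' h => ?_, fun y => ?_⟩
  · refine Module.Flat.lTensor_preserves_injective_linearMap (M := (B' : Type u)) (emb j B)
      (hj.inj B) (EM.injective ?_)
    exact ((hbc z).symm.trans (congrArg (emb j B') h)).trans (hbc z')
  · have h0 : (g.hom.baseChange B).lTensor B' (EM.symm (emb j B' y)) = 0 := EN.injective (by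
      rw [hEg, EM.apply_symm_apply, hj.comp_zero, map_zero])
    obtain ⟨z, hz⟩ := (Module.Flat.lTensor_exact (M := (B' : Type u)) (hj.exact B) _).mp h0
    refine ⟨z, hj.inj B' ?_⟩
    exact (hbc z).trans (by rw [hz, EM.apply_symm_apply])

end

end Groth.Agent.AdeqLib
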