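import Groth.Agent.AdeqLib.Parasitic

/-!
# Adequate modules are sheaves for finer topologies
-/

set_option autoImplicit false
set_option linter.style.haveILetI false
set_option linter.unusedSectionVars false
set_option backward.isDefEq.respectTransparency false
set_option backward.isDefEq.respectTransparency.types false

universe u

open CategoryTheory Limits TensorProduct Opposite AlgebraicGeometry

namespace Groth.Agent.AdeqLib

open Adeq

noncomputable section

/-- Separatedness at every algebra. -/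
theorem FFam.sep_tensor {R : Type u} [CommRing R] {ι : Type (u + 1)} {A : ι → Alg R} (hA : FFam A)
    {F : MVF R} (hF : adequate R F) (B : Alg R) {x y : F.obj (pt B)}
    (h : ∀ i, tr F (tRight (A i) B) x = tr F (tRight (A i) B) y) : x = y := by
  obtain ⟨M, N, g, j, hj⟩ := adequate_iff.mp hF
  refine sub_eq_zero.mp ((injective_iff_map_eq_zero _).mp (hj.inj B) _ ?_)
  refine hA.eq_zero _ fun i => ?_
  rw [← tAssoc_right, ← emb_tr, map_sub (tr F _), sub_eq_zero.mpr (h i), map_zero, map_zero]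

variable {K : Precoverage Scheme.{u}} [BigSite.OSh K] [HasAffRef K] [K.IsStableUnderBaseChange]
  {S : Scheme.{u}}

/-- An affine object is isomorphic to the object of an algebra compatible with a morphism to an
affine base. -/
theorem exists_alg_iso {R : CommRingCat.{u}} (a : Spec R ⟶ S) {Z : Over S} [IsAffine Z.left]
    (f : Z ⟶ sO a (algOf R R)) :
    ∃ (B : Alg R) (g : sO a B ⟶ Z), IsIso g ∧
      g ≫ f = sM a (CommAlgCat.ofHom (Algebra.ofId R B) : algOf R R ⟶ B) := by
  let B : Alg R := algPre (Z.left.isoSpec.inv ≫ f.left)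
  have hstr : sStr B = Z.left.isoSpec.inv ≫ f.left := sStr_algPre _
  let g : sO a B ⟶ Z := Over.homMk Z.left.isoSpec.inv (by
    show Z.left.isoSpec.inv ≫ Z.hom = sStr B ≫ a
    rw [hstr, ← Over.w f, Category.assoc]
    show _ ≫ _ ≫ Spec.map (CommRingCat.ofHom (RingHom.id R)) ≫ a = _
    rw [CommRingCat.ofHom_id, Spec.map_id]
    exact congrArg (fun k => Z.left.isoSpec.inv ≫ f.left ≫ k) (Category.id_comp a))
  haveI : IsIso ((Over.forget S).map g) := inferInstanceAs (IsIso Z.left.isoSpec.inv)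
  exact ⟨B, g, isIso_of_reflects_iso _ (Over.forget S), Over.OverMorphism.ext hstr.symm⟩

variable {K' : Precoverage Scheme.{u}} [HasFFRef K'] {M : BigSite.Mod K S}
  (hM : adequateMod K S M)

include hM

theorem eq_of_cover_base {R : CommRingCat.{u}} (a : Spec R ⟶ S) {T : Sieve (sO a (algOf R R))}
    (hT : T ∈ QuotSh.J K' S (sO a (algOf R R))) (x : M.val.presheaf.obj (op (sO a (algOf R R))))
    (h : ∀ ⦃Z : Over S⦄ (f : Z ⟶ sO a (algOf R R)), T.arrows f → rs M.val f x = 0) : x = 0 := by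
  rw [GrothendieckTopology.mem_over_iff] at hT
  obtain ⟨ι, hι, A, hA, hAT⟩ := HasFFRef.refine_ (K := K') R _ hT
  exact hA.sep (adequate_toMVF a hM) fun i =>
    h _ ((spec_sieve_apply a T (sM a (unitTo A i))).mp (hAT i))

theorem eq_of_cover_affine (U : Over S) [IsAffine U.left] {T : Sieve U}
    (hT : T ∈ QuotSh.J K' S U) (x : M.val.presheaf.obj (op U))
    (h : ∀ ⦃Z : Over S⦄ (f : Z ⟶ U), T.arrows f → rs M.val f x = 0) : x = 0 := by
  obtain ⟨R, a, ⟨e⟩⟩ := exists_affine_presentation U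
  let g : sO a (algOf R R) ⟶ U :=
    Over.homMk (sStr (algOf R R) ≫ e.hom.left) (by
      show (sStr (algOf R R) ≫ e.hom.left) ≫ U.hom = sStr (algOf R R) ≫ a
      rw [Category.assoc, Over.w e.hom]
      rfl)
  haveI : IsIso g := by
    haveI : IsIso ((Over.forget S).map g) := by
      haveI : IsIso (sStr (algOf R R)) := by
        rw [show sStr (algOf R R) = 𝟙 (Spec R) from
          (congrArg Spec.map (CommRingCat.ofHom_id (R := R))).trans (Spec.map_id R)]
        infer_instance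
      haveI : IsIso e.hom.left := inferInstanceAs (IsIso ((Over.forget S).map e.hom))
      show IsIso (sStr (algOf R R) ≫ e.hom.left)
      infer_instance
    exact isIso_of_reflects_iso _ (Over.forget S)
  refine (rs_bijective M.val g).1 ((eq_of_cover_base hM a ((QuotSh.J K' S).pullback_stable g hT)
    (rs M.val g x) fun Z f hf => ?_).trans (map_zero _).symm)
  rw [← rs_comp]
  exact h _ hf

/-- Affine opens of an object. -/
theorem eq_of_cover (U : Over S) {T : Sieve U} (hT : T ∈ QuotSh.J K' S U)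
    (x y : M.val.presheaf.obj (op U))
    (h : ∀ ⦃Z : Over S⦄ (f : Z ⟶ U), T.arrows f → rs M.val f x = rs M.val f y) : x = y := by
  let W : ULift.{u + 1} U.left.affineOpens → U.left.Opens := fun V => (V.down : U.left.Opens)
  have hW : ∀ p, ∃ i, p ∈ W i := fun p => by
    obtain ⟨V, hV, hpV, -⟩ :=
      exists_isAffineOpen_mem_and_subset (x := p) (U := (⊤ : U.left.Opens)) trivial
    exact ⟨ULift.up ⟨V, hV⟩, hpV⟩
  refine sheaf_ext M _ (openFamily_mem (K := K) W hW) fun V => sub_eq_zero.mp ?_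
  let π : Over.mk ((W V).ι ≫ U.hom) ⟶ U := Over.homMk (W V).ι rfl
  haveI : IsAffine (Over.mk ((W V).ι ≫ U.hom) : Over S).left := V.down.2
  refine eq_of_cover_affine hM _ ((QuotSh.J K' S).pullback_stable π hT) _ fun Z f hf => ?_
  rw [map_sub, ← rs_comp, ← rs_comp, h _ hf, sub_self]

variable {U : Over S}

theorem exists_amalg_base {R : CommRingCat.{u}} (a : Spec R ⟶ S) {T : Sieve (sO a (algOf R R))}
    (hT : T ∈ QuotSh.J K' S (sO a (algOf R R)))
    (x : ∀ ⦃Z : Over S⦄ (f : Z ⟶ sO a (algOf R R)), T.arrows f → M.val.presheaf.obj (op Z))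
    (hx : ∀ ⦃Z Z' : Over S⦄ (f : Z ⟶ sO a (algOf R R)) (g : Z' ⟶ Z) (hf : T.arrows f),
      rs M.val g (x f hf) = x (g ≫ f) (T.downward_closed hf g)) :
    ∃ t, ∀ ⦃Z : Over S⦄ (f : Z ⟶ sO a (algOf R R)) (hf : T.arrows f), rs M.val f t = x f hf := by
  have hT' := hT
  rw [GrothendieckTopology.mem_over_iff] at hT'
  obtain ⟨ι, hι, A, hA, hAT⟩ := HasFFRef.refine_ (K := K') R _ hT'
  have hu : ∀ i, T.arrows (sM a (unitTo A i)) := fun i =>
    (spec_sieve_apply a T (sM a (unitTo A i))).mp (hAT i)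
  have hcongr : ∀ {Z : Over S} {f f' : Z ⟶ sO a (algOf R R)} (e : f = f') (hf : T.arrows f)
      (hf' : T.arrows f'), x f hf = x f' hf' := by
    intro Z f f' e hf hf'
    subst e
    rfl
  have hh : ∀ {B : Alg R} (φ ψ : algOf R R ⟶ B), φ = ψ := fun {B} φ ψ =>
    CommAlgCat.hom_ext (Subsingleton.elim (α := R →ₐ[R] (B : Type u)) _ _)
  obtain ⟨t, ht⟩ := hA.exists_amalg (adequate_toMVF a hM) (fun i => x _ (hu i)) fun i k => by
    show rs M.val (sM a (tRight (A i) (A k))) (x _ (hu k)) =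
      rs M.val (sM a (tLeft (A i) (A k))) (x _ (hu i))
    rw [hx, hx]
    refine hcongr ?_ _ _
    rw [← sM_comp, ← sM_comp]
    exact congrArg (sM a) (hh _ _)
  have ht' : ∀ i, rs M.val (sM a (unitTo A i)) t = x _ (hu i) := ht
  have haff : ∀ ⦃Z : Over S⦄ [IsAffine Z.left] (f : Z ⟶ sO a (algOf R R)) (hf : T.arrows f),
      rs M.val f t = x f hf := by
    intro Z _ f hf
    obtain ⟨B, g, _, hgf⟩ := exists_alg_iso a f
    refine (rs_bijective M.val g).1 ?_
    rw [← rs_comp, hx]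
    refine hA.sep_tensor (adequate_toMVF a hM) B fun i => ?_
    show rs M.val (sM a (tRight (A i) B)) (rs M.val (g ≫ f) t) =
      rs M.val (sM a (tRight (A i) B)) (x (g ≫ f) _)
    have e1 : sM a (tLeft (A i) B) ≫ sM a (unitTo A i) = sM a (tRight (A i) B) ≫ g ≫ f := by
      rw [hgf, ← sM_comp, ← sM_comp]
      exact congrArg (sM a) (hh _ _)
    rw [← rs_comp, ← e1, rs_comp, ht', hx, hx]
    exact hcongr e1 _ _
  refine ⟨t, fun Z f hf => ?_⟩
  let W : ULift.{u + 1} Z.left.affineOpens → Z.left.Opens := fun V => (V.down : Z.left.Opens)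
  have hW : ∀ p, ∃ i, p ∈ W i := fun p => by
    obtain ⟨V, hV, hpV, -⟩ :=
      exists_isAffineOpen_mem_and_subset (x := p) (U := (⊤ : Z.left.Opens)) trivial
    exact ⟨ULift.up ⟨V, hV⟩, hpV⟩
  refine sheaf_ext M _ (openFamily_mem (K := K) W hW) fun V => ?_
  haveI : IsAffine (Over.mk ((W V).ι ≫ Z.hom) : Over S).left := V.down.2
  rw [← rs_comp, hx]
  exact haff _ _

theorem exists_amalg_affine [IsAffine U.left] {T : Sieve U} (hT : T ∈ QuotSh.J K' S U)
    (x : ∀ ⦃Z : Over S⦄ (f : Z ⟶ U), T.arrows f → M.val.presheaf.obj (op Z))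
    (hx : ∀ ⦃Z Z' : Over S⦄ (f : Z ⟶ U) (g : Z' ⟶ Z) (hf : T.arrows f),
      rs M.val g (x f hf) = x (g ≫ f) (T.downward_closed hf g)) :
    ∃ t, ∀ ⦃Z : Over S⦄ (f : Z ⟶ U) (hf : T.arrows f), rs M.val f t = x f hf := by
  obtain ⟨R, a, ⟨e⟩⟩ := exists_affine_presentation U
  let g : U ⟶ sO a (algOf R R) :=
    Over.homMk e.inv.left (by
      show e.inv.left ≫ Spec.map (CommRingCat.ofHom (RingHom.id R)) ≫ a = U.hom
      rw [CommRingCat.ofHom_id, Spec.map_id]
      exact (congrArg (e.inv.left ≫ ·) (Category.id_comp a)).trans (Over.w e.inv))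
  haveI : IsIso g := by
    haveI : IsIso ((Over.forget S).map g) :=
      inferInstanceAs (IsIso ((Over.forget S).map e.inv))
    exact isIso_of_reflects_iso _ (Over.forget S)
  obtain ⟨t, ht⟩ := exists_amalg_base hM a ((QuotSh.J K' S).pullback_stable (inv g) hT)
    (fun Z f hf => x (f ≫ inv g) hf) (fun Z Z' f k hf => by
      rw [hx]
      congr 1)
  refine ⟨rs M.val g t, fun Z f hf => ?_⟩
  rw [← rs_comp]
  refine (ht (f ≫ g) (show T.arrows ((f ≫ g) ≫ inv g) by
    rw [Category.assoc, IsIso.hom_inv_id, Category.comp_id]; exact hf)).trans ?_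
  congr 1
  rw [Category.assoc, IsIso.hom_inv_id, Category.comp_id]

/-- Adequate modules are sheaves for every topology with faithfully flat affine refinements. -/
theorem isSheaf_of_adequate : Presheaf.IsSheaf (QuotSh.J K' S) M.val.presheaf := by
  rw [Presheaf.isSheaf_iff_isSheaf_forget (QuotSh.J K' S) M.val.presheaf (forget AddCommGrpCat),
    isSheaf_iff_isSheaf_of_type]
  intro U T hT
  rw [← Presieve.isSeparatedFor_and_exists_isAmalgamation_iff_isSheafFor]
  refine ⟨fun fam t₁ t₂ h₁ h₂ => eq_of_cover hM U hT t₁ t₂ fun Z f hf =>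
    (h₁ f hf).trans (h₂ f hf).symm, fun fam hfam => ?_⟩
  have hx : ∀ ⦃Z Z' : Over S⦄ (f : Z ⟶ U) (g : Z' ⟶ Z) (hf : T.arrows f),
      rs M.val g (fam f hf) = fam (g ≫ f) (T.downward_closed hf g) := fun Z Z' f g hf =>
    ((Presieve.compatible_iff_sieveCompatible fam).mp hfam f g hf).symm
  have hcongr : ∀ {Z : Over S} {f f' : Z ⟶ U} (e : f = f') (hf : T.arrows f) (hf' : T.arrows f'),
      fam f hf = fam f' hf' := by
    intro Z f f' e hf hf'
    subst e
    rfl
  let W : ULift.{u + 1} U.left.affineOpens → U.left.Opens := fun V => (V.down : U.left.Opens)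
  have hW : ∀ p, ∃ i, p ∈ W i := fun p => by
    obtain ⟨V, hV, hpV, -⟩ :=
      exists_isAffineOpen_mem_and_subset (x := p) (U := (⊤ : U.left.Opens)) trivial
    exact ⟨ULift.up ⟨V, hV⟩, hpV⟩
  let π : ∀ V, Over.mk ((W V).ι ≫ U.hom) ⟶ U := fun V => Over.homMk (W V).ι rfl
  have hloc : ∀ V, ∃ s, ∀ ⦃Z : Over S⦄ (f : Z ⟶ Over.mk ((W V).ι ≫ U.hom))
      (hf : (Sieve.pullback (π V) T).arrows f), rs M.val f s = fam (f ≫ π V) hf := fun V => by
    haveI : IsAffine (Over.mk ((W V).ι ≫ U.hom) : Over S).left := V.down.2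
    exact exists_amalg_affine hM ((QuotSh.J K' S).pullback_stable (π V) hT)
      (fun Z f hf => fam (f ≫ π V) hf) fun Z Z' f g hf => by
        rw [hx]
        exact hcongr (Category.assoc _ _ _).symm _ _
  choose s hs using hloc
  obtain ⟨t, ht⟩ := sheaf_amalg M π (openFamily_mem (K := K) W hW) s fun i j Z gi gj hij => by
    refine eq_of_cover hM Z ((QuotSh.J K' S).pullback_stable (gi ≫ π i) hT) _ _ fun Z' f hf => ?_
    have hi : T.arrows ((f ≫ gi) ≫ π i) := by rw [Category.assoc]; exact hf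
    have hj : T.arrows ((f ≫ gj) ≫ π j) := by rw [Category.assoc, ← hij]; exact hf
    rw [← rs_comp, ← rs_comp, hs i _ hi, hs j _ hj]
    exact hcongr (by rw [Category.assoc, Category.assoc, hij]) _ _
  refine ⟨t, fun Z f hf => ?_⟩
  let W' : ULift.{u + 1} (Σ V : U.left.affineOpens,
      {O : Z.left.Opens // O ≤ f.left ⁻¹ᵁ (V : U.left.Opens)}) → Z.left.Opens := fun p => p.down.2.1
  have hW' : ∀ q, ∃ p, q ∈ W' p := fun q => by
    obtain ⟨V, hV⟩ := hW (f.left q)
    exact ⟨ULift.up ⟨V.down, f.left ⁻¹ᵁ (V.down : U.left.Opens), le_rfl⟩, hV⟩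
  refine sheaf_ext M _ (openFamily_mem (K := K) W' hW') fun p => ?_
  obtain ⟨⟨V, O, hO⟩⟩ := p
  let ρ : Over.mk (O.ι ≫ Z.hom) ⟶ Z := Over.homMk O.ι rfl
  let k₀ : (O : Scheme.{u}) ⟶ (V : U.left.Opens) :=
    IsOpenImmersion.lift (V : U.left.Opens).ι (O.ι ≫ f.left) (by
      rintro _ ⟨z, rfl⟩
      rw [Scheme.Opens.range_ι]
      exact hO z.2)
  have hk₀ : k₀ ≫ (V : U.left.Opens).ι = O.ι ≫ f.left := IsOpenImmersion.lift_fac _ _ _
  let k : Over.mk (O.ι ≫ Z.hom) ⟶ Over.mk ((W (ULift.up V)).ι ≫ U.hom) := Over.homMk k₀ (by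
    show k₀ ≫ (V : U.left.Opens).ι ≫ U.hom = O.ι ≫ Z.hom
    rw [← Category.assoc, hk₀, Category.assoc, Over.w f])
  have hk : k ≫ π (ULift.up V) = ρ ≫ f := Over.OverMorphism.ext hk₀
  have hkT : T.arrows (k ≫ π (ULift.up V)) := by rw [hk]; exact T.downward_closed hf ρ
  show rs M.val ρ (rs M.val f t) = rs M.val ρ (fam f hf)
  rw [← rs_comp, ← hk, rs_comp, ht, hs _ k hkT, hx]
  exact hcongr hk _ _

end

end Groth.Agent.AdeqLib
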