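import Groth.Agent.AdeqLib.Tangent
import Mathlib.Algebra.Category.ModuleCat.Presheaf.EpiMono
import Mathlib.LinearAlgebra.Finsupp.LinearCombination

/-! Free module-valued functor on an algebra; injective functors carry surjections to surjections. -/

universe u

open CategoryTheory Limits

namespace Groth.Agent.AdeqLib

variable {A : Type u} [CommRing A]

/-- Value of the free functor on `D`. -/
abbrev FreeVal (D X : Adeq.Alg A) : Type (u + 1) := ULift.{u + 1} ((D ⟶ X) →₀ (X : Type u))

/-- Transition map of the free functor on `D`. -/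
noncomputable def freeMap (D : Adeq.Alg A) {X Y : Adeq.Alg A} (f : X ⟶ Y) :
    FreeVal D X →+ FreeVal D Y where
  toFun v := ULift.up (Finsupp.mapDomain (fun g => g ≫ f)
    (Finsupp.mapRange f.hom (_root_.map_zero f.hom) v.down))
  map_zero' := by simp [ULift.zero_down]; rfl
  map_add' v w := by
    refine ULift.ext _ _ ?_
    simp [ULift.add_down, Finsupp.mapRange_add, Finsupp.mapDomain_add]

theorem freeMap_single (D : Adeq.Alg A) {X Y : Adeq.Alg A} (f : X ⟶ Y) (g : D ⟶ X) (c : X) :
    freeMap D f (ULift.up (Finsupp.single g c)) =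
      ULift.up (Finsupp.single (g ≫ f) (f.hom c)) := by
  refine ULift.ext _ _ ?_
  simp [freeMap]

theorem freeVal_induction {D X : Adeq.Alg A} {P : FreeVal D X → Prop} (v : FreeVal D X)
    (h0 : P 0) (hadd : ∀ a b, P a → P b → P (a + b))
    (hs : ∀ g c, P (ULift.up (Finsupp.single g c))) : P v := by
  obtain ⟨v⟩ := v
  induction v using Finsupp.induction_linear with
  | zero => exact h0
  | add a b ha hb => exact hadd _ _ ha hb
  | single g c => exact hs g c

/-- The additive functor underlying the free functor on `D`. -/
noncomputable def freeAb (D : Adeq.Alg A) : (Adeq.Alg A)ᵒᵖᵒᵖ ⥤ Ab.{u + 1} where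
  obj X := AddCommGrpCat.of (FreeVal D X.unop.unop)
  map f := AddCommGrpCat.ofHom (freeMap D f.unop.unop)
  map_id X := by
    refine AddCommGrpCat.hom_ext (AddMonoidHom.ext fun v => ?_)
    change freeMap D (𝟙 X.unop.unop) v = v
    induction v using freeVal_induction with
    | h0 => simp
    | hadd a b ha hb => rw [map_add, ha, hb]
    | hs g c => rw [freeMap_single, Category.comp_id]; rfl
  map_comp {X Y Z} f g := by
    refine AddCommGrpCat.hom_ext (AddMonoidHom.ext fun v => ?_)
    change freeMap D (f.unop.unop ≫ g.unop.unop) v = freeMap D g.unop.unop (freeMap D f.unop.unop v)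
    induction v using freeVal_induction with
    | h0 => simp
    | hadd a b ha hb => simp only [map_add, ha, hb]
    | hs h c => rw [freeMap_single, freeMap_single, freeMap_single, Category.assoc]; rfl

noncomputable instance freeAbModule (D : Adeq.Alg A) (X : (Adeq.Alg A)ᵒᵖᵒᵖ) :
    Module ((Adeq.ringOf A).obj X) ((freeAb D).obj X) :=
  inferInstanceAs (Module (X.unop.unop : Type u) (FreeVal D X.unop.unop))

theorem freeMap_smul (D : Adeq.Alg A) {X Y : Adeq.Alg A} (f : X ⟶ Y) (r : X) (v : FreeVal D X) :
    freeMap D f (r • v) = f.hom r • freeMap D f v := by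
  induction v using freeVal_induction with
  | h0 => simp
  | hadd a b ha hb => simp only [smul_add, map_add, ha, hb]
  | hs h c =>
    rw [show r • (ULift.up (Finsupp.single h c) : FreeVal D X) =
      ULift.up (Finsupp.single h (r * c)) from ULift.ext _ _ (Finsupp.smul_single' r h c),
      freeMap_single, freeMap_single, map_mul]
    exact (ULift.ext _ _ (Finsupp.smul_single' _ _ _)).symm

/-- The free module-valued functor on `D`. -/
noncomputable def freePt (D : Adeq.Alg A) : Adeq.MVF A :=
  PresheafOfModules.ofPresheaf (freeAb D) (fun _ _ f r v => freeMap_smul D f.unop.unop r v)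

/-- Precomposition with `p : D ⟶ D'`. -/
noncomputable def freePre {D D' : Adeq.Alg A} (p : D ⟶ D') : freePt D' ⟶ freePt D :=
  PresheafOfModules.homMk
    { app X := AddCommGrpCat.ofHom
        (AddEquiv.ulift.symm.toAddMonoidHom.comp
          ((Finsupp.mapDomain.addMonoidHom (fun g : D' ⟶ X.unop.unop => p ≫ g)).comp
            AddEquiv.ulift.toAddMonoidHom))
      naturality {X Y} f := by
        ext v
        change ULift.up (Finsupp.mapDomain (fun g => p ≫ g) (freeMap D' f.unop.unop v).down) =
          freeMap D f.unop.unop (ULift.up (Finsupp.mapDomain (fun g => p ≫ g) v.down))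
        refine freeVal_induction (D := D') (X := X.unop.unop) (P := fun v =>
          ULift.up (Finsupp.mapDomain (fun g => p ≫ g) (freeMap D' f.unop.unop v).down) =
            freeMap D f.unop.unop (ULift.up (Finsupp.mapDomain (fun g => p ≫ g) v.down)))
          v (by simp [ULift.zero_down]; rfl) (fun a b ha hb => ?_) (fun h c => ?_)
        · simp only [map_add, ULift.add_down, Finsupp.mapDomain_add]
          rw [show ∀ s t : (D ⟶ Y.unop.unop) →₀ (Y.unop.unop : Type u),
              (ULift.up (s + t) : FreeVal D Y.unop.unop) = ULift.up s + ULift.up t from fun _ _ => rfl,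
            show ∀ s t : (D ⟶ X.unop.unop) →₀ (X.unop.unop : Type u),
              (ULift.up (s + t) : FreeVal D X.unop.unop) = ULift.up s + ULift.up t from fun _ _ => rfl,
            map_add, ha, hb]
        · simp only [freeMap_single, Finsupp.mapDomain_single]
          rw [Category.assoc] }
    (fun X r v => ULift.ext _ _ (Finsupp.mapDomain_smul r (ULift.down v)))

/-- The map out of the free functor given by an element. -/
noncomputable def freeDesc {D : Adeq.Alg A} (F : Adeq.MVF A) (x : F.obj (Adeq.pt D)) :
    freePt D ⟶ F :=
  PresheafOfModules.homMk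
    { app X := AddCommGrpCat.ofHom
        (((Finsupp.linearCombination (X.unop.unop : Type u)
            (M := F.obj (Adeq.pt X.unop.unop))
            (fun g : D ⟶ X.unop.unop => mapHom F g x)).toAddMonoidHom).comp
          AddEquiv.ulift.toAddMonoidHom)
      naturality {X Y} f := by
        ext v
        change Finsupp.linearCombination (Y.unop.unop : Type u) (M := F.obj (Adeq.pt Y.unop.unop))
            (fun g : D ⟶ Y.unop.unop => mapHom F g x) (freeMap D f.unop.unop v).down =
          mapHom F f.unop.unop (Finsupp.linearCombination (X.unop.unop : Type u)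
            (M := F.obj (Adeq.pt X.unop.unop)) (fun g : D ⟶ X.unop.unop => mapHom F g x) (ULift.down v))
        refine freeVal_induction (D := D) (X := X.unop.unop) (P := fun v =>
          Finsupp.linearCombination (Y.unop.unop : Type u) (M := F.obj (Adeq.pt Y.unop.unop))
            (fun g : D ⟶ Y.unop.unop => mapHom F g x) (freeMap D f.unop.unop v).down =
          mapHom F f.unop.unop (Finsupp.linearCombination (X.unop.unop : Type u)
            (M := F.obj (Adeq.pt X.unop.unop)) (fun g : D ⟶ X.unop.unop => mapHom F g x) (ULift.down v)))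
          v (by simp [ULift.zero_down]) (fun a b ha hb => ?_) (fun h c => ?_)
        · simp only [map_add, ULift.add_down, ha, hb]
        · simp only [freeMap_single, Finsupp.linearCombination_single]
          rw [mapHom_comp]
          exact (PresheafOfModules.map_smul F (Adeq.ptHom f.unop.unop) c (mapHom F h x)).symm }
    (fun X r v => map_smul (Finsupp.linearCombination (X.unop.unop : Type u)
      (M := F.obj (Adeq.pt X.unop.unop)) (fun g : D ⟶ X.unop.unop => mapHom F g x)) r (ULift.down v))

theorem freePre_mono {D D' : Adeq.Alg A} (p : D ⟶ D') (hp : Function.Surjective p.hom) :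
    Mono (freePre p) := by
  refine PresheafOfModules.mono_of_injective fun {X} v w h => ?_
  refine ULift.ext _ _ (Finsupp.mapDomain_injective (fun g g' hg => ?_) (congrArg ULift.down h))
  refine CommAlgCat.hom_ext (AlgHom.ext fun y => ?_)
  obtain ⟨z, rfl⟩ := hp y
  exact DFunLike.congr_fun (congrArg (fun t => t.hom) hg) z

theorem surjective_map_of_injective (I : Adeq.MVF A) [Injective I] {D D' : Adeq.Alg A} (p : D ⟶ D')
    (hp : Function.Surjective p.hom) : Function.Surjective (mapHom I p) := by
  intro z
  haveI := freePre_mono p hp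
  let φ := Injective.factorThru (freeDesc I z) (freePre p)
  have hφ : freePre p ≫ φ = freeDesc I z := Injective.comp_factorThru _ _
  refine ⟨(φ.app (Adeq.pt D)).hom (ULift.up (Finsupp.single (𝟙 D) (1 : D))), ?_⟩
  have h1 := app_naturality φ p (ULift.up (Finsupp.single (𝟙 D) (1 : D)))
  refine h1.symm.trans ?_
  have h2 : ∀ v, (φ.app (Adeq.pt D')).hom (((freePre p).app (Adeq.pt D')).hom v) =
      ((freeDesc I z).app (Adeq.pt D')).hom v := fun v =>
    congrArg (fun t : freePt D' ⟶ I => (t.app (Adeq.pt D')).hom v) hφ
  have h3 := h2 (ULift.up (Finsupp.single (𝟙 D') (1 : D')))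
  have e1 : (freePt D).map (Adeq.ptHom p) (ULift.up (Finsupp.single (𝟙 D) (1 : D))) =
      ((freePre p).app (Adeq.pt D')).hom (ULift.up (Finsupp.single (𝟙 D') (1 : D'))) := by
    change freeMap D p _ = ULift.up (Finsupp.mapDomain (fun g : D' ⟶ D' => p ≫ g)
      (Finsupp.single (𝟙 D') (1 : D')))
    rw [freeMap_single, Finsupp.mapDomain_single, map_one, Category.id_comp, Category.comp_id]
  rw [e1]
  refine h3.trans ?_
  change Finsupp.linearCombination (D' : Type u) (M := I.obj (Adeq.pt D'))
    (fun g : D' ⟶ D' => mapHom I g z) (Finsupp.single (𝟙 D') (1 : D')) = z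
  rw [Finsupp.linearCombination_single, one_smul, mapHom_id]

end Groth.Agent.AdeqLib
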