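import Groth.Agent.EtCechLib.Inj
import Mathlib.Algebra.Category.ModuleCat.Presheaf.Free
import Mathlib.Algebra.Category.ModuleCat.Presheaf.Abelian
import Mathlib.Algebra.Category.ModuleCat.Presheaf.EpiMono

/-!
# Injective presheaves of modules are Čech acyclic and restrict surjectively along monomorphisms
-/

set_option autoImplicit false
set_option linter.all false
set_option backward.isDefEq.respectTransparency.types false
set_option backward.isDefEq.respectTransparency false

universe w v u

open CategoryTheory CategoryTheory.Limits Opposite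
open Groth.Agent.SiteCoh Groth.Agent.EtCechLib

namespace Groth.Agent.AdeqLib.InjMod

noncomputable section

variable {C : Type u} [Category.{v} C] [LocallySmall.{w} C] (R : Cᵒᵖ ⥤ RingCat.{w})
  (M : PresheafOfModules.{w} R)

section Cech

variable {U : C} [HasFiniteProducts (Over U)] {ι : Type w} (W : ι → Over U)

/-- The presheaf of sets of generators of the Čech complex. -/
def genPsh (p : ℕ) : Cᵒᵖ ⥤ Type w where
  obj Z := Gen W p Z.unop
  map r := ↾(genMap W r.unop)
  map_id Z := by
    refine ConcreteCategory.hom_ext _ _ fun t => ?_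
    obtain ⟨a, f, rfl⟩ := exists_gen W t
    show genMap W (𝟙 Z.unop) (gen W a f) = gen W a f
    rw [genMap_gen, Category.id_comp]
  map_comp {A B D} g h := by
    refine ConcreteCategory.hom_ext _ _ fun t => ?_
    obtain ⟨a, f, rfl⟩ := exists_gen W t
    show genMap W (h.unop ≫ g.unop) (gen W a f) = genMap W h.unop (genMap W g.unop (gen W a f))
    rw [genMap_gen, genMap_gen, genMap_gen, Category.assoc]

/-- The free Čech presheaves of modules. -/
abbrev F (p : ℕ) : PresheafOfModules.{w} R := (PresheafOfModules.free R).obj (genPsh W p)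

/-- The generator as an element. -/
def gn {p : ℕ} {Z : C} (t : Gen W p Z) : (F R W p).obj (op Z) := ModuleCat.freeMk t

/-- From free abelian groups to free modules. -/
def ζ (p : ℕ) (Z : C) : (N W p).obj (op Z) →+ (F R W p).obj (op Z) :=
  FreeAbelianGroup.lift fun t => gn R W t

theorem ζ_of {p : ℕ} {Z : C} (a : Fin (p + 1) → ι) (f : Z ⟶ (Cech.inter W a).left) :
    ζ R W p Z (of W a f) = gn R W (gen W a f) :=
  FreeAbelianGroup.lift_apply_of _ _

theorem map_gn {p : ℕ} {Z Z' : C} (r : Z' ⟶ Z) (t : Gen W p Z) :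
    (F R W p).map r.op (gn R W t) = gn R W (genMap W r t) :=
  ModuleCat.freeDesc_apply _ t

theorem ζ_nat {p : ℕ} {Z Z' : C} (r : Z' ⟶ Z) (x : (N W p).obj (op Z)) :
    ζ R W p Z' ((N W p).map r.op x) = (F R W p).presheaf.map r.op (ζ R W p Z x) := by
  let φ : (N W p).obj (op Z) →+ (F R W p).obj (op Z') :=
    (ζ R W p Z').comp ((N W p).map r.op).hom
  let ψ : (N W p).obj (op Z) →+ (F R W p).obj (op Z') :=
    ((F R W p).presheaf.map r.op).hom.comp (ζ R W p Z)
  suffices φ = ψ from DFunLike.congr_fun this x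
  refine FreeAbelianGroup.lift_ext _ _ fun t => ?_
  obtain ⟨a, f, rfl⟩ := exists_gen W t
  show ζ R W p Z' ((N W p).map r.op (of W a f)) = (F R W p).presheaf.map r.op (ζ R W p Z (of W a f))
  rw [N_map_of, ζ_of, ζ_of, ← genMap_gen]
  exact (map_gn R W r (gen W a f)).symm

/-- The differential. -/
def d (p : ℕ) : F R W (p + 1) ⟶ F R W p :=
  PresheafOfModules.freeObjDesc
    (F := genPsh W (p + 1))
    { app := fun Z => ↾(fun t : Gen W (p + 1) Z.unop =>
        ζ R W p Z.unop ((dN W p).app Z (FreeAbelianGroup.of t)))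
      naturality := fun Z Z' g => by
        ext t
        refine Eq.trans ?_ (ζ_nat R W g.unop _)
        refine congrArg (ζ R W p Z'.unop) (Eq.trans ?_ (NatTrans.naturality_apply (dN W p) g _))
        exact congrArg ((dN W p).app Z') (FreeAbelianGroup.map_of_apply t).symm }

theorem d_gn {p : ℕ} {Z : C} (t : Gen W (p + 1) Z) :
    (d R W p).app (op Z) (gn R W t) = ζ R W p Z ((dN W p).app (op Z) (FreeAbelianGroup.of t)) :=
  ModuleCat.freeDesc_apply _ t

theorem d_ζ (p : ℕ) (Z : C) (x : (N W (p + 1)).obj (op Z)) :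
    (d R W p).app (op Z) (ζ R W (p + 1) Z x) = ζ R W p Z ((dN W p).app (op Z) x) := by
  let φ : (N W (p + 1)).obj (op Z) →+ (F R W p).obj (op Z) :=
    ((d R W p).app (op Z)).hom.toAddMonoidHom.comp (ζ R W (p + 1) Z)
  let ψ : (N W (p + 1)).obj (op Z) →+ (F R W p).obj (op Z) :=
    (ζ R W p Z).comp ((dN W p).app (op Z)).hom
  suffices φ = ψ from DFunLike.congr_fun this x
  refine FreeAbelianGroup.lift_ext _ _ fun t => ?_
  show (d R W p).app (op Z) (ζ R W (p + 1) Z (FreeAbelianGroup.of t)) = _
  rw [show ζ R W (p + 1) Z (FreeAbelianGroup.of t) = gn R W t from FreeAbelianGroup.lift_apply_of _ _]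
  exact d_gn R W t

/-- The contracting homotopy. -/
def h (p : ℕ) (Z : C) : (F R W p).obj (op Z) ⟶ (F R W (p + 1)).obj (op Z) :=
  ModuleCat.freeDesc (↾fun t : Gen W p Z => ζ R W (p + 1) Z (cone W p Z (FreeAbelianGroup.of t)))

theorem h_ζ (p : ℕ) (Z : C) (x : (N W p).obj (op Z)) :
    h R W p Z (ζ R W p Z x) = ζ R W (p + 1) Z (cone W p Z x) := by
  let φ : (N W p).obj (op Z) →+ (F R W (p + 1)).obj (op Z) :=
    (h R W p Z).hom.toAddMonoidHom.comp (ζ R W p Z)
  let ψ : (N W p).obj (op Z) →+ (F R W (p + 1)).obj (op Z) :=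
    (ζ R W (p + 1) Z).comp (cone W p Z)
  suffices φ = ψ from DFunLike.congr_fun this x
  refine FreeAbelianGroup.lift_ext _ _ fun t => ?_
  show h R W p Z (ζ R W p Z (FreeAbelianGroup.of t)) = _
  rw [show ζ R W p Z (FreeAbelianGroup.of t) = gn R W t from FreeAbelianGroup.lift_apply_of _ _]
  exact ModuleCat.freeDesc_apply _ t

theorem eq_d_h {p : ℕ} {Z : C} (z : (F R W (p + 1)).obj (op Z))
    (hz : (d R W p).app (op Z) z = 0) : (d R W (p + 1)).app (op Z) (h R W (p + 1) Z z) = z := by
  have key : h R W (p + 1) Z ≫ (d R W (p + 1)).app (op Z) + (d R W p).app (op Z) ≫ h R W p Z =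
      𝟙 _ := by
    refine ModuleCat.free_hom_ext fun t => ?_
    show (d R W (p + 1)).app (op Z) (h R W (p + 1) Z (gn R W t)) +
      h R W p Z ((d R W p).app (op Z) (gn R W t)) = gn R W t
    have e : gn R W t = ζ R W (p + 1) Z (FreeAbelianGroup.of t) :=
      (FreeAbelianGroup.lift_apply_of _ _).symm
    rw [e, h_ζ, d_ζ, d_ζ, h_ζ, ← map_add, dN_cone_add]
  have := ConcreteCategory.congr_hom key z
  change (d R W (p + 1)).app (op Z) (h R W (p + 1) Z z) +
    h R W p Z ((d R W p).app (op Z) z) = z at this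
  rwa [hz, map_zero, add_zero] at this

/-- The Čech cohomology of an injective presheaf of modules vanishes in positive degrees. -/
theorem isZero_homology_of_injective [Injective M] (p : ℕ) :
    IsZero ((Cech.cx ((Over.forget U).op ⋙ M.presheaf) W).homology (p + 1)) := by
  let P := (Over.forget U).op ⋙ M.presheaf
  rw [Cech.isZero_homology_succ_iff]
  intro x hx
  let xb : N W (p + 1) ⟶ M.presheaf :=
    desc W (fun Z a f => M.presheaf.map f.op (Cech.ev P W a x)) fun r a f => by
      rw [op_comp, Functor.map_comp]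
      rfl
  let φ : F R W (p + 1) ⟶ M :=
    PresheafOfModules.freeObjDesc
      (F := genPsh W (p + 1))
      { app := fun Z => ↾(fun t : Gen W (p + 1) Z.unop => xb.app Z (FreeAbelianGroup.of t))
        naturality := fun Z Z' g => by
          ext t
          refine Eq.trans ?_ (NatTrans.naturality_apply xb g _)
          exact congrArg (xb.app Z') (FreeAbelianGroup.map_of_apply t).symm }
  have hφζ : ∀ (Z : C) (z : (N W (p + 1)).obj (op Z)),
      φ.app (op Z) (ζ R W (p + 1) Z z) = xb.app (op Z) z := by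
    intro Z z
    let α : (N W (p + 1)).obj (op Z) →+ M.obj (op Z) :=
      (φ.app (op Z)).hom.toAddMonoidHom.comp (ζ R W (p + 1) Z)
    suffices α = (xb.app (op Z)).hom from DFunLike.congr_fun this z
    refine FreeAbelianGroup.lift_ext _ _ fun t => ?_
    show φ.app (op Z) (ζ R W (p + 1) Z (FreeAbelianGroup.of t)) = _
    rw [show ζ R W (p + 1) Z (FreeAbelianGroup.of t) = gn R W t from
      FreeAbelianGroup.lift_apply_of _ _]
    exact ModuleCat.freeDesc_apply _ t
  have hd0 : ∀ (Z : C) (a : Fin (p + 3) → ι) (f : Z ⟶ (Cech.inter W a).left),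
      xb.app (op Z) ((dN W (p + 1)).app (op Z) (of W a f)) = 0 := by
    intro Z a f
    rw [of_eq_tup W a f rfl]
    generalize tuple W a f rfl = s
    rw [dN_tup, map_sum]
    have hv := Cech.val_d P W x s
    rw [hx] at hv
    refine Eq.trans (Finset.sum_congr rfl fun j _ => ?_) (hv.symm.trans (by simp [Cech.val]))
    rw [map_zsmul]
    exact congrArg (fun z => (-1 : ℤ) ^ (j : ℕ) • z) (desc_of W _ _ _ _)
  have hφd : d R W (p + 1) ≫ φ = 0 := by
    ext1 Z
    refine ModuleCat.free_hom_ext fun t => ?_
    obtain ⟨a, f, rfl⟩ := exists_gen W t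
    show φ.app Z ((d R W (p + 1)).app Z (gn R W (gen W a f))) = 0
    rw [d_gn, hφζ]
    exact hd0 _ a f
  let S : ShortComplex (PresheafOfModules.{w} R) :=
    ShortComplex.mk (kernel.ι (d R W p)) (d R W p) (kernel.condition _)
  have hk : kernel.ι (d R W p) ≫ φ = 0 := by
    ext Z k
    have h0 : (d R W p).app Z ((kernel.ι (d R W p)).app Z k) = 0 :=
      ConcreteCategory.congr_hom
        (congrArg (fun (α : kernel (d R W p) ⟶ F R W p) => α.app Z) (kernel.condition (d R W p))) k
    show φ.app Z ((kernel.ι (d R W p)).app Z k) = 0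
    rw [← eq_d_h R W (Z := Z.unop) _ h0]
    exact ConcreteCategory.congr_hom
      (congrArg (fun (α : F R W (p + 2) ⟶ M) => α.app Z) hφd) _
  have hS : S.Exact := ShortComplex.exact_of_f_is_kernel _ (kernelIsKernel (d R W p))
  let ψ : F R W p ⟶ M := hS.descToInjective φ hk
  have hψ : d R W p ≫ ψ = φ := hS.comp_descToInjective φ hk
  refine ⟨Cech.mk P W fun a => ψ.app (op (Cech.inter W a).left) (gn R W (gen W a (𝟙 _))),
    Cech.ext P W fun a => ?_⟩
  rw [Cech.ev_d]
  have h1 : φ.app (op (Cech.inter W a).left) (gn R W (gen W a (𝟙 _))) = Cech.ev P W a x := by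
    rw [← ζ_of, hφζ]
    refine (desc_of W _ _ _ _).trans ?_
    simp
  rw [← h1, ← hψ]
  show _ = ψ.app _ ((d R W p).app _ (gn R W (gen W a (𝟙 _))))
  rw [d_gn, show (FreeAbelianGroup.of (gen W a (𝟙 _)) : (N W (p + 1)).obj (op (Cech.inter W a).left)) =
    of W a (𝟙 _) from rfl, dN_of, map_sum, map_sum]
  refine Finset.sum_congr rfl fun j _ => ?_
  rw [map_zsmul, map_zsmul, Cech.ev_mk, ζ_of]
  refine congrArg (fun z => (-1 : ℤ) ^ (j : ℕ) • z) ?_
  show M.presheaf.map (Cech.face W a j).left.op _ = _
  refine (PresheafOfModules.naturality_apply ψ (Cech.face W a j).left.op _).symm.trans ?_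
  refine congrArg (ψ.app _) ((map_gn R W (Cech.face W a j).left _).trans ?_)
  rw [genMap_gen, Category.comp_id, Category.id_comp]

end Cech

/-- Sections of an injective presheaf of modules extend along monomorphisms. -/
theorem surjective_map_of_mono [Injective M] {V V' : C} (m : V' ⟶ V) [Mono m] :
    Function.Surjective (M.presheaf.map m.op) := by
  intro y
  let G : C → Cᵒᵖ ⥤ Type w := fun X =>
    { obj := fun Z => Shrink.{w} (Z.unop ⟶ X)
      map := fun r => ↾(fun s => equivShrink _ (r.unop ≫ (equivShrink _).symm s))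
      map_id := fun Z => by ext s; simp
      map_comp := fun g k => by ext s; simp [Category.assoc] }
  let μ : G V' ⟶ G V :=
    { app := fun Z => ↾(fun s : Shrink.{w} (Z.unop ⟶ V') => equivShrink _ ((equivShrink _).symm s ≫ m))
      naturality := fun A B g => by ext s; simp [G, Category.assoc] }
  let φ : (PresheafOfModules.free R).obj (G V') ⟶ M :=
    PresheafOfModules.freeObjDesc
      (F := G V')
      { app := fun Z => ↾(fun s : Shrink.{w} (Z.unop ⟶ V') =>
          M.presheaf.map ((equivShrink _).symm s).op y)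
        naturality := fun A B g => by
          ext s
          simp [G] }
  haveI : Mono ((PresheafOfModules.free R).map μ) := by
    refine PresheafOfModules.mono_of_injective fun {Z} => ?_
    refine Finsupp.mapDomain_injective fun s s' h => ?_
    have := congrArg (equivShrink (Z.unop ⟶ V)).symm h
    simp [μ] at this
    exact (equivShrink _).symm.injective ((cancel_mono m).1 this)
  let ψ : (PresheafOfModules.free R).obj (G V) ⟶ M :=
    Injective.factorThru φ ((PresheafOfModules.free R).map μ)
  have hψ : (PresheafOfModules.free R).map μ ≫ ψ = φ := Injective.comp_factorThru _ _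
  let g : (G V).obj (op V) := equivShrink (V ⟶ V) (𝟙 V)
  refine ⟨ψ.app (op V) (ModuleCat.freeMk g), ?_⟩
  let g' : (G V').obj (op V') := equivShrink (V' ⟶ V') (𝟙 V')
  have h1 : φ.app (op V') (ModuleCat.freeMk g') = y := by
    refine (ModuleCat.freeDesc_apply _ g').trans ?_
    show M.presheaf.map ((equivShrink (V' ⟶ V')).symm (equivShrink _ (𝟙 V'))).op y = y
    rw [Equiv.symm_apply_apply, op_id, M.presheaf.map_id]
    rfl
  refine (PresheafOfModules.naturality_apply ψ m.op (ModuleCat.freeMk g)).symm.trans ?_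
  refine Eq.trans (congrArg (ψ.app (op V')) ?_)
    ((ConcreteCategory.congr_hom
      (congrArg (fun (α : (PresheafOfModules.free R).obj (G V') ⟶ M) => α.app (op V')) hψ)
      (ModuleCat.freeMk g')).trans h1)
  refine (ModuleCat.freeDesc_apply _ g).trans ?_
  refine Eq.trans ?_ (ModuleCat.free_map_apply _ g').symm
  refine congrArg ModuleCat.freeMk ?_
  simp [G, μ, g, g']

end

end Groth.Agent.AdeqLib.InjMod
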