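import Groth.Prelude.Def_Adeq
import Mathlib.Algebra.Category.ModuleCat.Presheaf.Limits
import Mathlib.Algebra.Category.ModuleCat.Presheaf.Colimits
import Mathlib.Algebra.Homology.ShortComplex.ModuleCat
import Mathlib.Algebra.Homology.ShortComplex.ExactFunctor
import Mathlib.LinearAlgebra.TensorProduct.RightExactness

/-!
# Adequate functors as pointwise kernels
-/

set_option autoImplicit false

universe u

open CategoryTheory Limits TensorProduct

namespace Groth.Agent.AdeqLib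

open Adeq

noncomputable section

variable {A : Type u} [CommRing A]

/-- The functor `B ↦ B ⊗ M`. -/
abbrev uO (M : ModuleCat.{u + 1} A) : MVF A := (underline A).obj M

/-- The transition map. -/
def tr (F : MVF A) {X Y : Alg A} (f : X ⟶ Y) : F.obj (pt X) →+ F.obj (pt Y) :=
  (F.map (ptHom f)).hom.toAddMonoidHom

theorem tr_smul (F : MVF A) {X Y : Alg A} (f : X ⟶ Y) (b : X) (x : F.obj (pt X)) :
    tr F f (b • x) = f.hom b • tr F f x :=
  PresheafOfModules.map_smul F (ptHom f) b x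

theorem tr_comp (F : MVF A) {X Y Z : Alg A} (f : X ⟶ Y) (g : Y ⟶ Z) (x : F.obj (pt X)) :
    tr F (f ≫ g) x = tr F g (tr F f x) :=
  F.map_comp_apply (ptHom f) (ptHom g) x

theorem tr_id (F : MVF A) (X : Alg A) (x : F.obj (pt X)) : tr F (𝟙 X) x = x := by
  show (F.map (𝟙 (pt X))).hom x = x
  rw [F.map_id]
  rfl

/-- The component of a morphism. -/
def ap {F G : MVF A} (φ : F ⟶ G) (B : Alg A) : F.obj (pt B) →ₗ[B] G.obj (pt B) :=
  (φ.app (pt B)).hom

theorem ap_tr {F G : MVF A} (φ : F ⟶ G) {X Y : Alg A} (f : X ⟶ Y) (x : F.obj (pt X)) :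
    ap φ Y (tr F f x) = tr G f (ap φ X x) :=
  PresheafOfModules.naturality_apply φ (ptHom f) x

theorem ap_comp {F G H : MVF A} (φ : F ⟶ G) (ψ : G ⟶ H) (B : Alg A) (x : F.obj (pt B)) :
    ap (φ ≫ ψ) B x = ap ψ B (ap φ B x) := rfl

@[simp] theorem ap_id (F : MVF A) (B : Alg A) (x : F.obj (pt B)) : ap (𝟙 F) B x = x := rfl

theorem ap_zero (F G : MVF A) (B : Alg A) (x : F.obj (pt B)) : ap (0 : F ⟶ G) B x = 0 := rfl

theorem ap_add {F G : MVF A} (φ ψ : F ⟶ G) (B : Alg A) (x : F.obj (pt B)) :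
    ap (φ + ψ) B x = ap φ B x + ap ψ B x := rfl

theorem ap_neg {F G : MVF A} (φ : F ⟶ G) (B : Alg A) (x : F.obj (pt B)) :
    ap (-φ) B x = -ap φ B x := rfl

theorem ap_sub {F G : MVF A} (φ ψ : F ⟶ G) (B : Alg A) (x : F.obj (pt B)) :
    ap (φ - ψ) B x = ap φ B x - ap ψ B x := rfl

theorem hom_ext' {F G : MVF A} {φ ψ : F ⟶ G} (h : ∀ B x, ap φ B x = ap ψ B x) : φ = ψ := by
  ext ⟨⟨B⟩⟩ x
  exact h B x

/-- A morphism from its components. -/
def mkHom {F G : MVF A} (φ : ∀ B : Alg A, F.obj (pt B) →ₗ[B] G.obj (pt B))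
    (h : ∀ {X Y : Alg A} (f : X ⟶ Y) (x : F.obj (pt X)), φ Y (tr F f x) = tr G f (φ X x)) :
    F ⟶ G :=
  PresheafOfModules.homMk
    { app := fun X => AddCommGrpCat.ofHom (φ X.unop.unop).toAddMonoidHom
      naturality := fun {X Y} f => by
        ext x
        exact h f.unop.unop x }
    (fun X r x => (φ X.unop.unop).map_smul r x)

@[simp] theorem ap_mkHom {F G : MVF A} (φ : ∀ B : Alg A, F.obj (pt B) →ₗ[B] G.obj (pt B))
    (h : ∀ {X Y : Alg A} (f : X ⟶ Y) (x : F.obj (pt X)), φ Y (tr F f x) = tr G f (φ X x))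
    (B : Alg A) (x : F.obj (pt B)) : ap (mkHom φ h) B x = φ B x := rfl

/-- A pointwise bijective morphism is an isomorphism. -/
theorem isIso_of_bij {F G : MVF A} (φ : F ⟶ G) (h : ∀ B, Function.Bijective (ap φ B)) :
    IsIso φ := by
  refine ⟨mkHom (fun B => (LinearEquiv.ofBijective (ap φ B) (h B)).symm.toLinearMap) ?_, ?_, ?_⟩
  · intro X Y f x
    apply (h Y).1
    obtain ⟨z, rfl⟩ := (h X).2 x
    show LinearEquiv.ofBijective (ap φ Y) (h Y) ((LinearEquiv.ofBijective (ap φ Y) (h Y)).symm _) =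
      ap φ Y (tr F f ((LinearEquiv.ofBijective (ap φ X) (h X)).symm _))
    rw [LinearEquiv.apply_symm_apply, LinearEquiv.ofBijective_symm_apply_apply, ap_tr]
  · exact hom_ext' fun B x => LinearEquiv.ofBijective_symm_apply_apply (ap φ B) (h := h B) x
  · exact hom_ext' fun B x => (LinearEquiv.ofBijective (ap φ B) (h B)).apply_symm_apply x

theorem mono_of_inj {F G : MVF A} (φ : F ⟶ G) (h : ∀ B, Function.Injective (ap φ B)) : Mono φ :=
  PresheafOfModules.mono_of_injective fun {X} => h X.unop.unop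

theorem epi_of_surj {F G : MVF A} (φ : F ⟶ G) (h : ∀ B, Function.Surjective (ap φ B)) : Epi φ :=
  PresheafOfModules.epi_of_surjective fun {X} => h X.unop.unop

theorem inj_of_mono {F G : MVF A} (φ : F ⟶ G) [Mono φ] (B : Alg A) :
    Function.Injective (ap φ B) :=
  PresheafOfModules.injective_of_mono φ (pt B)

theorem surj_of_epi {F G : MVF A} (φ : F ⟶ G) [Epi φ] (B : Alg A) :
    Function.Surjective (ap φ B) :=
  PresheafOfModules.surjective_of_epi φ (pt B)

/-- The value of `uO M` as a tensor product. -/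
def toT (M : ModuleCat.{u + 1} A) (B : Alg A) : (uO M).obj (pt B) ≃ₗ[B] B ⊗[A] M where
  toFun z := z
  invFun z := z
  left_inv _ := rfl
  right_inv _ := rfl
  map_add' _ _ := rfl
  map_smul' _ _ := rfl

theorem toT_tr (M : ModuleCat.{u + 1} A) {X Y : Alg A} (f : X ⟶ Y) (z : (uO M).obj (pt X)) :
    toT M Y (tr (uO M) f z) = f.hom.toLinearMap.rTensor M (toT M X z) := rfl

theorem toT_ap_map {M N : ModuleCat.{u + 1} A} (g : M ⟶ N) (B : Alg A) (z : (uO M).obj (pt B)) :
    toT N B (ap ((underline A).map g) B z) = g.hom.baseChange B (toT M B z) := rfl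

/-- The component of a morphism into `uO M`, with values in the tensor product. -/
def emb {F : MVF A} {M : ModuleCat.{u + 1} A} (j : F ⟶ uO M) (B : Alg A) :
    F.obj (pt B) →ₗ[B] B ⊗[A] M :=
  (toT M B).toLinearMap.comp (ap j B)

theorem emb_apply {F : MVF A} {M : ModuleCat.{u + 1} A} (j : F ⟶ uO M) (B : Alg A)
    (x : F.obj (pt B)) : emb j B x = toT M B (ap j B x) := rfl

theorem emb_tr {F : MVF A} {M : ModuleCat.{u + 1} A} (j : F ⟶ uO M) {X Y : Alg A} (f : X ⟶ Y)
    (x : F.obj (pt X)) : emb j Y (tr F f x) = f.hom.toLinearMap.rTensor M (emb j X x) := by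
  rw [emb_apply, ap_tr, toT_tr, emb_apply]

theorem emb_comp_map {F : MVF A} {M N : ModuleCat.{u + 1} A} (j : F ⟶ uO M) (g : M ⟶ N)
    (B : Alg A) (x : F.obj (pt B)) :
    emb (j ≫ (underline A).map g) B x = g.hom.baseChange B (emb j B x) := rfl

theorem emb_comp {F G : MVF A} {M : ModuleCat.{u + 1} A} (φ : F ⟶ G) (j : G ⟶ uO M) (B : Alg A)
    (x : F.obj (pt B)) : emb (φ ≫ j) B x = emb j B (ap φ B x) := rfl

theorem emb_ext {F : MVF A} {M : ModuleCat.{u + 1} A} {j j' : F ⟶ uO M}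
    (h : ∀ B x, emb j B x = emb j' B x) : j = j' :=
  hom_ext' fun B x => (toT M B).injective (h B x)

/-- Base change of a composite. -/
theorem baseChange_comp_apply {M N P : ModuleCat.{u + 1} A} (f : M ⟶ N) (g : N ⟶ P) (B : Alg A)
    (z : B ⊗[A] M) :
    (f ≫ g).hom.baseChange B z = g.hom.baseChange B (f.hom.baseChange B z) := by
  rw [ModuleCat.hom_comp, LinearMap.baseChange_comp, LinearMap.comp_apply]

/-- `j` exhibits `F` as the pointwise kernel of `uO g`. -/
structure IsKer {F : MVF A} {M N : ModuleCat.{u + 1} A} (j : F ⟶ uO M) (g : M ⟶ N) : Prop where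
  inj : ∀ B, Function.Injective (emb j B)
  exact : ∀ B, Function.Exact (emb j B) (g.hom.baseChange B)

theorem isKer_kernel {M N : ModuleCat.{u + 1} A} (g : M ⟶ N) :
    IsKer (kernel.ι ((underline A).map g)) g := by
  haveI : ∀ B : Alg A, (PresheafOfModules.evaluation.{u + 1} (ringOf A) (pt B)).Additive :=
    fun B => ⟨fun {F G f g} => rfl⟩
  haveI : ∀ B : Alg A, PreservesFiniteLimits
      (PresheafOfModules.evaluation.{u + 1} (ringOf A) (pt B)) :=
    fun B => PresheafOfModules.evaluation_preservesFiniteLimits.{u + 1} (R := ringOf A) (pt B)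
  refine ⟨fun B => (toT M B).injective.comp (inj_of_mono (kernel.ι ((underline A).map g)) B),
    fun B z => ?_⟩
  let S : ShortComplex (MVF A) :=
    ShortComplex.mk (kernel.ι ((underline A).map g)) ((underline A).map g) (kernel.condition _)
  have hS : S.Exact := ShortComplex.exact_of_f_is_kernel S (kernelIsKernel _)
  have hmap : (S.map (PresheafOfModules.evaluation.{u + 1} (ringOf A) (pt B))).Exact :=
    hS.map_of_mono_of_preservesKernel _ (inferInstanceAs (Mono (kernel.ι ((underline A).map g))))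
      inferInstance
  constructor
  · intro hz
    obtain ⟨x, hx⟩ := (ShortComplex.moduleCat_exact_iff _).1 hmap ((toT M B).symm z)
      ((toT N B).injective (by
        refine (toT_ap_map g B ((toT M B).symm z)).trans ?_
        rw [LinearEquiv.apply_symm_apply]
        exact hz.trans (map_zero (toT N B)).symm))
    exact ⟨x, congrArg (toT M B) hx⟩
  · rintro ⟨x, rfl⟩
    have := DFunLike.congr_fun (congrArg (fun t => ap t B) (kernel.condition ((underline A).map g))) x
    exact (toT_ap_map g B _).symm.trans (congrArg (toT N B) this)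

/-- The components of a morphism into a kernel. -/
def IsKer.liftAux {F H : MVF A} {M N : ModuleCat.{u + 1} A} {j : F ⟶ uO M} {g : M ⟶ N}
    (hj : IsKer j g) (ψ : H ⟶ uO M)
    (h : ∀ (B : Alg A) (x : H.obj (pt B)), g.hom.baseChange B (emb ψ B x) = 0) (B : Alg A)
    (x : H.obj (pt B)) : F.obj (pt B) :=
  ((hj.exact B _).mp (h B x)).choose

theorem IsKer.liftAux_spec {F H : MVF A} {M N : ModuleCat.{u + 1} A} {j : F ⟶ uO M} {g : M ⟶ N}
    (hj : IsKer j g) (ψ : H ⟶ uO M)
    (h : ∀ (B : Alg A) (x : H.obj (pt B)), g.hom.baseChange B (emb ψ B x) = 0) (B : Alg A)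
    (x : H.obj (pt B)) : emb j B (hj.liftAux ψ h B x) = emb ψ B x :=
  ((hj.exact B _).mp (h B x)).choose_spec

/-- A morphism into a kernel. -/
def IsKer.lift {F H : MVF A} {M N : ModuleCat.{u + 1} A} {j : F ⟶ uO M} {g : M ⟶ N}
    (hj : IsKer j g) (ψ : H ⟶ uO M)
    (h : ∀ (B : Alg A) (x : H.obj (pt B)), g.hom.baseChange B (emb ψ B x) = 0) : H ⟶ F :=
  mkHom
    (fun B =>
      { toFun := hj.liftAux ψ h B
        map_add' := fun x y => hj.inj B (by
          rw [map_add, hj.liftAux_spec, hj.liftAux_spec, hj.liftAux_spec, map_add])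
        map_smul' := fun b x => hj.inj B (by
          rw [RingHom.id_apply, map_smul, hj.liftAux_spec, hj.liftAux_spec, map_smul]) })
    (fun {X Y} f x => hj.inj Y (by
      show emb j Y (hj.liftAux ψ h Y (tr H f x)) = emb j Y (tr F f (hj.liftAux ψ h X x))
      rw [emb_tr j, hj.liftAux_spec, hj.liftAux_spec, emb_tr]))

theorem IsKer.lift_fac {F H : MVF A} {M N : ModuleCat.{u + 1} A} {j : F ⟶ uO M} {g : M ⟶ N}
    (hj : IsKer j g) (ψ : H ⟶ uO M)
    (h : ∀ (B : Alg A) (x : H.obj (pt B)), g.hom.baseChange B (emb ψ B x) = 0) :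
    hj.lift ψ h ≫ j = ψ :=
  emb_ext fun B x => hj.liftAux_spec ψ h B x

theorem IsKer.comp_zero {F : MVF A} {M N : ModuleCat.{u + 1} A} {j : F ⟶ uO M} {g : M ⟶ N}
    (hj : IsKer j g) (B : Alg A) (x : F.obj (pt B)) : g.hom.baseChange B (emb j B x) = 0 :=
  (hj.exact B).apply_apply_eq_zero x

/-- The comparison of two kernels of the same map is an isomorphism. -/
def IsKer.iso {F F' : MVF A} {M N : ModuleCat.{u + 1} A} {j : F ⟶ uO M} {j' : F' ⟶ uO M}
    {g : M ⟶ N} (hj : IsKer j g) (hj' : IsKer j' g) : F ≅ F' :=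
  { hom := hj'.lift j hj.comp_zero
    inv := hj.lift j' hj'.comp_zero
    hom_inv_id := hom_ext' fun B x => hj.inj B (by
      rw [← emb_comp, Category.assoc, hj.lift_fac, hj'.lift_fac]; rfl)
    inv_hom_id := hom_ext' fun B x => hj'.inj B (by
      rw [← emb_comp, Category.assoc, hj'.lift_fac, hj.lift_fac]; rfl) }

theorem IsKer.of_iso {F F' : MVF A} {M N : ModuleCat.{u + 1} A} {j : F ⟶ uO M} {g : M ⟶ N}
    (hj : IsKer j g) (e : F' ≅ F) : IsKer (e.hom ≫ j) g := by
  have hs : ∀ B, Function.Surjective (ap e.hom B) := fun B => surj_of_epi e.hom B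
  refine ⟨fun B => (hj.inj B).comp (inj_of_mono e.hom B), fun B z => ⟨fun hz => ?_, ?_⟩⟩
  · obtain ⟨y, rfl⟩ := (hj.exact B z).mp hz
    obtain ⟨x, rfl⟩ := hs B y
    exact ⟨x, rfl⟩
  · rintro ⟨x, rfl⟩
    exact hj.comp_zero B _

theorem adequate_iff {F : MVF A} :
    adequate A F ↔ ∃ (M N : ModuleCat.{u + 1} A) (g : M ⟶ N) (j : F ⟶ uO M), IsKer j g := by
  constructor
  · rintro ⟨M, N, g, ⟨e⟩⟩
    exact ⟨M, N, g, _, (isKer_kernel g).of_iso e⟩
  · rintro ⟨M, N, g, j, hj⟩
    exact ⟨M, N, g, ⟨hj.iso (isKer_kernel g)⟩⟩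

theorem adequate_uO (M : ModuleCat.{u + 1} A) : adequate A (uO M) := by
  refine adequate_iff.mpr ⟨M, M, 0, 𝟙 _, fun B => (toT M B).injective, fun B z => ⟨fun _ => ?_, ?_⟩⟩
  · exact ⟨(toT M B).symm z, (toT M B).apply_symm_apply z⟩
  · intro _
    simp

end

end Groth.Agent.AdeqLib
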