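import Groth.Agent.AdeqLib.Sheafify
import Groth.Agent.AdeqLib.Exact

/-!
# Parasitic adequate modules
-/

set_option autoImplicit false
set_option linter.style.haveILetI false
set_option linter.unusedSectionVars false
set_option backward.isDefEq.respectTransparency false
set_option backward.isDefEq.respectTransparency.types false

universe u

open CategoryTheory Limits TensorProduct Opposite AlgebraicGeometry

namespace Groth.Agent.AdeqLib

open Adeq

noncomputable section

/-- An adequate functor vanishing at the base vanishes at flat algebras. -/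
theorem subsingleton_of_flat {R : Type u} [CommRing R] {F : MVF R} (hF : adequate R F)
    [Subsingleton (F.obj (pt (algOf R R)))] (B : Alg R) [Module.Flat R B] :
    Subsingleton (F.obj (pt B)) := by
  obtain ⟨M, N, g, j, hj⟩ := adequate_iff.mp hF
  have hg : Function.Injective g.hom := by
    rw [injective_iff_map_eq_zero]
    intro m hm
    obtain ⟨x, hx⟩ := (hj.exact (algOf R R) ((1 : R) ⊗ₜ[R] m)).mp (by
      rw [LinearMap.baseChange_tmul, hm, TensorProduct.tmul_zero])
    rw [Subsingleton.elim x 0, map_zero] at hx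
    have := congrArg (TensorProduct.lid R M) hx
    rw [map_zero, TensorProduct.lid_tmul, one_smul] at this
    exact this.symm
  have hB : Function.Injective (g.hom.baseChange B) := by
    rw [LinearMap.baseChange_eq_ltensor]
    exact Module.Flat.lTensor_preserves_injective_linearMap g.hom hg
  refine ⟨fun x y => hj.inj B (hB ?_)⟩
  rw [hj.comp_zero, hj.comp_zero]

variable {K : Precoverage Scheme.{u}} [BigSite.OSh K] {S : Scheme.{u}}

theorem subsingleton_of_iso (M : BigSite.Mod K S) {U V : Over S} (g : V ⟶ U) [IsIso g]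
    (h : Subsingleton (M.val.presheaf.obj (op V))) : Subsingleton (M.val.presheaf.obj (op U)) :=
  ⟨fun _ _ => (rs_bijective M.val g).1 (h.elim _ _)⟩

theorem subsingleton_of_cover (M : BigSite.Mod K S) {U : Over S} {ι : Type (u + 1)}
    {Y : ι → Over S} (π : ∀ i, Y i ⟶ U) (hcov : Sieve.ofArrows Y π ∈ QuotSh.J K S U)
    (h : ∀ i, Subsingleton (M.val.presheaf.obj (op (Y i)))) :
    Subsingleton (M.val.presheaf.obj (op U)) :=
  ⟨fun _ _ => sheaf_ext M π hcov fun i => (h i).elim _ _⟩

variable [HasAffRef K]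

/-- A jointly surjective family of opens covers in the big site. -/
theorem openFamily_mem {U : Over S} {ι : Type (u + 1)} (W : ι → U.left.Opens)
    (hW : ∀ x, ∃ i, x ∈ W i) :
    Sieve.ofArrows (fun i => Over.mk ((W i).ι ≫ U.hom)) (fun i => Over.homMk (W i).ι rfl) ∈
      QuotSh.J K S U := by
  rw [GrothendieckTopology.mem_over_iff]
  refine GrothendieckTopology.superset_covering _ ?_
    (Precoverage.generate_mem_toGrothendieck (HasAffRef.zariski_le (K := K) U.left
      ((Scheme.ofArrows_mem_precoverage_iff (P := @IsOpenImmersion)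
        (X := fun i => ((W i : U.left.Opens) : Scheme.{u})) (f := fun i => (W i).ι)).mpr
        ⟨fun x => ?_, fun i => inferInstance⟩)))
  · refine (Sieve.generate_le_iff _ _).mpr (Presieve.ofArrows_le_iff.mpr fun i => ?_)
    rw [Sieve.overEquiv_iff]
    exact Sieve.ofArrows_mk _ (fun i => (Over.homMk (W i).ι rfl : Over.mk ((W i).ι ≫ U.hom) ⟶ U)) i
  · obtain ⟨i, hi⟩ := hW x
    exact ⟨i, ⟨x, hi⟩, rfl⟩

variable [K.IsStableUnderBaseChange]

theorem vanish_of_flat {M : BigSite.Mod K S} {R : CommRingCat.{u}} (a : Spec R ⟶ S)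
    [Subsingleton (((toMVF K a).obj M).obj (pt (algOf R R)))] (hM : adequateMod K S M) (B : Alg R)
    (hflat : Flat (sStr B)) : Subsingleton (M.val.presheaf.obj (op (sO a B))) :=
  haveI : Module.Flat R B := RingHom.flat_algebraMap_iff.mp ((HasRingHomProperty.Spec_iff (P := @Flat)).mp hflat)
  subsingleton_of_flat (adequate_toMVF a hM) B

/-- Vanishing on an affine open forces vanishing on flat affine objects over it. -/
theorem subsingleton_flat_affine {M : BigSite.Mod K S} (hM : adequateMod K S M)
    {R : CommRingCat.{u}} (a : Spec R ⟶ S) (V : Over S) [IsAffine V.left] (l : V.left ⟶ Spec R)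
    (hl : l ≫ a = V.hom) [Flat l]
    (h : Subsingleton (M.val.presheaf.obj (op (Over.mk a)))) :
    Subsingleton (M.val.presheaf.obj (op V)) := by
  let B : Alg R := algPre (V.left.isoSpec.inv ≫ l)
  have hstr : sStr B = V.left.isoSpec.inv ≫ l := sStr_algPre _
  haveI : Subsingleton (((toMVF K a).obj M).obj (pt (algOf R R))) := by
    let g : Over.mk a ⟶ sO a (algOf R R) := Over.homMk (𝟙 _) (by
      show 𝟙 _ ≫ Spec.map (CommRingCat.ofHom (RingHom.id R)) ≫ a = a
      rw [CommRingCat.ofHom_id, Spec.map_id, Category.id_comp]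
      exact Category.id_comp a)
    haveI : IsIso g := by
      haveI : IsIso ((Over.forget S).map g) := inferInstanceAs (IsIso (𝟙 _))
      exact isIso_of_reflects_iso _ (Over.forget S)
    exact subsingleton_of_iso M g h
  have hflat : Flat (sStr B) := by rw [hstr]; infer_instance
  have hB : Subsingleton (M.val.presheaf.obj (op (sO a B))) := vanish_of_flat a hM B hflat
  let g : sO a B ⟶ V := Over.homMk V.left.isoSpec.inv (by
    show V.left.isoSpec.inv ≫ V.hom = sStr B ≫ a
    rw [hstr, Category.assoc, hl])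
  haveI : IsIso g := by
    haveI : IsIso ((Over.forget S).map g) := inferInstanceAs (IsIso V.left.isoSpec.inv)
    exact isIso_of_reflects_iso _ (Over.forget S)
  exact subsingleton_of_iso M g hB

/-- An adequate module vanishing on an affine open covering is parasitic. -/
theorem parasitic_of_affineCover {M : BigSite.Mod K S} (hM : adequateMod K S M) {κ : Type u}
    (W : κ → S.Opens) (hW : ∀ i, IsAffineOpen (W i)) (hcov : (⨆ i, W i) = ⊤)
    (h : ∀ i, Subsingleton (M.val.presheaf.obj (op (Over.mk (W i).ι : Over S)))) :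
    parasitic K S M := by
  intro U hU
  let ι := ULift.{u + 1} (Σ i, {V : U.left.Opens // IsAffineOpen V ∧ V ≤ U.hom ⁻¹ᵁ W i})
  let Wι : ι → U.left.Opens := fun p => p.down.2.1
  have hι : ∀ x, ∃ p : ι, x ∈ Wι p := fun x => by
    obtain ⟨i, hi⟩ := TopologicalSpace.Opens.mem_iSup.mp
      (show U.hom x ∈ ⨆ i, W i by rw [hcov]; trivial)
    obtain ⟨V, hV, hxV, hVle⟩ :=
      exists_isAffineOpen_mem_and_subset (x := x) (U := U.hom ⁻¹ᵁ W i) hi
    exact ⟨ULift.up ⟨i, V, hV, hVle⟩, hxV⟩
  refine subsingleton_of_cover M _ (openFamily_mem Wι hι) fun p => ?_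
  obtain ⟨⟨i, V, hV, hVle⟩⟩ := p
  haveI : IsAffine ((V : U.left.Opens) : Scheme.{u}) := hV
  haveI : IsAffine ((W i : S.Opens) : Scheme.{u}) := hW i
  let a : Spec Γ(W i, ⊤) ⟶ S := (W i : Scheme.{u}).isoSpec.inv ≫ (W i).ι
  let l₀ : (V : Scheme.{u}) ⟶ W i := IsOpenImmersion.lift (W i).ι (V.ι ≫ U.hom) (by
    rintro _ ⟨z, rfl⟩
    rw [Scheme.Opens.range_ι]
    exact hVle z.2)
  have hl₀ : l₀ ≫ (W i).ι = V.ι ≫ U.hom := IsOpenImmersion.lift_fac _ _ _
  haveI : Flat l₀ := by
    haveI : Flat U.hom := hU
    haveI h2 : Flat (l₀ ≫ (W i).ι) := by rw [hl₀]; infer_instance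
    exact MorphismProperty.of_postcomp @Flat (W' := @IsOpenImmersion) l₀ (W i).ι inferInstance h2
  haveI : IsAffine (Over.mk (V.ι ≫ U.hom) : Over S).left := hV
  refine subsingleton_flat_affine hM a (Over.mk (V.ι ≫ U.hom)) (l₀ ≫ (W i : Scheme.{u}).isoSpec.hom)
    (by rw [Category.assoc, Iso.hom_inv_id_assoc]; exact hl₀) ?_
  let g : (Over.mk (W i).ι : Over S) ⟶ Over.mk a :=
    Over.homMk (W i : Scheme.{u}).isoSpec.hom (Iso.hom_inv_id_assoc _ _)
  haveI : IsIso g := by
    haveI : IsIso ((Over.forget S).map g) :=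
      inferInstanceAs (IsIso (W i : Scheme.{u}).isoSpec.hom)
    exact isIso_of_reflects_iso _ (Over.forget S)
  exact subsingleton_of_iso M g (h i)

/-- The middle of an exact sequence of adequate modules with parasitic ends is parasitic. -/
theorem parasitic_of_exact [∀ U : Over S, HasFiniteProducts (Over U)]
    (C : ShortComplex (BigSite.Mod K S)) (hC : C.Exact) (h₁ : adequateMod K S C.X₁)
    (h₂ : adequateMod K S C.X₂) (h₃ : adequateMod K S C.X₃) (p₁ : parasitic K S C.X₁)
    (p₃ : parasitic K S C.X₃) : parasitic K S C.X₂ := by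
  let q : C.X₁ ⟶ kernel C.g := kernel.lift C.g C.f C.zero
  haveI : Epi q := C.exact_iff_epi_kernel_lift.mp hC
  have hK : adequateMod K S (kernel C.g) := adequateMod_kernel C.g h₂ h₃
  let C' : ShortComplex (BigSite.Mod K S) := ShortComplex.mk (kernel.ι q) q (kernel.condition q)
  have hC' : C'.ShortExact :=
    { exact := C'.exact_of_f_is_kernel (kernelIsKernel q)
      mono_f := inferInstanceAs (Mono (kernel.ι q))
      epi_g := inferInstanceAs (Epi q) }
  have hsurj : ∀ (V : Over S) [IsAffine V.left],
      Function.Surjective ((q.val.app (op V)).hom) :=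
    fun V _ => surjective_affine (C := C') (shortExact_toAb hC') (adequateMod_kernel q h₁ hK) V
  have hKp : parasitic K S (kernel C.g) := by
    refine parasitic_of_affineCover hK (fun V : S.affineOpens => (V : S.Opens)) (fun V => V.2)
      (iSup_affineOpens_eq_top S) fun V => ?_
    haveI : IsAffine (Over.mk (V : S.Opens).ι : Over S).left := V.2
    haveI : Subsingleton (BigSite.sectMod K C.X₁ (Over.mk (V : S.Opens).ι)) :=
      p₁ _ (by show Flat (V : S.Opens).ι; infer_instance)
    exact (hsurj (Over.mk (V : S.Opens).ι)).subsingleton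
  intro U hU
  haveI := hKp U hU
  haveI := p₃ U hU
  let E : BigSite.Mod K S ⥤ _ :=
    SheafOfModules.forget _ ⋙ PresheafOfModules.evaluation (BigSite.ORing K S).obj (op U)
  refine ⟨fun x y => sub_eq_zero.mp ?_⟩
  let S₀ := ShortComplex.mk (kernel.ι C.g) C.g (kernel.condition C.g)
  haveI : E.PreservesZeroMorphisms := ⟨fun _ _ => rfl⟩
  haveI : PreservesLimit (parallelPair S₀.g 0) E := inferInstance
  have he : (S₀.map E).Exact :=
    (S₀.exact_of_f_is_kernel (kernelIsKernel C.g)).map_of_mono_of_preservesKernel E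
      (inferInstanceAs (Mono (kernel.ι C.g))) inferInstance
  rw [ShortComplex.moduleCat_exact_iff] at he
  obtain ⟨k, hk⟩ := he (x - y) (Subsingleton.elim (α := BigSite.sectMod K C.X₃ U) _ _)
  rw [← hk, Subsingleton.elim (α := BigSite.sectMod K (kernel C.g) U) k 0]
  exact map_zero _

end

end Groth.Agent.AdeqLib
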