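import Groth.Agent.AdeqLib.Parasitic
import Mathlib.AlgebraicGeometry.Morphisms.QuasiSeparated

/-!
# Direct images of adequate modules
-/

set_option autoImplicit false
set_option linter.style.haveILetI false
set_option linter.unusedSectionVars false
set_option backward.isDefEq.respectTransparency false
set_option backward.isDefEq.respectTransparency.types false

universe u

open CategoryTheory Limits TensorProduct Opposite AlgebraicGeometry

namespace Groth.Agent.AdeqLib

open Adeq

noncomputable section

attribute [local instance] Abelian.hasFiniteBiproducts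

theorem sStr_restrict {R : CommRingCat.{u}} (C : Alg R) (B : Alg R) :
    Spec.map (CommRingCat.ofHom (Algebra.TensorProduct.includeRight :
        (B : Type u) →ₐ[R] (C : Type u) ⊗[R] (B : Type u)).toRingHom) ≫ sStr B =
      sStr (R := CommRingCat.of C) (bAlg R (C : Type u) B) ≫ sStr C := by
  rw [← Spec.map_comp, ← Spec.map_comp]
  congr 1
  ext r
  show (1 : (C : Type u)) ⊗ₜ[R] algebraMap R B r =
    algebraMap R C r ⊗ₜ[R] (1 : (B : Type u))
  rw [Algebra.algebraMap_eq_smul_one, Algebra.algebraMap_eq_smul_one, TensorProduct.tmul_smul,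
    TensorProduct.smul_tmul']

/-- An algebra map from a morphism of spectra over the base. -/
theorem exists_algHom_of_spec {R : CommRingCat.{u}} {C C' : Alg R}
    (d : Spec (CommRingCat.of C') ⟶ Spec (CommRingCat.of C)) (hd : d ≫ sStr C = sStr C') :
    ∃ φ : C ⟶ C', Spec.map (CommRingCat.ofHom φ.hom.toRingHom) = d := by
  let g := Spec.preimage d
  have hg : CommRingCat.ofHom (algebraMap R C) ≫ g = CommRingCat.ofHom (algebraMap R C') :=
    Spec.map_injective (by rw [Spec.map_comp, Spec.map_preimage, hd])
  refine ⟨ConcreteCategory.ofHom (C := Alg R) (X := C) (Y := C')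
    ({ g.hom with commutes' := fun r => RingHom.congr_fun (congrArg CommRingCat.Hom.hom hg) r } :
      (C : Type u) →ₐ[R] (C' : Type u)), ?_⟩
  exact Spec.map_preimage d

/-- The algebra of an affine chart. -/
def chartAlg {R : CommRingCat.{u}} {X : Scheme.{u}} (q : X ⟶ Spec R) {U : X.Opens}
    (hU : IsAffineOpen U) : Alg R :=
  algPre (hU.fromSpec ≫ q)

/-- The inclusion of an affine chart. -/
def chartIncl {R : CommRingCat.{u}} {X : Scheme.{u}} (q : X ⟶ Spec R) {U : X.Opens}
    (hU : IsAffineOpen U) : Spec (CommRingCat.of (chartAlg q hU)) ⟶ X :=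
  hU.fromSpec

theorem chartIncl_str {R : CommRingCat.{u}} {X : Scheme.{u}} (q : X ⟶ Spec R) {U : X.Opens}
    (hU : IsAffineOpen U) : chartIncl q hU ≫ q = sStr (chartAlg q hU) :=
  (sStr_algPre _).symm

instance isOpenImmersion_chartIncl {R : CommRingCat.{u}} {X : Scheme.{u}} (q : X ⟶ Spec R)
    {U : X.Opens} (hU : IsAffineOpen U) : IsOpenImmersion (chartIncl q hU) :=
  inferInstanceAs (IsOpenImmersion hU.fromSpec)

theorem range_chartIncl {R : CommRingCat.{u}} {X : Scheme.{u}} (q : X ⟶ Spec R) {U : X.Opens}
    (hU : IsAffineOpen U) : Set.range (chartIncl q hU) = (U : Set X) :=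
  hU.range_fromSpec

variable {K : Precoverage Scheme.{u}} [BigSite.OSh K]
  {S T : Scheme.{u}} (f : T ⟶ S) {R : CommRingCat.{u}} (a : Spec R ⟶ S)

/-- The pullback of an affine object. -/
abbrev pb (B : Alg R) : Over T := (Over.pullback f).obj (sO a B)

/-- The projection to the base change of the base. -/
def pbProj (B : Alg R) : (pb f a B).left ⟶ pullback a f :=
  pullback.lift (pullback.fst (sO a B).hom f ≫ sStr B) (pullback.snd (sO a B).hom f) (by
    rw [Category.assoc]
    exact pullback.condition)

variable {C : Alg R} (c : Spec (CommRingCat.of C) ⟶ pullback a f)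
  (hc : c ≫ pullback.fst a f = sStr C)

/-- The chart as an affine object over `T`. -/
abbrev chartBase : Spec (CommRingCat.of C) ⟶ T := c ≫ pullback.snd a f

/-- The affine object over `T` of a chart and an algebra. -/
abbrev chartObj (B : Alg R) : Over T :=
  sO (R := CommRingCat.of C) (chartBase f a c) (bAlg R (C : Type u) B)

/-- The structure map to the chart. -/
abbrev chartStr (B : Alg R) : (chartObj f a c B).left ⟶ Spec (CommRingCat.of C) :=
  sStr (R := CommRingCat.of C) (bAlg R (C : Type u) B)

/-- The projection to the test algebra. -/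
abbrev chartSnd (B : Alg R) : (chartObj f a c B).left ⟶ Spec (CommRingCat.of B) :=
  Spec.map (CommRingCat.ofHom (Algebra.TensorProduct.includeRight :
    (B : Type u) →ₐ[R] (C : Type u) ⊗[R] (B : Type u)).toRingHom)

include hc in
/-- The map of a chart into the pullback. -/
def chartMap (B : Alg R) : chartObj f a c B ⟶ pb f a B :=
  Over.homMk
    (pullback.lift (chartSnd f a c B) (chartStr f a c B ≫ chartBase f a c) (by
      show chartSnd f a c B ≫ sStr B ≫ a = _
      rw [← Category.assoc, sStr_restrict, ← hc, Category.assoc, Category.assoc, Category.assoc,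
        Category.assoc, pullback.condition]))
    (pullback.lift_snd _ _ _)

theorem chartMap_fst (B : Alg R) :
    (chartMap f a c hc B).left ≫ pullback.fst (sO a B).hom f = chartSnd f a c B :=
  pullback.lift_fst _ _ _

theorem chartMap_proj (B : Alg R) :
    (chartMap f a c hc B).left ≫ pbProj f a B = chartStr f a c B ≫ c := by
  refine pullback.hom_ext ?_ ?_
  · rw [Category.assoc, pbProj, pullback.lift_fst, ← Category.assoc, chartMap_fst,
      Category.assoc, hc]
    exact sStr_restrict C B
  · rw [Category.assoc, pbProj, pullback.lift_snd, Category.assoc]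
    exact pullback.lift_snd _ _ _

include hc in
theorem exists_chart_lift {B : Alg R} {Z : Over T} (h : Z.left ⟶ Spec (CommRingCat.of C))
    (hh : h ≫ chartBase f a c = Z.hom) (g : Z.left ⟶ Spec (CommRingCat.of B))
    (hg : h ≫ sStr C = g ≫ sStr B) :
    ∃ e : Z ⟶ chartObj f a c B,
      e.left ≫ chartStr f a c B = h ∧ e.left ≫ chartSnd f a c B = g := by
  let e₀ : Z.left ⟶ (chartObj f a c B).left :=
    pullback.lift h g hg ≫ (pullbackSpecIso R C B).hom
  have h1 : e₀ ≫ chartStr f a c B = h :=
    (Category.assoc _ _ _).trans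
      ((congrArg (pullback.lift h g hg ≫ ·) (pullbackSpecIso_hom_fst' R C B)).trans
        (pullback.lift_fst _ _ _))
  have h2 : e₀ ≫ chartSnd f a c B = g :=
    (Category.assoc _ _ _).trans
      ((congrArg (pullback.lift h g hg ≫ ·) (pullbackSpecIso_hom_snd R C B)).trans
        (pullback.lift_snd _ _ _))
  refine ⟨Over.homMk e₀ ?_, h1, h2⟩
  show e₀ ≫ chartStr f a c B ≫ chartBase f a c = Z.hom
  rw [← Category.assoc, h1, hh]

theorem chart_hom_ext {B : Alg R} {Z : Over T} {e e' : Z ⟶ chartObj f a c B}
    (h1 : e.left ≫ chartStr f a c B = e'.left ≫ chartStr f a c B)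
    (h2 : e.left ≫ chartSnd f a c B = e'.left ≫ chartSnd f a c B) : e = e' := by
  refine Over.OverMorphism.ext ((cancel_mono (pullbackSpecIso R C B).inv).mp
    (pullback.hom_ext ?_ ?_))
  · rw [Category.assoc, Category.assoc, pullbackSpecIso_inv_fst']
    exact h1
  · rw [Category.assoc, Category.assoc, pullbackSpecIso_inv_snd]
    exact h2

/-- The functor of a chart. -/
abbrev chartFun (M : BigSite.Mod K T) : MVF R :=
  (Adeq.push R (C : Type u)).obj ((toMVF K (R := CommRingCat.of C) (chartBase f a c)).obj M)

/-- Sections over the pullback, restricted to a chart. -/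
def chartRes (M : BigSite.Mod K T) :
    (toMVF K a).obj ((BigSite.pushMod K f).obj M) ⟶ chartFun f a c M :=
  mkHom
    (fun B =>
      { toFun := fun x => rs M.val (chartMap f a c hc B) x
        map_add' := fun x y => map_add (rs M.val (chartMap f a c hc B)) x y
        map_smul' := fun b x => by
          have h := M.val.map_smul (chartMap f a c hc B).op
            ((BigSite.gammaPre.map (pullback.fst (sO a B).hom f).op).hom (toSect K a B b)) x
          refine h.trans ?_
          congr 1
          apply ULift.ext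
          change ((Scheme.ΓSpecIso (CommRingCat.of B)).inv ≫
              ((chartMap f a c hc B).left ≫ pullback.fst (sO a B).hom f).appTop) b =
            (CommRingCat.ofHom (Algebra.TensorProduct.includeRight :
                (B : Type u) →ₐ[R] (C : Type u) ⊗[R] (B : Type u)).toRingHom ≫
              (Scheme.ΓSpecIso (CommRingCat.of ((C : Type u) ⊗[R] (B : Type u)))).inv) b
          rw [Scheme.ΓSpecIso_inv_naturality, chartMap_fst]
          rfl })
    (fun {X Y} φ x => by
      show rs M.val (chartMap f a c hc Y) (rs M.val ((Over.pullback f).map (sM a φ)) x) =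
        rs M.val (sM (R := CommRingCat.of C) (chartBase f a c)
          ((Alg.baseChange R (C : Type u)).map φ)) (rs M.val (chartMap f a c hc X) x)
      rw [← rs_comp, ← rs_comp]
      refine congrArg (fun g => rs M.val g x) (Over.OverMorphism.ext (pullback.hom_ext ?_ ?_))
      · rw [Over.comp_left, Over.comp_left, Category.assoc, Category.assoc, chartMap_fst]
        refine (congrArg _ (pullback.lift_fst _ _ _)).trans ?_
        rw [← Category.assoc, chartMap_fst, sM_left, sM_left, ← Spec.map_comp, ← Spec.map_comp]
        rfl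
      · exact (Over.w (chartMap f a c hc Y ≫ (Over.pullback f).map (sM a φ))).trans
          (Over.w (sM (R := CommRingCat.of C) (chartBase f a c)
            ((Alg.baseChange R (C : Type u)).map φ) ≫ chartMap f a c hc X)).symm)

theorem ap_chartRes (M : BigSite.Mod K T) (B : Alg R)
    (x : ((toMVF K a).obj ((BigSite.pushMod K f).obj M)).obj (pt B)) :
    ap (chartRes f a c hc M) B x = rs M.val (chartMap f a c hc B) x := rfl

section Between

variable {C' : Alg R} (c' : Spec (CommRingCat.of C') ⟶ pullback a f) (φ : C ⟶ C')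
  (hφ : Spec.map (CommRingCat.ofHom φ.hom.toRingHom) ≫ c = c')

/-- The base change of a map of charts. -/
abbrev chartRing (B : Alg R) : ((C : Type u) ⊗[R] (B : Type u)) →+* ((C' : Type u) ⊗[R] (B : Type u)) :=
  (Algebra.TensorProduct.map φ.hom (AlgHom.id R B)).toRingHom

include hφ in
/-- The map of objects of a map of charts. -/
def chartTrans (B : Alg R) : chartObj f a c' B ⟶ chartObj f a c B :=
  Over.homMk (Spec.map (CommRingCat.ofHom (chartRing φ B))) (by
    show Spec.map (CommRingCat.ofHom (chartRing φ B)) ≫ chartStr f a c B ≫ chartBase f a c =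
      chartStr f a c' B ≫ chartBase f a c'
    rw [chartBase, chartBase, ← hφ, Category.assoc]
    simp only [← Category.assoc]
    congr 2
    show Spec.map _ ≫ Spec.map _ = Spec.map _ ≫ Spec.map _
    rw [← Spec.map_comp, ← Spec.map_comp]
    congr 1)

theorem chartTrans_str (B : Alg R) :
    (chartTrans f a c c' φ hφ B).left ≫ chartStr f a c B =
      chartStr f a c' B ≫ Spec.map (CommRingCat.ofHom φ.hom.toRingHom) := by
  show Spec.map _ ≫ Spec.map _ = Spec.map _ ≫ Spec.map _
  rw [← Spec.map_comp, ← Spec.map_comp]
  rfl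

theorem chartTrans_snd (B : Alg R) :
    (chartTrans f a c c' φ hφ B).left ≫ chartSnd f a c B = chartSnd f a c' B := by
  show Spec.map _ ≫ Spec.map _ = Spec.map _
  rw [← Spec.map_comp]
  congr 1
  ext v
  show Algebra.TensorProduct.map φ.hom (AlgHom.id R B) ((1 : (C : Type u)) ⊗ₜ[R] v) =
    (1 : (C' : Type u)) ⊗ₜ[R] v
  rw [Algebra.TensorProduct.map_tmul, map_one, AlgHom.id_apply]

/-- The map of functors of a map of charts. -/
def chartFunMap (M : BigSite.Mod K T) : chartFun f a c M ⟶ chartFun f a c' M :=
  mkHom
    (fun B =>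
      { toFun := fun x => rs M.val (chartTrans f a c c' φ hφ B) x
        map_add' := fun x y => map_add (rs M.val (chartTrans f a c c' φ hφ B)) x y
        map_smul' := fun b x => by
          have h := rs_toSect (R := CommRingCat.of C) (R' := CommRingCat.of C')
            (chartBase f a c) (chartBase f a c') M.val
            (B := bAlg R (C : Type u) B) (B' := bAlg R (C' : Type u) B)
            (chartTrans f a c c' φ hφ B) (chartRing φ B) rfl ((1 : (C : Type u)) ⊗ₜ[R] b) x
          refine h.trans ?_
          show (chartRing φ B ((1 : (C : Type u)) ⊗ₜ[R] b) • _ : _) = _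
          rw [show chartRing φ B ((1 : (C : Type u)) ⊗ₜ[R] b) = (1 : (C' : Type u)) ⊗ₜ[R] b by
            show Algebra.TensorProduct.map φ.hom (AlgHom.id R B) _ = _
            rw [Algebra.TensorProduct.map_tmul, map_one, AlgHom.id_apply]]
          rfl })
    (fun {X Y} g x => by
      show rs M.val (chartTrans f a c c' φ hφ Y) (rs M.val (sM (R := CommRingCat.of C)
          (chartBase f a c) ((Alg.baseChange R (C : Type u)).map g)) x) =
        rs M.val (sM (R := CommRingCat.of C') (chartBase f a c')
          ((Alg.baseChange R (C' : Type u)).map g)) (rs M.val (chartTrans f a c c' φ hφ X) x)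
      rw [← rs_comp, ← rs_comp]
      refine congrArg (fun g => rs M.val g x) (Over.OverMorphism.ext ?_)
      show Spec.map _ ≫ Spec.map _ = Spec.map _ ≫ Spec.map _
      rw [← Spec.map_comp, ← Spec.map_comp]
      congr 1
      refine CommRingCat.hom_ext (RingHom.ext fun v => ?_)
      show Algebra.TensorProduct.map φ.hom (AlgHom.id R Y)
          (Algebra.TensorProduct.map (AlgHom.id R C) g.hom v) =
        Algebra.TensorProduct.map (AlgHom.id R C') g.hom
          (Algebra.TensorProduct.map φ.hom (AlgHom.id R X) v)
      induction v using TensorProduct.induction_on with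
      | zero => simp only [map_zero]
      | tmul s t => rfl
      | add s t hs ht => simp only [map_add, hs, ht])

end Between

variable [HasAffRef K] [K.IsStableUnderBaseChange]

theorem adequate_chartFun {M : BigSite.Mod K T} (hM : adequateMod K T M) :
    adequate R (chartFun f a c M) :=
  adequate_push R (C : Type u) (adequate_toMVF (R := CommRingCat.of C) _ hM)

/-- The open of a pullback over an open of the base change. -/
abbrev pbOpen (B : Alg R) (U : (pullback a f).Opens) : (pb f a B).left.Opens :=
  pbProj f a B ⁻¹ᵁ U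

/-- Direct images by quasi-compact quasi-separated morphisms of adequate modules are adequate. -/
theorem adequate_toMVF_push [QuasiCompact f] [QuasiSeparated f] {M : BigSite.Mod K T}
    (hM : adequateMod K T M) : adequate R ((toMVF K a).obj ((BigSite.pushMod K f).obj M)) := by
  let X := pullback a f
  haveI : CompactSpace X := QuasiCompact.compactSpace_of_compactSpace (pullback.fst a f)
  haveI : QuasiSeparatedSpace X := quasiSeparatedSpace_of_quasiSeparated (pullback.fst a f)
  choose U hU hxU _ using fun x : X =>
    exists_isAffineOpen_mem_and_subset (x := x) (U := (⊤ : X.Opens)) trivial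
  obtain ⟨t, ht⟩ := isCompact_univ.elim_finite_subcover (fun x => (U x : Set X))
    (fun x => (U x).isOpen) (fun x _ => Set.mem_iUnion.mpr ⟨x, hxU x⟩)
  choose W hW hxW hWle using fun (p : t × t) (x : (U p.1.1 ⊓ U p.2.1 : X.Opens)) =>
    exists_isAffineOpen_mem_and_subset (x := (x : X)) (U := U p.1.1 ⊓ U p.2.1) x.2
  have hcpt : ∀ p : t × t, IsCompact ((U p.1.1 ⊓ U p.2.1 : X.Opens) : Set X) := fun p =>
    QuasiSeparatedSpace.inter_isCompact _ _ (U p.1.1).isOpen (hU _).isCompact
      (U p.2.1).isOpen (hU _).isCompact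
  choose s hs using fun p : t × t => (hcpt p).elim_finite_subcover (fun x => (W p x : Set X))
    (fun x => (W p x).isOpen) (fun y hy => Set.mem_iUnion.mpr ⟨⟨y, hy⟩, hxW p ⟨y, hy⟩⟩)
  let ι := ULift.{u + 1} t
  let κ := ULift.{u + 1} (Σ p : t × t, s p)
  let Cι : ι → Alg R := fun i => chartAlg (pullback.fst a f) (hU i.down.1)
  let cι : ∀ i, Spec (CommRingCat.of (Cι i)) ⟶ X := fun i => chartIncl _ (hU i.down.1)
  have hcι : ∀ i, cι i ≫ pullback.fst a f = sStr (Cι i) := fun i => chartIncl_str _ _
  let Cκ : κ → Alg R := fun l => chartAlg (pullback.fst a f) (hW l.down.1 l.down.2.1)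
  let cκ : ∀ l, Spec (CommRingCat.of (Cκ l)) ⟶ X := fun l => chartIncl _ (hW l.down.1 l.down.2.1)
  have hcκ : ∀ l, cκ l ≫ pullback.fst a f = sStr (Cκ l) := fun l => chartIncl_str _ _
  let jl : κ → ι := fun l => ULift.up l.down.1.1
  let kl : κ → ι := fun l => ULift.up l.down.1.2
  haveI : ∀ i, IsOpenImmersion (cι i) := fun i => isOpenImmersion_chartIncl _ _
  have hrι : ∀ i, Set.range (cι i) = (U i.down.1 : Set X) := fun i => range_chartIncl _ _
  have hrκ : ∀ l, Set.range (cκ l) = (W l.down.1 l.down.2.1 : Set X) := fun l => range_chartIncl _ _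
  haveI : ∀ l, IsOpenImmersion (cκ l) := fun l => isOpenImmersion_chartIncl _ _
  have hmap : ∀ (l : κ) (i : ι), Set.range (cκ l) ⊆ Set.range (cι i) →
      ∃ φ : Cι i ⟶ Cκ l, Spec.map (CommRingCat.ofHom φ.hom.toRingHom) ≫ cι i = cκ l := by
    intro l i hle
    let d := IsOpenImmersion.lift (cι i) (cκ l) hle
    obtain ⟨φ, hφ⟩ := exists_algHom_of_spec (C := Cι i) (C' := Cκ l) d (by
      rw [← hcι, ← Category.assoc, IsOpenImmersion.lift_fac, hcκ])
    exact ⟨φ, by rw [hφ]; exact IsOpenImmersion.lift_fac _ _ _⟩
  choose φl hφl using fun l => hmap l (jl l) (by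
    rw [hrι, hrκ]; exact fun x hx => (hWle l.down.1 l.down.2.1 hx).1)
  choose φr hφr using fun l => hmap l (kl l) (by
    rw [hrι, hrκ]; exact fun x hx => (hWle l.down.1 l.down.2.1 hx).2)
  let F := (toMVF K a).obj ((BigSite.pushMod K f).obj M)
  let G : ι → MVF R := fun i => chartFun f a (cι i) M
  let GG : κ → MVF R := fun l => chartFun f a (cκ l) M
  let α : ∀ l, (⨁ G) ⟶ GG l := fun l =>
    biproduct.π G (jl l) ≫ chartFunMap f a (cι (jl l)) (cκ l) (φl l) (hφl l) M -
      biproduct.π G (kl l) ≫ chartFunMap f a (cι (kl l)) (cκ l) (φr l) (hφr l) M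
  let d : (⨁ G) ⟶ (⨁ GG) := biproduct.lift α
  let e : F ⟶ (⨁ G) := biproduct.lift fun i => chartRes f a (cι i) (hcι i) M
  have he : ∀ i (B : Alg R) (x : F.obj (pt B)), ap (biproduct.π G i) B (ap e B x) =
      rs M.val (chartMap f a (cι i) (hcι i) B) x := by
    intro i B x
    rw [← ap_comp, biproduct.lift_π]
    rfl
  have hd : ∀ l (B : Alg R) (x : (⨁ G).obj (pt B)), ap (biproduct.π GG l) B (ap d B x) =
      (id (rs M.val (chartTrans f a (cι (jl l)) (cκ l) (φl l) (hφl l) B)
        (ap (biproduct.π G (jl l)) B x)) : (GG l).obj (pt B)) -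
      (id (rs M.val (chartTrans f a (cι (kl l)) (cκ l) (φr l) (hφr l) B)
        (ap (biproduct.π G (kl l)) B x)) : (GG l).obj (pt B)) := by
    intro l B x
    rw [← ap_comp, biproduct.lift_π]
    rfl
  have hcomp : ∀ l (B : Alg R),
      chartTrans f a (cι (jl l)) (cκ l) (φl l) (hφl l) B ≫ chartMap f a (cι (jl l)) (hcι _) B =
      chartTrans f a (cι (kl l)) (cκ l) (φr l) (hφr l) B ≫ chartMap f a (cι (kl l)) (hcι _) B := by
    intro l B
    refine Over.OverMorphism.ext (pullback.hom_ext ?_ ?_)
    · rw [Over.comp_left, Over.comp_left, Category.assoc, Category.assoc, chartMap_fst,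
        chartMap_fst, chartTrans_snd, chartTrans_snd]
    · exact (Over.w (_ ≫ _)).trans (Over.w (_ ≫ _)).symm
  have hed : e ≫ d = 0 := by
    refine biproduct.hom_ext _ _ fun l => hom_ext' fun B x => ?_
    rw [ap_comp, ap_comp, hd, he, he, zero_comp, ap_zero]
    refine sub_eq_zero.mpr ?_
    show rs M.val _ (rs M.val _ x) = rs M.val _ (rs M.val _ x)
    rw [← rs_comp, ← rs_comp, hcomp]
  have hcover : ∀ B : Alg R,
      Sieve.ofArrows (fun i => chartObj f a (cι i) B) (fun i => chartMap f a (cι i) (hcι i) B) ∈
        QuotSh.J K T (pb f a B) := by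
    intro B
    refine GrothendieckTopology.superset_covering _ ?_
      (openFamily_mem (K := K) (fun i : ι => pbOpen f a B (U i.down.1)) fun z => ?_)
    · refine (Sieve.generate_le_iff _ _).mpr (Presieve.ofArrows_le_iff.mpr fun i => ?_)
      let O := pbOpen f a B (U i.down.1)
      let h := IsOpenImmersion.lift (cι i) (O.ι ≫ pbProj f a B) (by
        rw [hrι]
        rintro _ ⟨z, rfl⟩
        exact z.2)
      have hh : h ≫ cι i = O.ι ≫ pbProj f a B := IsOpenImmersion.lift_fac _ _ _
      obtain ⟨e', he1, he2⟩ := exists_chart_lift f a (cι i) (hcι i)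
        (Z := Over.mk (O.ι ≫ (pb f a B).hom)) h (by
          show h ≫ cι i ≫ pullback.snd a f = O.ι ≫ pullback.snd (sO a B).hom f
          rw [reassoc_of% hh, pbProj, pullback.lift_snd])
        (O.ι ≫ pullback.fst (sO a B).hom f) (by
          rw [← hcι, reassoc_of% hh, pbProj, pullback.lift_fst, Category.assoc])
      refine ⟨_, e', _, Presieve.ofArrows.mk i, Over.OverMorphism.ext (pullback.hom_ext ?_ ?_)⟩
      · rw [Over.comp_left, Category.assoc, chartMap_fst, he2]
        rfl
      · exact (Over.w (_ ≫ _)).trans rfl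
    · obtain ⟨x, hx⟩ := Set.mem_iUnion.mp (ht (Set.mem_univ (pbProj f a B z)))
      obtain ⟨hxt, hx'⟩ := Set.mem_iUnion.mp hx
      exact ⟨ULift.up ⟨x, hxt⟩, hx'⟩
  have hkl : ∀ (B : Alg R) (x : F.obj (pt B)),
      ap (kernel.ι d) B (ap (kernel.lift d e hed) B x) = ap e B x := fun B x => by
    rw [← ap_comp, kernel.lift_ι]
  have : IsIso (kernel.lift d e hed) := by
    refine isIso_of_bij _ fun B => ⟨fun x y h => ?_, fun z => ?_⟩
    · refine sheaf_ext M _ (hcover B) fun i => ?_
      rw [← he i B x, ← he i B y]
      exact congrArg (ap (biproduct.π G i) B)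
        (((hkl B x).symm.trans (congrArg (ap (kernel.ι d) B) h)).trans (hkl B y))
    · let w := ap (kernel.ι d) B z
      let y : ∀ i, M.val.presheaf.obj (op (chartObj f a (cι i) B)) := fun i =>
        ap (biproduct.π G i) B w
      have hrel : ∀ l, rs M.val (chartTrans f a (cι (jl l)) (cκ l) (φl l) (hφl l) B) (y (jl l)) =
          rs M.val (chartTrans f a (cι (kl l)) (cκ l) (φr l) (hφr l) B) (y (kl l)) := fun l => by
        have h0 : ap (biproduct.π GG l) B (ap d B w) = 0 := by
          rw [(kernel_exact d B).apply_apply_eq_zero z, map_zero]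
        rw [hd] at h0
        exact sub_eq_zero.mp h0
      obtain ⟨x, hx⟩ := sheaf_amalg M _ (hcover B) y fun i k Z gi gk hik => by
        let m : Z.left ⟶ X := gi.left ≫ chartStr f a (cι i) B ≫ cι i
        have hm : m = gk.left ≫ chartStr f a (cι k) B ≫ cι k := by
          show gi.left ≫ chartStr f a (cι i) B ≫ cι i = _
          rw [← chartMap_proj f a (cι i) (hcι i) B, ← chartMap_proj f a (cι k) (hcι k) B,
            ← Category.assoc, ← Category.assoc, ← Over.comp_left, ← Over.comp_left, hik]
        have hsnd : gi.left ≫ chartSnd f a (cι i) B = gk.left ≫ chartSnd f a (cι k) B := by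
          rw [← chartMap_fst f a (cι i) (hcι i) B, ← chartMap_fst f a (cι k) (hcι k) B,
            ← Category.assoc, ← Category.assoc, ← Over.comp_left, ← Over.comp_left, hik]
        let L := {l : κ // jl l = i ∧ kl l = k}
        let Wm : L → Z.left.Opens := fun l => m ⁻¹ᵁ W l.1.down.1 l.1.down.2.1
        have hWm : ∀ q, ∃ l, q ∈ Wm l := fun q => by
          have hmem : m q ∈ ((U i.down.1 ⊓ U k.down.1 : X.Opens) : Set X) := by
            refine ⟨?_, ?_⟩
            · rw [← hrι i]
              exact ⟨_, rfl⟩
            · rw [← hrι k, hm]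
              exact ⟨_, rfl⟩
          obtain ⟨x', hx'⟩ := Set.mem_iUnion.mp (hs (i.down, k.down) hmem)
          obtain ⟨hx's, hq⟩ := Set.mem_iUnion.mp hx'
          exact ⟨⟨ULift.up ⟨(i.down, k.down), x', hx's⟩, rfl, rfl⟩, hq⟩
        refine sheaf_ext M _ (openFamily_mem (K := K) Wm hWm) fun l => ?_
        obtain ⟨l, hli, hlk⟩ := l
        subst hli hlk
        let O := m ⁻¹ᵁ W l.down.1 l.down.2.1
        let ρ : Over.mk (O.ι ≫ Z.hom) ⟶ Z := Over.homMk O.ι rfl
        let h' := IsOpenImmersion.lift (cκ l) (O.ι ≫ m) (by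
          rw [hrκ]
          rintro _ ⟨q, rfl⟩
          exact q.2)
        have hh' : h' ≫ cκ l = O.ι ≫ m := IsOpenImmersion.lift_fac _ _ _
        obtain ⟨e', he1, he2⟩ := exists_chart_lift f a (cκ l) (hcκ l)
          (Z := Over.mk (O.ι ≫ Z.hom)) h' (by
            show h' ≫ cκ l ≫ pullback.snd a f = O.ι ≫ Z.hom
            rw [← Over.w gi, reassoc_of% hh']
            show O.ι ≫ gi.left ≫ chartStr f a _ B ≫ cι _ ≫ pullback.snd a f = _
            rfl)
          (O.ι ≫ gi.left ≫ chartSnd f a (cι (jl l)) B) (by
            rw [← hcκ, reassoc_of% hh', Category.assoc, Category.assoc]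
            refine Eq.trans ?_
              (congrArg (fun k => O.ι ≫ gi.left ≫ k) (sStr_restrict (Cι (jl l)) B).symm)
            show O.ι ≫ (gi.left ≫ chartStr f a _ B ≫ cι _) ≫ pullback.fst a f = _
            rw [Category.assoc, Category.assoc, hcι])
        have e1 : e' ≫ chartTrans f a (cι (jl l)) (cκ l) (φl l) (hφl l) B = ρ ≫ gi := by
          refine chart_hom_ext f a _ ?_ ?_
          · rw [Over.comp_left, Category.assoc, chartTrans_str, ← Category.assoc, he1,
              ← cancel_mono (cι (jl l)), Category.assoc, hφl, hh', Over.comp_left, Category.assoc,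
              Category.assoc]
            rfl
          · rw [Over.comp_left, Category.assoc, chartTrans_snd, he2, Over.comp_left,
              Category.assoc]
            rfl
        have e2 : e' ≫ chartTrans f a (cι (kl l)) (cκ l) (φr l) (hφr l) B = ρ ≫ gk := by
          refine chart_hom_ext f a _ ?_ ?_
          · rw [Over.comp_left, Category.assoc, chartTrans_str, ← Category.assoc, he1,
              ← cancel_mono (cι (kl l)), Category.assoc, hφr, hh', Over.comp_left, Category.assoc,
              Category.assoc, hm]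
            rfl
          · rw [Over.comp_left, Category.assoc, chartTrans_snd, he2, Over.comp_left,
              Category.assoc, hsnd]
            rfl
        show rs M.val ρ (rs M.val gi (y _)) = rs M.val ρ (rs M.val gk (y _))
        rw [← rs_comp, ← rs_comp, ← e1, ← e2, rs_comp, rs_comp, hrel]
      refine ⟨x, kernel_inj d B (biproduct_elem_ext G B fun i => ?_)⟩
      exact ((congrArg (ap (biproduct.π G i) B) (hkl B x)).trans (he i B x)).trans (hx i)
  exact (adequate R).prop_of_iso (asIso (kernel.lift d e hed)).symm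
    (adequate_kernel d (adequate_biproduct G fun i => adequate_chartFun f a _ hM)
      (adequate_biproduct GG fun l => adequate_chartFun f a _ hM))

end

end Groth.Agent.AdeqLib
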