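import Groth.Agent.AdeqLib.Sect
import Groth.Agent.AdeqLib.Closed
import Groth.Agent.AdeqLib.InjMod
import Groth.Agent.AdeqLib.Acyclic
import Groth.Agent.AdeqLib.Exact
import Groth.Agent.EtCmp.RDeg
import Groth.Agent.SiteCoh.Derived
import Mathlib.CategoryTheory.Abelian.RightDerived

/-!
# Higher direct images of adequate modules
-/

set_option autoImplicit false
set_option linter.style.haveILetI false
set_option linter.unusedSectionVars false
set_option backward.isDefEq.respectTransparency false
set_option backward.isDefEq.respectTransparency.types false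

universe u

open CategoryTheory Limits TensorProduct Opposite AlgebraicGeometry
open Groth.Agent.SiteCoh

namespace Groth.Agent.AdeqLib

open Adeq

noncomputable section

variable {K : Precoverage Scheme.{u}} [BigSite.OSh K] [HasAffRef K] [K.IsStableUnderBaseChange]
  {T : Scheme.{u}}

theorem enoughInjectives_of_resolutions [HasInjectiveResolutions (BigSite.Mod K T)] :
    EnoughInjectives (BigSite.Mod K T) :=
  ⟨fun Z =>
    let R := injectiveResolution Z
    ⟨{ J := R.cocomplex.X 0
       f := R.ι.f 0
       injective := R.injective 0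
       mono := inferInstance }⟩⟩

variable [∀ U : Over T, HasFiniteProducts (Over U)]

theorem acyclic_of_injective_mod (I : BigSite.Mod K T) [Injective I] :
    (affBasis K T).Acyclic ((BigSite.toAbMod K T).obj I) := fun U ι Y _ p =>
  haveI : Injective I.val := Injective.injective_of_adjoint
    (PresheafOfModules.sheafificationAdjunction (𝟙 (BigSite.ORing K T).obj)) I
  InjMod.isZero_homology_of_injective _ I.val Y p

theorem surjective_rs_of_mono (I : BigSite.Mod K T) [Injective I] {V V' : Over T} (m : V' ⟶ V)
    [Mono m] : Function.Surjective (rs I.val m) :=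
  haveI : Injective I.val := Injective.injective_of_adjoint
    (PresheafOfModules.sheafificationAdjunction (𝟙 (BigSite.ORing K T).obj)) I
  InjMod.surjective_map_of_mono _ I.val m

variable [HasInjectiveResolutions (BigSite.Mod K T)] {R : CommRingCat.{u}}

/-- Sections over affine objects are acyclic on acyclic modules. -/
theorem Sect.isZero_rightDerived (𝒮 : Sect T R) (h𝒮 : ∀ B : Alg R, IsAffine (𝒮.Φ.obj (op B)).left)
    {M : BigSite.Mod K T} (hM : (affBasis K T).Acyclic ((BigSite.toAbMod K T).obj M)) (n : ℕ) :
    IsZero (((𝒮.func K).rightDerived (n + 1)).obj M) := by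
  haveI := enoughInjectives_of_resolutions (K := K) (T := T)
  refine EtCmp.isZero_rightDerived_of_class (𝒮.func K)
    (fun A => (affBasis K T).Acyclic ((BigSite.toAbMod K T).obj A)) (fun A hA => ?_) n M hM
  haveI : Injective (injEmbed A).X₂ := inferInstanceAs (Injective (Injective.under A))
  have hse : (injEmbed A).ShortExact :=
    { exact := ShortComplex.exact_cokernel _
      mono_f := inferInstanceAs (Mono (Injective.ι A))
      epi_g := inferInstanceAs (Epi (cokernel.π _)) }
  have hab := shortExact_toAb hse
  have h1 : (affBasis K T).Acyclic ((injEmbed A).map (BigSite.toAbMod K T)).X₁ := hA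
  have h2 : (affBasis K T).Acyclic ((injEmbed A).map (BigSite.toAbMod K T)).X₂ := by
    rw [ShortComplex.map_X₂]; exact acyclic_of_injective_mod (injEmbed A).X₂
  have h3 := (affBasis K T).acyclic_X₃ hab h1 h2
  rw [ShortComplex.map_X₃] at h3
  refine ⟨injEmbed A, hse, ⟨Iso.refl _⟩, fun m hm => ?_,
    epi_of_surj _ fun B => ?_, h3⟩
  · obtain ⟨k, rfl⟩ : ∃ k, m = k + 1 := ⟨m - 1, by omega⟩
    exact Functor.isZero_rightDerived_obj_injective_succ _ k _
  · exact (affBasis K T).surjective_sections hab h1 (h𝒮 B)

section Opens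

variable {S : Scheme.{u}} (f : T ⟶ S) (a : Spec R ⟶ S)

omit [HasInjectiveResolutions (BigSite.Mod K T)] in
/-- Over an affine chart, the part over it is the chart object. -/
theorem exists_chart_iso {U : (pullback a f).Opens} (hU : IsAffineOpen U) :
    ∃ (C : Alg R) (c : Spec (CommRingCat.of C) ⟶ pullback a f)
      (h : ∀ B : Alg R, chartObj f a c B ⟶ pbU f a U B),
      (∀ B, IsIso (h B)) ∧
      (∀ B, (h B).left ≫ (pbOpen f a B U).ι ≫ pullback.fst (sO a B).hom f = chartSnd f a c B) ∧
      ∀ {B B' : Alg R} (φ : B ⟶ B'),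
        sM (R := CommRingCat.of C) (chartBase f a c) ((Alg.baseChange R (C : Type u)).map φ) ≫
            h B = h B' ≫ pbUMap f a U φ := by
  let C := chartAlg (pullback.fst a f) hU
  let c : Spec (CommRingCat.of C) ⟶ pullback a f := chartIncl _ hU
  have hc : c ≫ pullback.fst a f = sStr C := chartIncl_str _ _
  have hrc : Set.range c = (U : Set (pullback a f : Scheme.{u})) := range_chartIncl _ _
  haveI : IsOpenImmersion c := isOpenImmersion_chartIncl _ _
  have hr : ∀ B : Alg R,
      Set.range (chartMap f a c hc B).left ⊆ Set.range (pbOpen f a B U).ι := by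
    rintro B _ ⟨z, rfl⟩
    refine (Scheme.Opens.range_ι (pbOpen f a B U)).ge ?_
    show pbProj f a B ((chartMap f a c hc B).left z) ∈ (U : Set (pullback a f : Scheme.{u}))
    rw [← hrc]
    exact ⟨chartStr f a c B z, (congrArg (fun φ => φ z) (chartMap_proj f a c hc B)).symm⟩
  let h : ∀ B : Alg R, chartObj f a c B ⟶ pbU f a U B := fun B =>
    Over.homMk (IsOpenImmersion.lift (pbOpen f a B U).ι (chartMap f a c hc B).left (hr B)) (by
      show IsOpenImmersion.lift _ _ _ ≫ (pbOpen f a B U).ι ≫ (pb f a B).hom = _
      rw [IsOpenImmersion.lift_fac_assoc, Over.w (chartMap f a c hc B)])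
  have hι : ∀ B, (h B).left ≫ (pbOpen f a B U).ι = (chartMap f a c hc B).left := fun B =>
    IsOpenImmersion.lift_fac _ _ _
  refine ⟨C, c, h, fun B => ?_, fun B => ?_, fun {B B'} φ => ?_⟩
  · let O := pbOpen f a B U
    let l := IsOpenImmersion.lift c (O.ι ≫ pbProj f a B) (by
      rw [hrc]
      rintro _ ⟨z, rfl⟩
      exact z.2)
    have hl : l ≫ c = O.ι ≫ pbProj f a B := IsOpenImmersion.lift_fac _ _ _
    obtain ⟨e, he1, he2⟩ := exists_chart_lift f a c hc (Z := pbU f a U B) l (by
        show l ≫ c ≫ pullback.snd a f = O.ι ≫ pullback.snd (sO a B).hom f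
        rw [reassoc_of% hl, pbProj, pullback.lift_snd])
      (O.ι ≫ pullback.fst (sO a B).hom f) (by
        rw [← hc, reassoc_of% hl, pbProj, pullback.lift_fst, Category.assoc])
    refine ⟨e, chart_hom_ext f a c ?_ ?_, Over.OverMorphism.ext ((cancel_mono O.ι).1 ?_)⟩
    · rw [Over.comp_left, Category.assoc, he1, ← cancel_mono c, Category.assoc, hl,
        ← Category.assoc, hι, chartMap_proj]
      exact (congrArg (· ≫ c) (Category.id_comp _)).symm
    · rw [Over.comp_left, Category.assoc, he2, ← Category.assoc, hι, chartMap_fst]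
      exact (Category.id_comp _).symm
    · rw [Over.comp_left, Category.assoc, hι]
      refine Eq.trans (pullback.hom_ext ?_ ?_) (Category.id_comp _).symm
      · rw [Category.assoc, chartMap_fst, he2]
      · exact ((Category.assoc _ _ _).trans
          (congrArg (e.left ≫ ·) (Over.w (chartMap f a c hc B)))).trans (Over.w e)
  · rw [← Category.assoc, hι, chartMap_fst]
  · refine Over.OverMorphism.ext ((cancel_mono (pbOpen f a B U).ι).1 ?_)
    rw [Over.comp_left, Over.comp_left, Category.assoc, Category.assoc, pbUMap_ι, hι,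
      reassoc_of% (hι B')]
    refine pullback.hom_ext ?_ ?_
    · rw [Category.assoc, chartMap_fst, Category.assoc]
      refine Eq.trans ?_ (congrArg _ (pullback.lift_fst _ _ _)).symm
      rw [← Category.assoc, chartMap_fst, sM_left, sM_left, ← Spec.map_comp, ← Spec.map_comp]
      rfl
    · exact (Over.w (sM (R := CommRingCat.of C) (chartBase f a c)
          ((Alg.baseChange R (C : Type u)).map φ) ≫ chartMap f a c hc B)).trans
        (Over.w (chartMap f a c hc B' ≫ (Over.pullback f).map (sM a φ))).symm

omit [HasInjectiveResolutions (BigSite.Mod K T)] in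
theorem isAffine_pbU {U : (pullback a f).Opens} (hU : IsAffineOpen U) (B : Alg R) :
    IsAffine (pbU f a U B).left := by
  obtain ⟨C, c, h, hiso, -, -⟩ := exists_chart_iso f a hU
  haveI := hiso B
  haveI : IsIso (h B).left := inferInstanceAs (IsIso ((Over.forget T).map (h B)))
  haveI : IsAffine (chartObj f a c B).left :=
    inferInstanceAs (IsAffine (Spec (CommRingCat.of ((C : Type u) ⊗[R] (B : Type u)))))
  exact IsAffine.of_isIso (inv (h B).left)

omit [HasInjectiveResolutions (BigSite.Mod K T)] in
theorem adequate_openSect {U : (pullback a f).Opens} (hU : IsAffineOpen U) {M : BigSite.Mod K T}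
    (hM : adequateMod K T M) : adequate R (((openSect f a U).func K).obj M) := by
  obtain ⟨C, c, h, hiso, hsnd, hnat⟩ := exists_chart_iso f a hU
  let φ : ((openSect f a U).func K).obj M ⟶ chartFun f a c M :=
    mkHom
      (fun B =>
        { toFun := fun x => rs M.val (h B) x
          map_add' := fun x y => map_add (rs M.val (h B)) x y
          map_smul' := fun b x => by
            have h' := M.val.map_smul (h B).op ((openSect f a U).toO K B b) x
            refine h'.trans ?_
            congr 1
            apply ULift.ext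
            change ((Scheme.ΓSpecIso (CommRingCat.of B)).inv ≫
                ((pbOpen f a B U).ι ≫ pullback.fst (sO a B).hom f).appTop ≫
                (h B).left.appTop) b =
              (CommRingCat.ofHom (Algebra.TensorProduct.includeRight :
                  (B : Type u) →ₐ[R] (C : Type u) ⊗[R] (B : Type u)).toRingHom ≫
                (Scheme.ΓSpecIso (CommRingCat.of ((C : Type u) ⊗[R] (B : Type u)))).inv) b
            rw [Scheme.ΓSpecIso_inv_naturality, ← Scheme.Hom.comp_appTop, hsnd]
            rfl })
      (fun {X Y} g x => by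
        show rs M.val (h Y) (rs M.val (pbUMap f a U g) x) =
          rs M.val (sM (R := CommRingCat.of C) (chartBase f a c)
            ((Alg.baseChange R (C : Type u)).map g)) (rs M.val (h X) x)
        rw [← rs_comp, ← rs_comp, hnat])
  haveI : IsIso φ := isIso_of_bij _ fun B => haveI := hiso B; rs_bijective M.val (h B)
  exact (adequate R).prop_of_iso (asIso φ).symm (adequate_chartFun f a c hM)

variable (K) in
/-- The restriction between the functors of sections over opens. -/
abbrev openRes {U V : (pullback a f).Opens} (h : U ≤ V) :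
    (openSect f a V).func K ⟶ (openSect f a U).func K :=
  Sect.res (openHom f a h) K

variable {U V : (pullback a f).Opens} (I : BigSite.Mod K T)

omit [HasInjectiveResolutions (BigSite.Mod K T)] in
theorem openRes_comp {W : (pullback a f).Opens} (h₁ : W ≤ U) (h₂ : U ≤ V) (B : Alg R)
    (x : I.val.presheaf.obj (op (pbU f a V B))) :
    rs I.val (pbUIncl f a h₁ B) (rs I.val (pbUIncl f a h₂ B) x) =
      rs I.val (pbUIncl f a (h₁.trans h₂) B) x := by
  rw [← rs_comp]
  refine congrArg (fun g => rs I.val g x) (Over.OverMorphism.ext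
    ((cancel_mono (pbOpen f a B V).ι).1 ?_))
  rw [Over.comp_left, Category.assoc, pbUIncl_ι, pbUIncl_ι, pbUIncl_ι]

variable (U V)

/-- The first map of the Mayer–Vietoris sequence. -/
abbrev mvF : ((openSect f a (U ⊔ V)).func K).obj I ⟶
    ((openSect f a U).func K).obj I ⊞ ((openSect f a V).func K).obj I :=
  biprod.lift ((openRes K f a le_sup_left).app I) ((openRes K f a le_sup_right).app I)

/-- The second map of the Mayer–Vietoris sequence. -/
abbrev mvG : ((openSect f a U).func K).obj I ⊞ ((openSect f a V).func K).obj I ⟶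
    ((openSect f a (U ⊓ V)).func K).obj I :=
  biprod.desc ((openRes K f a inf_le_left).app I) (-(openRes K f a inf_le_right).app I)

omit [HasInjectiveResolutions (BigSite.Mod K T)] in
theorem mv_zero : mvF f a U V I ≫ mvG f a U V I = 0 := by
  rw [biprod.lift_desc, Preadditive.comp_neg, add_neg_eq_zero]
  refine hom_ext' fun B x => ?_
  show rs I.val _ (rs I.val _ x) = rs I.val _ (rs I.val _ x)
  exact (openRes_comp f a I (inf_le_left : U ⊓ V ≤ U) (le_sup_left : U ≤ U ⊔ V) B x).trans
    (openRes_comp f a I (inf_le_right : U ⊓ V ≤ V) (le_sup_right : V ≤ U ⊔ V) B x).symm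

omit [HasInjectiveResolutions (BigSite.Mod K T)] in
/-- The Mayer–Vietoris sequence of an injective module. -/
theorem mv_shortExact [Injective I] :
    (ShortComplex.mk (mvF f a U V I) (mvG f a U V I) (mv_zero f a U V I)).ShortExact := by
  let FU := ((openSect f a U).func K).obj I
  let FV := ((openSect f a V).func K).obj I
  have hbi : ∀ (B : Alg R) (z w : (FU ⊞ FV).obj (pt B)),
      ap biprod.fst B z = ap biprod.fst B w → ap biprod.snd B z = ap biprod.snd B w → z = w := by
    intro B z w h1 h2
    have key : ∀ v : (FU ⊞ FV).obj (pt B), v = ap biprod.inl B (ap biprod.fst B v) +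
        ap biprod.inr B (ap biprod.snd B v) := fun v => by
      rw [← ap_comp, ← ap_comp, ← ap_add, biprod.total, ap_id]
    rw [key z, key w, h1, h2]
  have hcov : ∀ B : Alg R, Sieve.ofArrows
      (fun i : ULift.{u + 1} Bool => pbU f a (if i.down then U else V) B)
      (fun i => pbUIncl f a (show (if i.down then U else V) ≤ U ⊔ V by
        cases i.down <;> simp) B) ∈ QuotSh.J K T (pbU f a (U ⊔ V) B) := by
    intro B
    refine GrothendieckTopology.superset_covering _ ?_
      (openFamily_mem (K := K) (U := pbU f a (U ⊔ V) B)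
        (fun i : ULift.{u + 1} Bool =>
          (pbOpen f a B (U ⊔ V)).ι ⁻¹ᵁ pbOpen f a B (if i.down then U else V)) fun z => ?_)
    · refine (Sieve.generate_le_iff _ _).mpr (Presieve.ofArrows_le_iff.mpr fun i => ?_)
      let O := pbOpen f a B (if i.down then U else V)
      let O' := (pbOpen f a B (U ⊔ V)).ι ⁻¹ᵁ O
      let l := IsOpenImmersion.lift O.ι (O'.ι ≫ (pbOpen f a B (U ⊔ V)).ι) (by
        rintro _ ⟨z, rfl⟩
        exact (Scheme.Opens.range_ι O).ge z.2)
      have hl : l ≫ O.ι = O'.ι ≫ (pbOpen f a B (U ⊔ V)).ι := IsOpenImmersion.lift_fac _ _ _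
      refine ⟨_, (Over.homMk l ?_ : _ ⟶ pbU f a (if i.down then U else V) B), _,
        Presieve.ofArrows.mk i, Over.OverMorphism.ext
        ((cancel_mono (pbOpen f a B (U ⊔ V)).ι).1 ?_)⟩
      · show l ≫ O.ι ≫ (pb f a B).hom = O'.ι ≫ (pbOpen f a B (U ⊔ V)).ι ≫ (pb f a B).hom
        rw [reassoc_of% hl]
      · rw [Over.comp_left, Category.assoc, pbUIncl_ι]
        exact hl
    · rcases (show pbProj f a B ((pbOpen f a B (U ⊔ V)).ι z) ∈ U ⊔ V from z.2) with h | h
      · exact ⟨ULift.up true, h⟩
      · exact ⟨ULift.up false, h⟩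
  have hfst : ∀ (B : Alg R) (x : (((openSect f a (U ⊔ V)).func K).obj I).obj (pt B)),
      ap biprod.fst B (ap (mvF f a U V I) B x) =
        rs I.val (pbUIncl f a (le_sup_left : U ≤ U ⊔ V) B) x := fun B x => by
    rw [← ap_comp, biprod.lift_fst]
    rfl
  have hsnd : ∀ (B : Alg R) (x : (((openSect f a (U ⊔ V)).func K).obj I).obj (pt B)),
      ap biprod.snd B (ap (mvF f a U V I) B x) =
        rs I.val (pbUIncl f a (le_sup_right : V ≤ U ⊔ V) B) x := fun B x => by
    rw [← ap_comp, biprod.lift_snd]
    rfl
  haveI : Mono (mvF f a U V I) := mono_of_inj _ fun B x y hxy => by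
    refine sheaf_ext I _ (hcov B) fun i => ?_
    rcases i with ⟨_ | _⟩
    · exact ((hsnd B x).symm.trans (congrArg (ap biprod.snd B) hxy)).trans (hsnd B y)
    · exact ((hfst B x).symm.trans (congrArg (ap biprod.fst B) hxy)).trans (hfst B y)
  haveI : Epi (mvG f a U V I) := by
    haveI : Epi ((openRes K f a (inf_le_left : U ⊓ V ≤ U)).app I) := epi_of_surj _ fun B => by
      haveI : Mono (pbUIncl f a (inf_le_left : U ⊓ V ≤ U) B).left := by
        haveI : Mono ((pbUIncl f a (inf_le_left : U ⊓ V ≤ U) B).left ≫ (pbOpen f a B U).ι) := by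
          rw [pbUIncl_ι]
          infer_instance
        exact mono_of_mono _ (pbOpen f a B U).ι
      haveI : Mono ((Over.forget T).map (pbUIncl f a (inf_le_left : U ⊓ V ≤ U) B)) :=
        inferInstanceAs (Mono (pbUIncl f a (inf_le_left : U ⊓ V ≤ U) B).left)
      haveI : Mono (pbUIncl f a (inf_le_left : U ⊓ V ≤ U) B) :=
        (Over.forget T).mono_of_mono_map inferInstance
      exact surjective_rs_of_mono I (pbUIncl f a (inf_le_left : U ⊓ V ≤ U) B)
    haveI : Epi (biprod.inl ≫ mvG f a U V I) := by
      rw [biprod.inl_desc]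
      infer_instance
    exact epi_of_epi biprod.inl _
  refine ⟨?_⟩
  rw [ShortComplex.exact_iff_epi_kernel_lift]
  refine epi_of_surj _ fun B w => ?_
  suffices h : ∃ t, ap (mvF f a U V I) B t = ap (kernel.ι (mvG f a U V I)) B w by
    obtain ⟨t, ht⟩ := h
    refine ⟨t, kernel_inj (mvG f a U V I) B ?_⟩
    rw [← ap_comp, kernel.lift_ι]
    exact ht
  generalize hw : ap (kernel.ι (mvG f a U V I)) B w = z
  have hz : ap (mvG f a U V I) B z = 0 := by
    rw [← hw, ← ap_comp, kernel.condition, ap_zero]
  let x := ap biprod.fst B z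
  let y := ap biprod.snd B z
  have hxy : rs I.val (pbUIncl f a (inf_le_left : U ⊓ V ≤ U) B) x =
      rs I.val (pbUIncl f a (inf_le_right : U ⊓ V ≤ V) B) y := by
    have h0 : ap (mvG f a U V I) B z = 0 := hz
    have k1 : ∀ v, ap (biprod.fst : FU ⊞ FV ⟶ FU) B (ap biprod.inl B v) = v := fun v => by
      rw [← ap_comp, biprod.inl_fst, ap_id]
    have k2 : ∀ v, ap (biprod.fst : FU ⊞ FV ⟶ FU) B (ap biprod.inr B v) = 0 := fun v => by
      rw [← ap_comp, biprod.inr_fst, ap_zero]
    have k3 : ∀ v, ap (biprod.snd : FU ⊞ FV ⟶ FV) B (ap biprod.inl B v) = 0 := fun v => by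
      rw [← ap_comp, biprod.inl_snd, ap_zero]
    have k4 : ∀ v, ap (biprod.snd : FU ⊞ FV ⟶ FV) B (ap biprod.inr B v) = v := fun v => by
      rw [← ap_comp, biprod.inr_snd, ap_id]
    have e : z = ap biprod.inl B x + ap biprod.inr B y :=
      hbi B _ _
        (((map_add _ _ _).trans (congrArg₂ (· + ·) (k1 x) (k2 y))).trans (add_zero x)).symm
        (((map_add _ _ _).trans (congrArg₂ (· + ·) (k3 x) (k4 y))).trans (zero_add y)).symm
    have g1 : ∀ v, ap (mvG f a U V I) B (ap biprod.inl B v) =
        rs I.val (pbUIncl f a (inf_le_left : U ⊓ V ≤ U) B) v := fun v => by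
      rw [← ap_comp, biprod.inl_desc]
      rfl
    have g2 : ∀ v, ap (mvG f a U V I) B (ap biprod.inr B v) =
        -rs I.val (pbUIncl f a (inf_le_right : U ⊓ V ≤ V) B) v := fun v => by
      rw [← ap_comp, biprod.inr_desc, ap_neg]
      rfl
    exact sub_eq_zero.mp ((sub_eq_add_neg _ _).trans
      ((congrArg₂ (· + ·) (g1 x) (g2 y)).symm.trans
        ((map_add _ _ _).symm.trans ((congrArg (ap (mvG f a U V I) B) e).symm.trans h0))))
  have hlift : ∀ {W : (pullback a f).Opens} {Z : Over T} {U' : (pullback a f).Opens}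
      (g : Z ⟶ pbU f a U' B) (hW : Set.range (g.left ≫ (pbOpen f a B U').ι) ⊆ pbOpen f a B W),
      ∃ g' : Z ⟶ pbU f a W B,
        g'.left ≫ (pbOpen f a B W).ι = g.left ≫ (pbOpen f a B U').ι := by
    intro W Z U' g hW
    refine ⟨Over.homMk (IsOpenImmersion.lift (pbOpen f a B W).ι (g.left ≫ (pbOpen f a B U').ι)
      (hW.trans (Scheme.Opens.range_ι _).ge)) ?_, IsOpenImmersion.lift_fac _ _ _⟩
    show IsOpenImmersion.lift _ _ _ ≫ (pbOpen f a B W).ι ≫ (pb f a B).hom = Z.hom
    rw [IsOpenImmersion.lift_fac_assoc, Category.assoc]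
    exact Over.w g
  obtain ⟨t, ht⟩ := sheaf_amalg I _ (hcov B)
    (fun i => match i with
      | ⟨true⟩ => x
      | ⟨false⟩ => y)
    fun i j Z gi gj hij => by
      have he := congrArg (fun k => k.left ≫ (pbOpen f a B (U ⊔ V)).ι) hij
      simp only [Over.comp_left, Category.assoc, pbUIncl_ι] at he
      rcases i with ⟨_ | _⟩ <;> rcases j with ⟨_ | _⟩
      · exact congrArg (fun g => rs I.val g y)
          (Over.OverMorphism.ext ((cancel_mono (pbOpen f a B V).ι).1 he))
      · obtain ⟨g', hg'⟩ := hlift (W := U ⊓ V) gi (by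
          rintro _ ⟨z, rfl⟩
          refine ⟨?_, (gi.left z).2⟩
          rw [he]
          exact (gj.left z).2)
        show rs I.val gi y = rs I.val gj x
        rw [show gi = g' ≫ pbUIncl f a inf_le_right B from Over.OverMorphism.ext
              ((cancel_mono (pbOpen f a B V).ι).1 (by
                rw [Over.comp_left, Category.assoc, pbUIncl_ι, hg']; rfl)),
            show gj = g' ≫ pbUIncl f a inf_le_left B from Over.OverMorphism.ext
              ((cancel_mono (pbOpen f a B U).ι).1 (by
                rw [Over.comp_left, Category.assoc, pbUIncl_ι, hg']; exact he.symm)),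
            rs_comp, rs_comp]
        exact congrArg (rs I.val g') hxy.symm
      · obtain ⟨g', hg'⟩ := hlift (W := U ⊓ V) gi (by
          rintro _ ⟨z, rfl⟩
          refine ⟨(gi.left z).2, ?_⟩
          rw [he]
          exact (gj.left z).2)
        show rs I.val gi x = rs I.val gj y
        rw [show gi = g' ≫ pbUIncl f a inf_le_left B from Over.OverMorphism.ext
              ((cancel_mono (pbOpen f a B U).ι).1 (by
                rw [Over.comp_left, Category.assoc, pbUIncl_ι, hg']; rfl)),
            show gj = g' ≫ pbUIncl f a inf_le_right B from Over.OverMorphism.ext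
              ((cancel_mono (pbOpen f a B V).ι).1 (by
                rw [Over.comp_left, Category.assoc, pbUIncl_ι, hg']; exact he.symm)),
            rs_comp, rs_comp]
        exact congrArg (rs I.val g') hxy
      · exact congrArg (fun g => rs I.val g x)
          (Over.OverMorphism.ext ((cancel_mono (pbOpen f a B U).ι).1 he))
  exact ⟨t, hbi B _ _ ((hfst B t).trans (ht ⟨true⟩)) ((hsnd B t).trans (ht ⟨false⟩))⟩

variable {I}

/-- A closed property spreads to unions by the Mayer–Vietoris sequence. -/
theorem prop_rightDerived_sup {P : ObjectProperty (MVF R)} (hP : Closed P) (M : BigSite.Mod K T)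
    (hU : ∀ n, P ((((openSect f a U).func K).rightDerived n).obj M))
    (hV : ∀ n, P ((((openSect f a V).func K).rightDerived n).obj M))
    (hUV : ∀ n, P ((((openSect f a (U ⊓ V)).func K).rightDerived n).obj M)) (n : ℕ) :
    P ((((openSect f a (U ⊔ V)).func K).rightDerived n).obj M) := by
  let Res := injectiveResolution M
  let C : ∀ W : (pullback a f).Opens, CochainComplex (MVF R) ℕ := fun W =>
    (((openSect f a W).func K).mapHomologicalComplex (ComplexShape.up ℕ)).obj Res.cocomplex
  let r : ∀ {W W' : (pullback a f).Opens} (_ : W ≤ W'), C W' ⟶ C W := fun h =>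
    (NatTrans.mapHomologicalComplex (openRes K f a h) (ComplexShape.up ℕ)).app Res.cocomplex
  let F₁ : C (U ⊔ V) ⟶ C U ⊞ C V := biprod.lift (r le_sup_left) (r le_sup_right)
  let G₁ : C U ⊞ C V ⟶ C (U ⊓ V) := biprod.desc (r inf_le_left) (-r inf_le_right)
  have hw : F₁ ≫ G₁ = 0 := by
    rw [biprod.lift_desc, Preadditive.comp_neg, add_neg_eq_zero]
    refine HomologicalComplex.hom_ext _ _ fun i => hom_ext' fun B x => ?_
    show rs _ _ (rs _ _ x) = rs _ _ (rs _ _ x)
    exact (openRes_comp f a (Res.cocomplex.X i) (inf_le_left : U ⊓ V ≤ U)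
        (le_sup_left : U ≤ U ⊔ V) B x).trans
      (openRes_comp f a (Res.cocomplex.X i) (inf_le_right : U ⊓ V ≤ V)
        (le_sup_right : V ≤ U ⊔ V) B x).symm
  have hS : (ShortComplex.mk F₁ G₁ hw).ShortExact := by
    refine HomologicalComplex.shortExact_of_degreewise_shortExact _ fun i => ?_
    haveI : Injective (Res.cocomplex.X i) := Res.injective i
    refine ShortComplex.shortExact_of_iso ?_ (mv_shortExact f a U V (Res.cocomplex.X i))
    refine ShortComplex.isoMk (Iso.refl _) (HomologicalComplex.biprodXIso (C U) (C V) i).symm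
      (Iso.refl _) ?_ ?_
    · refine (Category.id_comp _).trans ((Iso.eq_comp_inv _).mpr ?_)
      refine biprod.hom_ext _ _ ?_ ?_
      · refine ((Category.assoc _ _ _).trans ?_).trans (biprod.lift_fst _ _).symm
        refine (congrArg (_ ≫ ·) (HomologicalComplex.biprodXIso_hom_fst (C U) (C V) i)).trans ?_
        exact HomologicalComplex.congr_hom (biprod.lift_fst (r le_sup_left) (r le_sup_right)) i
      · refine ((Category.assoc _ _ _).trans ?_).trans (biprod.lift_snd _ _).symm
        refine (congrArg (_ ≫ ·) (HomologicalComplex.biprodXIso_hom_snd (C U) (C V) i)).trans ?_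
        exact HomologicalComplex.congr_hom (biprod.lift_snd (r le_sup_left) (r le_sup_right)) i
    · refine Eq.trans ?_ (Category.comp_id _).symm
      refine biprod.hom_ext' _ _ ?_ ?_
      · refine ((Category.assoc _ _ _).symm.trans ?_).trans (biprod.inl_desc _ _).symm
        refine (congrArg (· ≫ _) (HomologicalComplex.inl_biprodXIso_inv (C U) (C V) i)).trans ?_
        exact HomologicalComplex.congr_hom (biprod.inl_desc (r inf_le_left) (-r inf_le_right)) i
      · refine ((Category.assoc _ _ _).symm.trans ?_).trans (biprod.inr_desc _ _).symm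
        refine (congrArg (· ≫ _) (HomologicalComplex.inr_biprodXIso_inv (C U) (C V) i)).trans ?_
        exact HomologicalComplex.congr_hom (biprod.inr_desc (r inf_le_left) (-r inf_le_right)) i
  refine hP.of_iso (Res.isoRightDerivedObj ((openSect f a (U ⊔ V)).func K) n).symm
    (hP.homology_X₁ hS (fun m => ?_) (fun m => ?_) n)
  · exact hP.homology_biprod _ _ m (hP.of_iso (Res.isoRightDerivedObj _ m) (hU m))
      (hP.of_iso (Res.isoRightDerivedObj _ m) (hV m))
  · exact hP.of_iso (Res.isoRightDerivedObj _ m) (hUV m)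

/-- A closed property of the affine parts holds for all quasi-compact parts. -/
theorem prop_rightDerived_of_isCompact [QuasiSeparated f] {P : ObjectProperty (MVF R)}
    (hP : Closed P) (M : BigSite.Mod K T)
    (hM : (affBasis K T).Acyclic ((BigSite.toAbMod K T).obj M))
    (h : ∀ W : (pullback a f).Opens, IsAffineOpen W → P (((openSect f a W).func K).obj M))
    (W : (pullback a f).Opens) (hW : IsCompact (W : Set (pullback a f : Scheme.{u}))) (n : ℕ) :
    P ((((openSect f a W).func K).rightDerived n).obj M) := by
  let X := pullback a f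
  haveI : QuasiSeparatedSpace X := quasiSeparatedSpace_of_quasiSeparated (pullback.fst a f)
  have haff : ∀ O : X.Opens, IsAffineOpen O →
      ∀ n, P ((((openSect f a O).func K).rightDerived n).obj M) := by
    intro O hO n
    cases n with
    | zero =>
      exact hP.of_iso (((openSect f a O).func K).rightDerivedZeroIsoSelf.app M).symm (h O hO)
    | succ m =>
      exact hP.of_isZero (Sect.isZero_rightDerived _ (fun B => isAffine_pbU f a hO B) hM m)
  have hbot : ∀ n, P ((((openSect f a (⊥ : X.Opens)).func K).rightDerived n).obj M) :=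
    haff ⊥ (isAffineOpen_bot X)
  have hin : ∀ (O : X.Opens) (hO : IsAffineOpen O) (k : ℕ) (g : Fin k → Γ(X, O)) (n : ℕ),
      P ((((openSect f a (⨆ i, X.basicOpen (g i))).func K).rightDerived n).obj M) := by
    intro O hO k
    induction k with
    | zero =>
      intro g
      rw [show (⨆ i, X.basicOpen (g i)) = ⊥ from iSup_of_empty _]
      exact hbot
    | succ k ih =>
      intro g
      rw [show (⨆ i, X.basicOpen (g i)) =
          X.basicOpen (g 0) ⊔ ⨆ i : Fin k, X.basicOpen (g i.succ) from
        le_antisymm (iSup_le fun i => by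
            cases i using Fin.cases with
            | zero => exact le_sup_left
            | succ i => exact le_sup_of_le_right (le_iSup (fun i : Fin k => X.basicOpen (g i.succ)) i))
          (sup_le (le_iSup (fun i => X.basicOpen (g i)) 0)
            (iSup_le fun i => le_iSup (fun i => X.basicOpen (g i)) i.succ))]
      refine prop_rightDerived_sup f a _ _ hP M (haff _ (hO.basicOpen _)) (ih _) ?_
      rw [inf_iSup_eq]
      simp only [← Scheme.basicOpen_mul]
      exact ih _
  have hsub : ∀ (O : X.Opens) (_ : IsAffineOpen O) (W' : X.Opens), W' ≤ O →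
      IsCompact (W' : Set X) → ∀ n, P ((((openSect f a W').func K).rightDerived n).obj M) := by
    intro O hO W' hle hc
    choose g hg hxg using fun x : W' =>
      hO.exists_basicOpen_le (⟨x.1, x.2⟩ : W') (hle x.2)
    obtain ⟨t, ht⟩ := hc.elim_finite_subcover (fun x : W' => (X.basicOpen (g x) : Set X))
      (fun x => (X.basicOpen (g x)).isOpen) (fun y hy => Set.mem_iUnion.mpr ⟨⟨y, hy⟩, hxg ⟨y, hy⟩⟩)
    have he : W' = ⨆ i : Fin t.card, X.basicOpen (g (t.equivFin.symm i).1) := by
      refine le_antisymm (fun y hy => ?_) (iSup_le fun i => hg _)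
      obtain ⟨x, hx⟩ := Set.mem_iUnion.mp (ht hy)
      obtain ⟨hxt, hy'⟩ := Set.mem_iUnion.mp hx
      refine TopologicalSpace.Opens.mem_iSup.mpr ⟨t.equivFin ⟨x, hxt⟩, ?_⟩
      rw [Equiv.symm_apply_apply]
      exact hy'
    rw [he]
    exact hin O hO _ _
  have hall : ∀ (k : ℕ) (O : Fin k → X.Opens), (∀ i, IsAffineOpen (O i)) →
      ∀ W' : X.Opens, W' = ⨆ i, O i →
        ∀ n, P ((((openSect f a W').func K).rightDerived n).obj M) := by
    intro k
    induction k with
    | zero =>
      rintro O _ W' rfl
      rw [show (⨆ i, O i) = ⊥ from iSup_of_empty _]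
      exact hbot
    | succ k ih =>
      rintro O hO W' rfl
      rw [show (⨆ i, O i) = O 0 ⊔ ⨆ i : Fin k, O i.succ from
        le_antisymm (iSup_le fun i => by
            cases i using Fin.cases with
            | zero => exact le_sup_left
            | succ i => exact le_sup_of_le_right (le_iSup (fun i : Fin k => O i.succ) i))
          (sup_le (le_iSup O 0) (iSup_le fun i => le_iSup O i.succ))]
      refine prop_rightDerived_sup f a _ _ hP M (haff _ (hO 0))
        (ih _ (fun i => hO i.succ) _ rfl) (hsub _ (hO 0) _ inf_le_left ?_)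
      refine QuasiSeparatedSpace.inter_isCompact _ _ (O 0).isOpen (hO 0).isCompact
        (⨆ i : Fin k, O i.succ).isOpen ?_
      rw [TopologicalSpace.Opens.coe_iSup]
      exact isCompact_iUnion fun i => (hO i.succ).isCompact
  choose O hO hxO hOle using fun x : W =>
    exists_isAffineOpen_mem_and_subset (x := (x : X)) (U := W) x.2
  obtain ⟨t, ht⟩ := hW.elim_finite_subcover (fun x : W => (O x : Set X))
    (fun x => (O x).isOpen) (fun y hy => Set.mem_iUnion.mpr ⟨⟨y, hy⟩, hxO ⟨y, hy⟩⟩)
  refine hall t.card (fun i => O (t.equivFin.symm i).1) (fun i => hO _) W ?_ n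
  refine le_antisymm (fun y hy => ?_) (iSup_le fun i => hOle _)
  obtain ⟨x, hx⟩ := Set.mem_iUnion.mp (ht hy)
  obtain ⟨hxt, hy'⟩ := Set.mem_iUnion.mp hx
  refine TopologicalSpace.Opens.mem_iSup.mpr ⟨t.equivFin ⟨x, hxt⟩, ?_⟩
  show y ∈ O (t.equivFin.symm (t.equivFin ⟨x, hxt⟩)).1
  rw [Equiv.symm_apply_apply]
  exact hy'

variable [QuasiCompact f] [QuasiSeparated f]

/-- Higher direct images, on the affine objects, of modules whose affine parts have a closed
property. -/
theorem prop_rightDerived_push {P : ObjectProperty (MVF R)} (hP : Closed P) (M : BigSite.Mod K T)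
    (hM : (affBasis K T).Acyclic ((BigSite.toAbMod K T).obj M))
    (h : ∀ W : (pullback a f).Opens, IsAffineOpen W → P (((openSect f a W).func K).obj M))
    (n : ℕ) :
    haveI : (BigSite.pushMod K f ⋙ toMVF K a).Additive := inferInstance
    P (((BigSite.pushMod K f ⋙ toMVF K a).rightDerived n).obj M) := by
  haveI : CompactSpace (pullback a f : Scheme.{u}) :=
    QuasiCompact.compactSpace_of_compactSpace (pullback.fst a f)
  haveI : IsIso (Sect.res (topHom f a) K) := Sect.isIso_res _
  refine hP.of_iso ((rightDerivedCongr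
    ((pbSectIso f a (K := K)).symm ≪≫ asIso (Sect.res (topHom f a) K)) n).app M).symm ?_
  exact prop_rightDerived_of_isCompact f a hP M hM h ⊤ isCompact_univ n

end Opens

section RpushMod

variable {S : Scheme.{u}} (f : T ⟶ S)

/-- The direct image as a presheaf. -/
abbrev pushPre : BigSite.Mod K T ⥤ PMod K S :=
  BigSite.pushMod K f ⋙ SheafOfModules.forget _

instance pushPre_additive : (pushPre (K := K) f).Additive := inferInstance

/-- Higher direct images are sheafified higher presheaf direct images. -/
def rpushModIso (i : ℕ) :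
    haveI : (PresheafOfModules.sheafification (𝟙 (BigSite.ORing K S).obj)).Additive :=
      (PresheafOfModules.sheafificationAdjunction (𝟙 (BigSite.ORing K S).obj)).left_adjoint_additive
    BigSite.RpushMod K f i ≅ (pushPre f).rightDerived i ⋙
      PresheafOfModules.sheafification (𝟙 (BigSite.ORing K S).obj) :=
  haveI : (PresheafOfModules.sheafification (𝟙 (BigSite.ORing K S).obj)).Additive :=
    (PresheafOfModules.sheafificationAdjunction (𝟙 (BigSite.ORing K S).obj)).left_adjoint_additive
  rightDerivedCongr (G' := pushPre f ⋙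
      PresheafOfModules.sheafification (𝟙 (BigSite.ORing K S).obj))
    ((BigSite.pushMod K f).rightUnitor.symm ≪≫
      Functor.isoWhiskerLeft (BigSite.pushMod K f) (shfForgetIso S).symm ≪≫
      (Functor.associator _ _ _).symm) i ≪≫
    rightDerivedCompExactIso _ _ i

/-- Higher presheaf direct images on affine objects. -/
def rpushPreIso (a : Spec R ⟶ S) (i : ℕ) :
    (pushPre (K := K) f).rightDerived i ⋙ toMVFPre K a ≅
      (BigSite.pushMod K f ⋙ toMVF K a).rightDerived i :=
  haveI : PreservesFiniteColimits (toMVFPre K a) := ⟨fun _ _ _ => inferInstance⟩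
  haveI : PreservesFiniteLimits (toMVFPre K a) := ⟨fun _ _ _ => inferInstance⟩
  (rightDerivedCompExactIso (pushPre f) (toMVFPre K a) i).symm ≪≫
    rightDerivedCongr (Functor.associator _ _ _) i

end RpushMod

end

end Groth.Agent.AdeqLib
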