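import Groth.Agent.AdeqLib.RPush
import Groth.Agent.AdeqLib.Parasitic

/-!
# Higher direct images preserve adequate and parasitic modules
-/

set_option autoImplicit false
set_option linter.style.haveILetI false
set_option linter.unusedSectionVars false
set_option backward.isDefEq.respectTransparency false
set_option backward.isDefEq.respectTransparency.types false

universe u

open CategoryTheory Limits TensorProduct Opposite AlgebraicGeometry
open Groth.Agent.SiteCoh

namespace Groth.Agent.AdeqLib

open Adeq

noncomputable section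

variable {R : Type u} [CommRing R]

theorem closed_adequate : Closed (adequate R : ObjectProperty (MVF R)) where
  of_iso e h := (adequate R).prop_of_iso e h
  of_isZero {X} hX :=
    (adequate R).prop_of_iso
      ((isZero_kernel_of_mono (𝟙 (uO (ModuleCat.of R PUnit.{u + 2})))).iso hX)
      (adequate_kernel _ (adequate_uO _) (adequate_uO _))
  ker φ hX hY := adequate_kernel φ hX hY
  coker φ hX hY := adequate_cokernel φ hX hY
  ext hS h₁ h₃ := adequate_ext hS h₁ h₃

/-- Vanishing at the base. -/
def vanishesAt (B : Alg R) : ObjectProperty (MVF R) := fun F => Subsingleton (F.obj (pt B))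

theorem closed_vanishesAt (B : Alg R) : Closed (vanishesAt B) where
  of_iso {X Y} e h := by
    haveI : Subsingleton (X.obj (pt B)) := h
    exact ⟨fun x y => inj_of_mono e.inv B (Subsingleton.elim _ _)⟩
  of_isZero {X} hX := ⟨fun x y => by
    have h := congrArg (fun φ => ap φ B (x - y)) (hX.eq_of_src (𝟙 X) 0)
    rw [ap_id, ap_zero] at h
    exact sub_eq_zero.mp h⟩
  ker {X Y} φ hX _ := by
    haveI : Subsingleton (X.obj (pt B)) := hX
    exact ⟨fun x y => kernel_inj φ B (Subsingleton.elim _ _)⟩
  coker {X Y} φ _ hY := by
    haveI : Subsingleton (Y.obj (pt B)) := hY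
    exact (surj_of_epi (cokernel.π φ) B).subsingleton
  ext {S} hS h₁ h₃ := by
    haveI : Subsingleton (S.X₁.obj (pt B)) := h₁
    haveI : Subsingleton (S.X₃.obj (pt B)) := h₃
    haveI := hS.mono_f
    haveI : Subsingleton ((kernel S.g).obj (pt B)) :=
      ⟨fun x y => inj_of_mono
        (IsLimit.conePointUniqueUpToIso (kernelIsKernel S.g) hS.exact.fIsKernel).hom B
        (Subsingleton.elim (α := S.X₁.obj (pt B)) _ _)⟩
    refine ⟨fun x y => sub_eq_zero.mp ?_⟩
    obtain ⟨k, hk⟩ := (kernel_exact S.g B (x - y)).mp (Subsingleton.elim _ _)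
    rw [← hk, Subsingleton.elim k 0, map_zero]

variable {K : Precoverage Scheme.{u}} [BigSite.OSh K] [HasAffRef K] [K.IsStableUnderBaseChange]
  {S T : Scheme.{u}} [∀ U : Over T, HasFiniteProducts (Over U)]
  [HasInjectiveResolutions (BigSite.Mod K T)] (f : T ⟶ S) [QuasiCompact f] [QuasiSeparated f]
  {M : BigSite.Mod K T}

theorem adequate_pushPre (hM : adequateMod K T M) (i : ℕ) {A : CommRingCat.{u}}
    (a : Spec A ⟶ S) : adequate A ((toMVFPre K a).obj (((pushPre f).rightDerived i).obj M)) :=
  (adequate A).prop_of_iso ((rpushPreIso f a i).app M).symm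
    (prop_rightDerived_push f a closed_adequate M (affBasis_acyclic hM)
      (fun W hW => adequate_openSect f a hW hM) i)

/-- Higher direct images of adequate modules are adequate. -/
theorem adequateMod_Rpush (hM : adequateMod K T M) (i : ℕ) :
    adequateMod K S ((BigSite.RpushMod K f i).obj M) :=
  (adequateMod K S).prop_of_iso ((rpushModIso f i).app M).symm
    (adequateMod_shf fun _ a => adequate_pushPre f hM i a)

/-- Higher direct images of parasitic adequate modules are parasitic. -/
theorem parasitic_Rpush (hM : adequateMod K T M) (hP : parasitic K T M) (i : ℕ) :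
    parasitic K S ((BigSite.RpushMod K f i).obj M) := by
  refine parasitic_of_affineCover (adequateMod_Rpush f hM i)
    (fun V : S.affineOpens => (V : S.Opens)) (fun V => V.2) (iSup_affineOpens_eq_top S) fun V => ?_
  haveI : IsAffine ((V : S.Opens) : Scheme.{u}) := V.2
  let A := Γ(((V : S.Opens) : Scheme.{u}), ⊤)
  let a : Spec A ⟶ S := ((V : S.Opens) : Scheme.{u}).isoSpec.inv ≫ (V : S.Opens).ι
  let g : (Over.mk (V : S.Opens).ι : Over S) ⟶ sO a (algOf A A) :=
    Over.homMk ((V : S.Opens) : Scheme.{u}).isoSpec.hom (by
      show _ ≫ sStr (algOf A A) ≫ a = (V : S.Opens).ι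
      rw [show sStr (algOf A A) = 𝟙 (Spec A) from
        (congrArg Spec.map (CommRingCat.ofHom_id (R := A))).trans (Spec.map_id A)]
      exact (congrArg (_ ≫ ·) (Category.id_comp a)).trans (Iso.hom_inv_id_assoc _ _))
  haveI : IsIso g := by
    haveI : IsIso ((Over.forget S).map g) :=
      inferInstanceAs (IsIso ((V : S.Opens) : Scheme.{u}).isoSpec.hom)
    exact isIso_of_reflects_iso _ (Over.forget S)
  refine ⟨fun x y => ?_⟩
  suffices h : Subsingleton (((BigSite.RpushMod K f i).obj M).val.presheaf.obj
      (op (sO a (algOf A A)))) by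
    obtain ⟨x', rfl⟩ := (rs_bijective _ g).2 x
    obtain ⟨y', rfl⟩ := (rs_bijective _ g).2 y
    exact congrArg _ (h.elim x' y')
  let P : PMod K S := ((pushPre f).rightDerived i).obj M
  haveI : Subsingleton (P.presheaf.obj (op (sO a (algOf A A)))) := by
    refine (closed_vanishesAt (algOf A A)).of_iso ((rpushPreIso f a i).app M).symm
      (prop_rightDerived_push f a (closed_vanishesAt (algOf A A)) M (affBasis_acyclic hM)
        (fun W _ => ?_) i)
    refine hP _ ?_
    show Flat ((pbOpen f a (algOf A A) W).ι ≫ pullback.snd (sO a (algOf A A)).hom f)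
    haveI : Flat (sO a (algOf A A)).hom := by
      show Flat (sStr (algOf A A) ≫ a)
      rw [show sStr (algOf A A) = 𝟙 (Spec A) from
        (congrArg Spec.map (CommRingCat.ofHom_id (R := A))).trans (Spec.map_id A)]
      infer_instance
    infer_instance
  haveI : IsAffine (sO a (algOf A A)).left := inferInstanceAs (IsAffine (Spec _))
  haveI : Subsingleton ((shf P).val.presheaf.obj (op (sO a (algOf A A)))) :=
    (unitAt_bijective_affine (fun _ b => adequate_pushPre f hM i b)
      (sO a (algOf A A))).2.subsingleton
  exact subsingleton_of_iso' ((rpushModIso f i).app M) _ this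
where subsingleton_of_iso' {N N' : BigSite.Mod K S} (e : N ≅ N') (U : Over S)
    (h : Subsingleton (N'.val.presheaf.obj (op U))) : Subsingleton (N.val.presheaf.obj (op U)) :=
  ⟨fun x y => by
    have hid : ∀ z, ((PresheafOfModules.toPresheaf _).map e.inv.val).app (op U)
        (((PresheafOfModules.toPresheaf _).map e.hom.val).app (op U) z) = z := fun z =>
      ConcreteCategory.congr_hom (congrArg
        (fun φ : N ⟶ N => ((PresheafOfModules.toPresheaf _).map φ.val).app (op U)) e.hom_inv_id) z
    rw [← hid x, ← hid y]
    exact congrArg _ (h.elim _ _)⟩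

end

end Groth.Agent.AdeqLib
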