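import Groth.Agent.AdeqLib.SpecOver

/-!
# Refining coverings of affine schemes by finite affine families
-/

set_option autoImplicit false
set_option linter.style.haveILetI false
set_option backward.isDefEq.respectTransparency false
set_option backward.isDefEq.respectTransparency.types false

universe u

open CategoryTheory Limits TensorProduct Opposite AlgebraicGeometry

namespace Groth.Agent.AdeqLib

open Adeq

noncomputable section

/-- The algebra of a morphism of spectra. -/
abbrev algPre {R C : CommRingCat.{u}} (f : Spec C ⟶ Spec R) : Alg R :=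
  letI : Algebra R C := (Spec.preimage f).hom.toAlgebra
  algOf R C

theorem sStr_algPre {R C : CommRingCat.{u}} (f : Spec C ⟶ Spec R) : sStr (algPre f) = f := by
  show Spec.map (CommRingCat.ofHom (Spec.preimage f).hom) = f
  rw [CommRingCat.ofHom_hom, Spec.map_preimage]

/-- Coverings of affine schemes are refined by finite faithfully flat affine families. -/
class HasFFRef (K : Precoverage Scheme.{u}) : Prop where
  refine_ : ∀ (R : CommRingCat.{u}) (T : Sieve (Spec R)), T ∈ K.toGrothendieck (Spec R) →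
    ∃ (ι : Type (u + 1)) (_ : Finite ι) (A : ι → Alg R),
      FFam A ∧ ∀ i, T.arrows (sStr (A i))

/-- The refining families cover. -/
class HasAffRef (K : Precoverage Scheme.{u}) : Prop where
  refine_ : ∀ (R : CommRingCat.{u}) (T : Sieve (Spec R)), T ∈ K.toGrothendieck (Spec R) →
    ∃ (ι : Type (u + 1)) (_ : Finite ι) (A : ι → Alg R),
      FFam A ∧ CoversBase K A ∧ ∀ i, T.arrows (sStr (A i))
  zariski_le : Scheme.zariskiPrecoverage ≤ K

instance (K : Precoverage Scheme.{u}) [HasAffRef K] : HasFFRef K where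
  refine_ R T hT := by
    obtain ⟨ι, hι, A, h1, _, h2⟩ := HasAffRef.refine_ R T hT
    exact ⟨ι, hι, A, h1, h2⟩

/-- A finite affine refinement for coverings by open flat morphisms. -/
theorem exists_affine_refinement (P : MorphismProperty Scheme.{u}) [P.IsStableUnderComposition]
    (hP : ∀ {X Y : Scheme.{u}} (f : X ⟶ Y), P f → Flat f ∧ IsOpenMap f)
    (hI : ∀ {X Y : Scheme.{u}} (f : X ⟶ Y) [IsOpenImmersion f], P f)
    {R : CommRingCat.{u}} {R₀ : Presieve (Spec R)} (hR₀ : R₀ ∈ Scheme.precoverage P (Spec R)) :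
    ∃ (ι : Type (u + 1)) (_ : Finite ι) (A : ι → Alg R),
      FFam A ∧ CoversBase (Scheme.precoverage P) A ∧
      ∀ i, (Sieve.generate R₀).arrows (sStr (A i)) := by
  have hP' : ∀ {Y : Scheme.{u}} {f : Y ⟶ Spec R}, R₀ f → P f := fun {Y f} hf => hR₀.2 hf
  have hsurj : ∀ x : Spec R, ∃ (Y : Scheme.{u}) (f : Y ⟶ Spec R), R₀ f ∧ x ∈ Set.range f := by
    intro x
    have h1 : R₀ ∈ Scheme.jointlySurjectivePrecoverage (Spec R) := hR₀.1
    rw [Scheme.jointlySurjectivePrecoverage, Presieve.mem_comap_jointlySurjectivePrecoverage_iff] at h1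
    obtain ⟨Y, f, hf, hx⟩ := h1 x
    exact ⟨Y, f, hf, hx⟩
  choose Y f hf y hy using hsurj
  choose V hV hyV _ using fun x : Spec R =>
    exists_isAffineOpen_mem_and_subset (x := y x) (U := (⊤ : (Y x).Opens)) (Set.mem_univ (y x))
  let g : ∀ x, Spec Γ(Y x, V x) ⟶ Spec R := fun x => (hV x).fromSpec ≫ f x
  have hg : ∀ x, P (g x) := fun x => P.comp_mem _ _ (hI _) (hP' (hf x))
  have hgx : ∀ x, x ∈ Set.range (g x) := fun x => by
    obtain ⟨z, hz⟩ : y x ∈ Set.range (hV x).fromSpec := by
      rw [(hV x).range_fromSpec]; exact hyV x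
    exact ⟨z, by
      show f x ((hV x).fromSpec z) = x
      rw [hz, hy x]⟩
  obtain ⟨t, ht⟩ := isCompact_univ.elim_finite_subcover (fun x : Spec R => Set.range (g x))
    (fun x => (hP _ (hg x)).2.isOpen_range) (fun x _ => Set.mem_iUnion.mpr ⟨x, hgx x⟩)
  let A : ULift.{u + 1} t → Alg R := fun i => algPre (g i.down)
  have hstr : ∀ i, sStr (A i) = g i.down := fun i => sStr_algPre _
  have hcov : ∀ p : Spec R, ∃ i, p ∈ Set.range (sStr (A i)) := fun p => by
    obtain ⟨x, hx⟩ := Set.mem_iUnion.mp (ht (Set.mem_univ p))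
    obtain ⟨hxt, hp⟩ := Set.mem_iUnion.mp hx
    exact ⟨ULift.up ⟨x, hxt⟩, by rw [hstr]; exact hp⟩
  refine ⟨ULift.{u + 1} t, inferInstance, A, ⟨fun i => ?_, fun p => hcov p⟩,
    Precoverage.generate_mem_toGrothendieck
      ((Scheme.ofArrows_mem_precoverage_iff P).mpr ⟨hcov, fun i => by rw [hstr]; exact hg _⟩),
    fun i => ?_⟩
  · have h : Flat (sStr (A i)) := by rw [hstr]; exact (hP _ (hg _)).1
    have h' := (HasRingHomProperty.Spec_iff (P := @Flat)).mp h
    exact h'
  · rw [hstr]
    exact Sieve.downward_closed _ (Sieve.le_generate R₀ _ _ (hf i.down.1)) _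

instance hasIsos_fppf : Scheme.fppfPrecoverage.{u}.HasIsos :=
  haveI : (@Flat ⊓ @LocallyOfFinitePresentation : MorphismProperty Scheme.{u}).ContainsIdentities :=
    ⟨fun _ => ⟨inferInstance, inferInstance⟩⟩
  haveI : (@Flat ⊓ @LocallyOfFinitePresentation : MorphismProperty Scheme.{u}).RespectsIso :=
    inferInstance
  inferInstanceAs ((Scheme.precoverage (@Flat ⊓ @LocallyOfFinitePresentation)).HasIsos)

instance hasAffRef_fppf : HasAffRef Scheme.fppfPrecoverage.{u} where
  zariski_le := Scheme.zariskiPrecoverage_le_fppfPrecoverage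
  refine_ R T hT := by
    obtain ⟨R₀, hR₀, hle⟩ := Precoverage.mem_toGrothendieck_iff_of_isStableUnderComposition.mp hT
    obtain ⟨ι, hι, A, h1, h2, h3⟩ := exists_affine_refinement (@Flat ⊓ @LocallyOfFinitePresentation)
      (fun f ⟨h, h'⟩ => ⟨h, f.isOpenMap⟩) (fun f _ => ⟨inferInstance, inferInstance⟩) hR₀
    exact ⟨ι, hι, A, h1, h2, fun i => ((Sieve.generate_le_iff _ _).mpr hle) _ (h3 i)⟩

instance hasAffRef_zariski : HasAffRef Scheme.zariskiPrecoverage.{u} where
  zariski_le := le_rfl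
  refine_ R T hT := by
    obtain ⟨R₀, hR₀, hle⟩ := Precoverage.mem_toGrothendieck_iff_of_isStableUnderComposition.mp hT
    obtain ⟨ι, hι, A, h1, h2, h3⟩ := exists_affine_refinement @IsOpenImmersion
      (fun f h => ⟨inferInstance, f.isOpenEmbedding.isOpenMap⟩) (fun f h => h) hR₀
    exact ⟨ι, hι, A, h1, h2, fun i => ((Sieve.generate_le_iff _ _).mpr hle) _ (h3 i)⟩

/-- Coverings for the fpqc topology are refined by finite faithfully flat affine families. -/
instance hasFFRef_fpqc : HasFFRef Scheme.fpqcPrecoverage.{u} where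
  refine_ R T hT := by
    obtain ⟨R₀, hR₀, hle⟩ := Precoverage.mem_toGrothendieck_iff_of_isStableUnderComposition.mp hT
    obtain ⟨E, rfl⟩ := Precoverage.mem_iff_exists_zeroHypercover.mp hR₀
    let 𝒰 : Scheme.Cover Scheme.fpqcPrecoverage (Spec R) := E
    haveI : QuasiCompactCover 𝒰.toPreZeroHypercover :=
      Scheme.presieve₀_mem_qcPrecoverage_iff.1 𝒰.mem₀.1
    have hfl : ∀ i, Flat (𝒰.f i) := fun i =>
      ((Scheme.presieve₀_mem_precoverage_iff 𝒰.toPreZeroHypercover).1 𝒰.mem₀.2).2 i
    obtain ⟨n, a, W, hW, heq⟩ := QuasiCompactCover.exists_isAffineOpen_of_isCompact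
      𝒰.toPreZeroHypercover (U := (⊤ : (Spec R).Opens)) isCompact_univ
    let A : ULift.{u + 1} (Fin n) → Alg R := fun i =>
      algPre ((hW i.down).fromSpec ≫ 𝒰.f (a i.down))
    have hstr : ∀ i, sStr (A i) = (hW i.down).fromSpec ≫ 𝒰.f (a i.down) :=
      fun i => sStr_algPre _
    refine ⟨ULift.{u + 1} (Fin n), inferInstance, A, ⟨fun i => ?_, fun p => ?_⟩, fun i => ?_⟩
    · have h : Flat (sStr (A i)) := by
        rw [hstr]
        haveI := hfl (a i.down)
        infer_instance
      exact (HasRingHomProperty.Spec_iff (P := @Flat)).mp h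
    · have hp : p ∈ ((⊤ : (Spec R).Opens) : Set (Spec R)) := trivial
      rw [← heq, Set.mem_iUnion] at hp
      obtain ⟨k, z, hz, rfl⟩ := hp
      obtain ⟨x, rfl⟩ : z ∈ Set.range (hW k).fromSpec := by
        rw [(hW k).range_fromSpec]; exact hz
      exact ⟨ULift.up k, x, congrArg (fun φ : _ ⟶ Spec R => φ x) (hstr (ULift.up k))⟩
    · rw [hstr]
      exact T.downward_closed (hle _ _ (Presieve.ofArrows.mk (a i.down))) _

end

end Groth.Agent.AdeqLib
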