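import Groth.Agent.AdeqLib.Push

/-!
# Module-valued functors of sections over families of objects of a big site
-/

set_option autoImplicit false
set_option linter.style.haveILetI false
set_option linter.unusedSectionVars false
set_option backward.isDefEq.respectTransparency false
set_option backward.isDefEq.respectTransparency.types false

universe u

open CategoryTheory Limits TensorProduct Opposite AlgebraicGeometry

namespace Groth.Agent.AdeqLib

open Adeq

noncomputable section

/-- A family of objects over `T`, functorial in an algebra, with maps to its spectrum. -/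
structure Sect (T : Scheme.{u}) (R : CommRingCat.{u}) where
  Φ : (Alg R)ᵒᵖ ⥤ Over T
  q : ∀ B : Alg R, (Φ.obj (op B)).left ⟶ Spec (CommRingCat.of B)
  nat : ∀ {B B' : Alg R} (f : B ⟶ B'),
    (Φ.map f.op).left ≫ q B = q B' ≫ Spec.map (CommRingCat.ofHom f.hom.toRingHom)

variable {K : Precoverage Scheme.{u}} [BigSite.OSh K] {T : Scheme.{u}} {R : CommRingCat.{u}}

namespace Sect

variable (𝒮 : Sect T R)

/-- The ring map to the sections of the structure sheaf. -/
def toO (K : Precoverage Scheme.{u}) [BigSite.OSh K] (B : Alg R) :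
    (B : Type u) →+* (BigSite.ORing K T).obj.obj (op (𝒮.Φ.obj (op B))) :=
  (ULift.ringEquiv.symm :
      Γ((𝒮.Φ.obj (op B)).left, ⊤) ≃+* ULift.{u + 1} Γ((𝒮.Φ.obj (op B)).left, ⊤)).toRingHom.comp
    ((Scheme.ΓSpecIso (CommRingCat.of B)).inv ≫ (𝒮.q B).appTop).hom

/-- The underlying abelian functor of sections. -/
def ab (P : PMod K T) : (Alg R)ᵒᵖᵒᵖ ⥤ Ab.{u + 1} :=
  𝒮.Φ.op ⋙ (PresheafOfModules.toPresheaf (BigSite.ORing K T).obj).obj P

instance abModuleO (P : PMod K T) (X : (Alg R)ᵒᵖᵒᵖ) :
    Module ((BigSite.ORing K T).obj.obj (op (𝒮.Φ.obj (op X.unop.unop)))) ((𝒮.ab P).obj X) :=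
  (P.obj (op (𝒮.Φ.obj (op X.unop.unop)))).isModule

instance abModule (P : PMod K T) (X : (Alg R)ᵒᵖᵒᵖ) : Module X.unop.unop ((𝒮.ab P).obj X) :=
  Module.compHom ((𝒮.ab P).obj X) (𝒮.toO K X.unop.unop)

/-- The module-valued functor of sections of a presheaf of modules. -/
def funObj (P : PMod K T) : MVF R :=
  PresheafOfModules.ofPresheaf (𝒮.ab P) (by
    intro X Y f r m
    have h := P.map_smul (𝒮.Φ.map f.unop).op (𝒮.toO K X.unop.unop r) m
    refine h.trans ?_
    congr 1
    apply ULift.ext
    change ((Scheme.ΓSpecIso (CommRingCat.of X.unop.unop)).inv ≫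
        (𝒮.q X.unop.unop).appTop ≫ (𝒮.Φ.map f.unop).left.appTop) r =
      (CommRingCat.ofHom f.unop.unop.hom.toRingHom ≫
        (Scheme.ΓSpecIso (CommRingCat.of Y.unop.unop)).inv ≫ (𝒮.q Y.unop.unop).appTop) r
    rw [← Scheme.Hom.comp_appTop, show f.unop = (f.unop.unop).op from rfl, 𝒮.nat,
      Scheme.Hom.comp_appTop, Scheme.ΓSpecIso_inv_naturality_assoc]
    rfl)

/-- Sections as a functor of sheaves of modules. -/
def func (K : Precoverage Scheme.{u}) [BigSite.OSh K] : BigSite.Mod K T ⥤ MVF R where
  obj M := 𝒮.funObj M.val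
  map {M N} ψ := PresheafOfModules.homMk
    (Functor.whiskerLeft 𝒮.Φ.op
      ((PresheafOfModules.toPresheaf (BigSite.ORing K T).obj).map ψ.val))
    (fun X r m =>
      (ψ.val.app (op (𝒮.Φ.obj (op X.unop.unop)))).hom.map_smul (𝒮.toO K X.unop.unop r) m)
  map_id M := by ext X x; rfl
  map_comp ψ ψ' := by ext X x; rfl

instance func_additive : (𝒮.func K).Additive where
  map_add := by intros; ext X x; rfl

/-- The underlying abelian functor. -/
def funcCompIso :
    𝒮.func K ⋙ PresheafOfModules.toPresheaf (ringOf R) ≅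
      SheafOfModules.forget _ ⋙ PresheafOfModules.toPresheaf (BigSite.ORing K T).obj ⋙
        (Functor.whiskeringLeft _ _ _).obj 𝒮.Φ.op :=
  Iso.refl _

instance func_preservesLimitsOfShape {J : Type} [SmallCategory J] [FinCategory J] :
    PreservesLimitsOfShape J (𝒮.func K) := by
  haveI : ReflectsLimitsOfShape J (PresheafOfModules.toPresheaf.{u + 1} (ringOf R)) :=
    reflectsLimitsOfShape_of_reflectsIsomorphisms
  haveI : PreservesLimitsOfShape J (𝒮.func K ⋙ PresheafOfModules.toPresheaf (ringOf R)) :=
    preservesLimitsOfShape_of_natIso 𝒮.funcCompIso.symm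
  exact preservesLimitsOfShape_of_reflects_of_preserves _
    (PresheafOfModules.toPresheaf (ringOf R))

instance func_preservesFiniteLimits : PreservesFiniteLimits (𝒮.func K) :=
  ⟨fun _ _ _ => inferInstance⟩

theorem ap_func {M N : BigSite.Mod K T} (ψ : M ⟶ N) (B : Alg R)
    (x : M.val.presheaf.obj (op (𝒮.Φ.obj (op B)))) :
    ap ((𝒮.func K).map ψ) B x =
      ((PresheafOfModules.toPresheaf _).map ψ.val).app (op (𝒮.Φ.obj (op B))) x := rfl

/-- A map of families. -/
structure Hom (𝒮' 𝒮 : Sect T R) where
  α : 𝒮'.Φ ⟶ 𝒮.Φ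
  w : ∀ B : Alg R, (α.app (op B)).left ≫ 𝒮.q B = 𝒮'.q B

variable {𝒮} {𝒮' : Sect T R} (h : Hom 𝒮' 𝒮)

/-- Restriction along a map of families. -/
def res (K : Precoverage Scheme.{u}) [BigSite.OSh K] : 𝒮.func K ⟶ 𝒮'.func K where
  app M := mkHom (F := (𝒮.func K).obj M) (G := (𝒮'.func K).obj M)
    (fun B =>
      { toFun := fun x => rs M.val (h.α.app (op B)) x
        map_add' := fun x y => map_add (rs M.val (h.α.app (op B))) x y
        map_smul' := fun b x => by
          have h' := M.val.map_smul (h.α.app (op B)).op (𝒮.toO K B b) x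
          refine h'.trans ?_
          congr 1
          apply ULift.ext
          change ((Scheme.ΓSpecIso (CommRingCat.of B)).inv ≫
              (𝒮.q B).appTop ≫ (h.α.app (op B)).left.appTop) b =
            ((Scheme.ΓSpecIso (CommRingCat.of B)).inv ≫ (𝒮'.q B).appTop) b
          rw [← Scheme.Hom.comp_appTop, h.w] })
    (fun {X Y} f x => by
      show rs M.val (h.α.app (op Y)) (rs M.val (𝒮.Φ.map f.op) x) =
        rs M.val (𝒮'.Φ.map f.op) (rs M.val (h.α.app (op X)) x)
      rw [← rs_comp, ← rs_comp, h.α.naturality])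
  naturality {M N} ψ := hom_ext' fun B x =>
    (ConcreteCategory.congr_hom
      (((PresheafOfModules.toPresheaf _).map ψ.val).naturality (h.α.app (op B)).op) x).symm

theorem ap_res (M : BigSite.Mod K T) (B : Alg R) (x : ((𝒮.func K).obj M).obj (pt B)) :
    ap ((res h K).app M) B x = rs M.val (h.α.app (op B)) x := rfl

theorem isIso_res [∀ B, IsIso (h.α.app (op B))] : IsIso (res h K) := by
  haveI : ∀ M, IsIso ((res h K).app M) := fun M =>
    isIso_of_bij _ fun B => rs_bijective M.val (h.α.app (op B))
  exact NatIso.isIso_of_isIso_app _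

end Sect

section Pullback

variable {S : Scheme.{u}} (f : T ⟶ S) (a : Spec R ⟶ S)

/-- The base change of the affine objects over `a`. -/
def pbSect : Sect T R where
  Φ := specOver a ⋙ Over.pullback f
  q B := pullback.fst (sO a B).hom f
  nat {B B'} g := pullback.lift_fst _ _ _

theorem pbProj_nat {B B' : Alg R} (g : B ⟶ B') :
    ((Over.pullback f).map (sM a g)).left ≫ pbProj f a B = pbProj f a B' := by
  refine pullback.hom_ext ?_ ?_
  · rw [Category.assoc, pbProj, pullback.lift_fst, ← Category.assoc]
    refine (congrArg (· ≫ sStr B) (pullback.lift_fst _ _ _)).trans ?_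
    rw [Category.assoc, sM_left_str, pbProj, pullback.lift_fst]
  · rw [Category.assoc, pbProj, pullback.lift_snd, pbProj, pullback.lift_snd]
    exact pullback.lift_snd _ _ _

/-- The part of a base change over an open. -/
abbrev pbU (U : (pullback a f).Opens) (B : Alg R) : Over T :=
  Over.mk ((pbOpen f a B U).ι ≫ (pb f a B).hom)

/-- The map of parts over an open. -/
def pbUMap (U : (pullback a f).Opens) {B B' : Alg R} (g : B ⟶ B') :
    pbU f a U B' ⟶ pbU f a U B :=
  Over.homMk (IsOpenImmersion.lift (pbOpen f a B U).ι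
    ((pbOpen f a B' U).ι ≫ ((Over.pullback f).map (sM a g)).left) (by
      rintro _ ⟨z, rfl⟩
      refine (Scheme.Opens.range_ι (pbOpen f a B U)).ge ?_
      have := congrArg (fun φ => φ ((pbOpen f a B' U).ι z)) (pbProj_nat f a g)
      show pbProj f a B (((Over.pullback f).map (sM a g)).left ((pbOpen f a B' U).ι z)) ∈ U
      exact this ▸ z.2))
    (by
      show IsOpenImmersion.lift _ _ _ ≫ (pbOpen f a B U).ι ≫ (pb f a B).hom =
        (pbOpen f a B' U).ι ≫ (pb f a B').hom
      rw [IsOpenImmersion.lift_fac_assoc, Category.assoc,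
        Over.w ((Over.pullback f).map (sM a g))])

theorem pbUMap_ι (U : (pullback a f).Opens) {B B' : Alg R} (g : B ⟶ B') :
    (pbUMap f a U g).left ≫ (pbOpen f a B U).ι =
      (pbOpen f a B' U).ι ≫ ((Over.pullback f).map (sM a g)).left :=
  IsOpenImmersion.lift_fac _ _ _

/-- The sections over the parts over an open. -/
def openSect (U : (pullback a f).Opens) : Sect T R where
  Φ :=
    { obj := fun B => pbU f a U B.unop
      map := fun g => pbUMap f a U g.unop
      map_id := fun B => Over.OverMorphism.ext ((cancel_mono (pbOpen f a B.unop U).ι).1 (by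
        rw [pbUMap_ι, unop_id, sM_id, (Over.pullback f).map_id]
        exact (Category.comp_id _).trans (Category.id_comp _).symm))
      map_comp := fun {A B C} g h => Over.OverMorphism.ext
        ((cancel_mono (pbOpen f a C.unop U).ι).1 (by
          rw [pbUMap_ι, unop_comp, sM_comp, (Over.pullback f).map_comp, Over.comp_left,
            Over.comp_left, Category.assoc, pbUMap_ι, ← Category.assoc, ← Category.assoc,
            pbUMap_ι])) }
  q B := (pbOpen f a B U).ι ≫ pullback.fst (sO a B).hom f
  nat {B B'} g := by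
    show (pbUMap f a U g).left ≫ (pbOpen f a B U).ι ≫ pullback.fst (sO a B).hom f = _
    rw [← Category.assoc, pbUMap_ι, Category.assoc, Category.assoc]
    exact congrArg ((pbOpen f a B' U).ι ≫ ·) (pullback.lift_fst _ _ _)

theorem pbOpen_mono {U V : (pullback a f).Opens} (hle : U ≤ V) (B : Alg R) :
    pbOpen f a B U ≤ pbOpen f a B V :=
  fun _ hz => hle hz

/-- The inclusion of a part over a smaller open. -/
def pbUIncl {U V : (pullback a f).Opens} (hle : U ≤ V) (B : Alg R) : pbU f a U B ⟶ pbU f a V B :=
  Over.homMk ((pb f a B).left.homOfLE (pbOpen_mono f a hle B)) (by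
    show (pb f a B).left.homOfLE (pbOpen_mono f a hle B) ≫ (pbOpen f a B V).ι ≫ (pb f a B).hom =
      (pbOpen f a B U).ι ≫ (pb f a B).hom
    rw [Scheme.homOfLE_ι_assoc])

theorem pbUIncl_ι {U V : (pullback a f).Opens} (hle : U ≤ V) (B : Alg R) :
    (pbUIncl f a hle B).left ≫ (pbOpen f a B V).ι = (pbOpen f a B U).ι :=
  (pb f a B).left.homOfLE_ι (pbOpen_mono f a hle B)

/-- The inclusion of parts over smaller opens. -/
def openHom {U V : (pullback a f).Opens} (hle : U ≤ V) :
    Sect.Hom (openSect f a U) (openSect f a V) where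
  α :=
    { app := fun B => pbUIncl f a hle B.unop
      naturality := fun {A B} g => Over.OverMorphism.ext
        ((cancel_mono (pbOpen f a B.unop V).ι).1 (by
          show ((pbUMap f a U g.unop).left ≫ (pbUIncl f a hle B.unop).left) ≫
              (pbOpen f a B.unop V).ι =
            ((pbUIncl f a hle A.unop).left ≫ (pbUMap f a V g.unop).left) ≫
              (pbOpen f a B.unop V).ι
          rw [Category.assoc, Category.assoc, pbUIncl_ι, pbUMap_ι, pbUMap_ι, ← Category.assoc,
            pbUIncl_ι])) }
  w B := by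
    show (pbUIncl f a hle B).left ≫ (pbOpen f a B V).ι ≫ pullback.fst (sO a B).hom f =
      (pbOpen f a B U).ι ≫ pullback.fst (sO a B).hom f
    rw [← Category.assoc, pbUIncl_ι]

/-- All of the base change. -/
def topHom : Sect.Hom (openSect f a ⊤) (pbSect f a) where
  α :=
    { app := fun B => Over.homMk (pbOpen f a B.unop ⊤).ι rfl
      naturality := fun {A B} g => Over.OverMorphism.ext (pbUMap_ι f a ⊤ g.unop) }
  w B := rfl

instance isIso_topHom (B : Alg R) : IsIso ((topHom f a).α.app (op B)) := by
  haveI : IsIso ((Over.forget T).map ((topHom f a).α.app (op B))) :=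
    inferInstanceAs (IsIso (pb f a B).left.topIso.hom)
  exact isIso_of_reflects_iso _ (Over.forget T)

/-- Sections over the base change are the functor of the direct image. -/
def pbSectIso :
    (pbSect f a).func K ≅ BigSite.pushMod K f ⋙ toMVF K a :=
  NatIso.ofComponents
    (fun M =>
      have : IsIso (mkHom (F := ((pbSect f a).func K).obj M)
          (G := (toMVF K a).obj ((BigSite.pushMod K f).obj M))
          (fun B =>
            { toFun := fun x => x
              map_add' := fun _ _ => rfl
              map_smul' := fun b x => rfl })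
          (fun _ _ => rfl)) := isIso_of_bij _ fun B => Function.bijective_id
      asIso (mkHom (F := ((pbSect f a).func K).obj M)
          (G := (toMVF K a).obj ((BigSite.pushMod K f).obj M))
          (fun B =>
            { toFun := fun x => x
              map_add' := fun _ _ => rfl
              map_smul' := fun b x => rfl })
          (fun _ _ => rfl)))
    (fun {M N} ψ => hom_ext' fun B x => rfl)

end Pullback

end

end Groth.Agent.AdeqLib
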