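import Groth.Agent.AdeqLib.Coker
import Mathlib.Algebra.Homology.ShortComplex.ShortExact
import Mathlib.Algebra.Category.ModuleCat.Presheaf.Colimits

/-!
# Extensions of linearly adequate functors by `uO M` split
-/

set_option autoImplicit false

universe u

open CategoryTheory Limits TensorProduct

namespace Groth.Agent.AdeqLib

open Adeq

noncomputable section

variable {A : Type u} [CommRing A]

/-- The unit of an algebra. -/
def unitHom (B : Alg A) : algOf A A ⟶ B := CommAlgCat.ofHom (Algebra.ofId A B)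

theorem sq_hom_ext {N : ModuleCat.{u} A} {C : Alg A} {p q : Sq N ⟶ C}
    (h : ∀ n, p.hom (sqInr N n) = q.hom (sqInr N n)) : p = q := by
  refine CommAlgCat.hom_ext (AlgHom.ext fun x => ?_)
  rw [← sq_decomp N x, map_add, map_add, h]
  refine congrArg (· + _) ?_
  exact DFunLike.congr_fun (Subsingleton.elim (p.hom.comp (sqInlHom N).hom : A →ₐ[A] C)
    (q.hom.comp (sqInlHom N).hom)) _

theorem sqMap_sqEps {N N' : ModuleCat.{u} A} {B : Alg A} (h : N →ₗ[A] N') (f : N' →ₗ[A] B) :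
    sqMap h ≫ sqEps f = sqEps (f.comp h) :=
  sq_hom_ext fun n => by
    show (sqEps f).hom ((sqMap h).hom (sqInr N n)) = _
    rw [sqMap_inr, sqEps_inr, sqEps_inr]
    rfl

theorem dualEps_fst (B : Alg A) : (dualFst B).hom (dualEps B) = 0 :=
  TrivSqZeroExt.fst_inr (B : Type u) (1 : B)

theorem sqEps_fst {N : ModuleCat.{u} A} {B : Alg A} (f : N →ₗ[A] B) :
    sqEps f ≫ dualFst B = sqFstHom N ≫ unitHom B :=
  sq_hom_ext fun n => by
    show (dualFst B).hom ((sqEps f).hom (sqInr N n)) = (unitHom B).hom ((sqFstHom N).hom (sqInr N n))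
    rw [sqEps_inr, sqFst_inr, map_zero, map_mul,
      dualEps_fst, zero_mul]

theorem sqMap_zero (N N' : ModuleCat.{u} A) :
    sqMap (0 : N →ₗ[A] N') = sqFstHom N ≫ sqInlHom N' :=
  sq_hom_ext fun n => by
    show (sqMap (0 : N →ₗ[A] N')).hom (sqInr N n) = (sqInlHom N').hom ((sqFstHom N).hom (sqInr N n))
    rw [sqMap_inr, sqFst_inr, map_zero, LinearMap.zero_apply, map_zero]

theorem sqMap_id (N : ModuleCat.{u} A) : sqMap (LinearMap.id : N →ₗ[A] N) = 𝟙 (Sq N) :=
  sq_hom_ext fun n => sqMap_inr LinearMap.id n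

/-- The map of dual numbers sending `ε` to `c ε`, over a map of algebras. -/
def dualMap {B B' : Alg A} (h : B ⟶ B') (c : B') : Dual B ⟶ Dual B' :=
  CommAlgCat.ofHom (TrivSqZeroExt.lift ((dualInl B').hom.comp h.hom)
    (((TrivSqZeroExt.inrHom B' B').restrictScalars A).comp
      ((LinearMap.mulLeft A c).comp h.hom.toLinearMap))
    (fun _ _ => TrivSqZeroExt.inr_mul_inr _ _ _)
    (fun r x => by
      show TrivSqZeroExt.inr (c * h.hom (r * x)) =
        (TrivSqZeroExt.inl (h.hom r) : DualNumber B') * TrivSqZeroExt.inr (c * h.hom x)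
      rw [TrivSqZeroExt.inl_mul_inr, smul_eq_mul, map_mul, mul_left_comm])
    (fun r x => by
      show TrivSqZeroExt.inr (c * h.hom (x * r)) =
        (TrivSqZeroExt.inr (c * h.hom x) : DualNumber B') * TrivSqZeroExt.inl (h.hom r)
      rw [TrivSqZeroExt.inr_mul_inl, op_smul_eq_smul, smul_eq_mul, map_mul]
      refine congrArg TrivSqZeroExt.inr ?_
      rw [mul_comm (h.hom r), mul_assoc]))

theorem dualMap_inl_apply {B B' : Alg A} (h : B ⟶ B') (c : B') (b : B) :
    (dualMap h c).hom ((dualInl B).hom b) = (dualInl B').hom (h.hom b) := by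
  show (TrivSqZeroExt.inl (h.hom b) : DualNumber B') + TrivSqZeroExt.inr (c * h.hom 0) =
    TrivSqZeroExt.inl (h.hom b)
  rw [map_zero, mul_zero, TrivSqZeroExt.inr_zero, add_zero]

theorem dualMap_inl {B B' : Alg A} (h : B ⟶ B') (c : B') :
    dualInl B ≫ dualMap h c = h ≫ dualInl B' :=
  CommAlgCat.hom_ext (AlgHom.ext fun b => dualMap_inl_apply h c b)

theorem dualMap_eps {B B' : Alg A} (h : B ⟶ B') (c : B') :
    (dualMap h c).hom (dualEps B) = dualEps B' * (dualInl B').hom c := by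
  refine Eq.trans ?_ (eps_mul_inl (S := (B' : Type u)) c).symm
  show (TrivSqZeroExt.inl (h.hom 0) : DualNumber B') + TrivSqZeroExt.inr (c * h.hom 1) =
    TrivSqZeroExt.inr c
  rw [map_zero, map_one, mul_one, TrivSqZeroExt.inl_zero, zero_add]

theorem sqEps_dualMap {N : ModuleCat.{u} A} {B B' : Alg A} (f : N →ₗ[A] B) (h : B ⟶ B') (c : B') :
    sqEps f ≫ dualMap h c = sqEps ((LinearMap.mulLeft A c).comp (h.hom.toLinearMap.comp f)) :=
  sq_hom_ext fun n => by
    show (dualMap h c).hom ((sqEps f).hom (sqInr N n)) = _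
    rw [sqEps_inr, sqEps_inr, map_mul, dualMap_eps,
      dualMap_inl_apply, mul_assoc, ← map_mul]
    rfl

theorem dual_decomp (B : Alg A) (x : Dual B) :
    (dualInl B).hom ((dualFst B).hom x) + dualEps B * (dualInl B).hom (dualSnd B x) = x :=
  (congrArg _ (eps_mul_inl (S := (B : Type u)) _)).trans (TrivSqZeroExt.inl_fst_add_inr_snd_eq x)

theorem dualInl_fst (B : Alg A) : dualInl B ≫ dualFst B = 𝟙 B :=
  CommAlgCat.hom_ext (AlgHom.ext fun b => TrivSqZeroExt.fst_inl (B : Type u) b)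

/-- The tangent map `x ↦ ε x`. -/
def epsMap (F : MVF A) (B : Alg A) : F.obj (pt B) →+ F.obj (pt (Dual B)) where
  toFun x := dualEps B • tr F (dualInl B) x
  map_zero' := by rw [map_zero, smul_zero]
  map_add' x y := by rw [map_add, smul_add]

theorem ap_epsMap {F G : MVF A} (φ : F ⟶ G) (B : Alg A) (x : F.obj (pt B)) :
    ap φ (Dual B) (epsMap F B x) = epsMap G B (ap φ B x) := by
  show ap φ (Dual B) (dualEps B • tr F (dualInl B) x) = dualEps B • tr G (dualInl B) (ap φ B x)
  rw [map_smul, ap_tr]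

theorem tr_dualFst_epsMap (F : MVF A) (B : Alg A) (x : F.obj (pt B)) :
    tr F (dualFst B) (epsMap F B x) = 0 := by
  show tr F (dualFst B) (dualEps B • tr F (dualInl B) x) = 0
  rw [tr_smul, dualEps_fst, zero_smul]

theorem tr_dualMap_epsMap (F : MVF A) {B B' : Alg A} (h : B ⟶ B') (c : B') (x : F.obj (pt B)) :
    tr F (dualMap h c) (epsMap F B x) = epsMap F B' (c • tr F h x) := by
  show tr F (dualMap h c) (dualEps B • tr F (dualInl B) x) =
    dualEps B' • tr F (dualInl B') (c • tr F h x)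
  rw [tr_smul, ← tr_comp, dualMap_inl, tr_comp, tr_smul, dualMap_eps, mul_smul]

/-- The tangent module at `B` consists exactly of the `ε x`. -/
def TangentIso (F : MVF A) : Prop :=
  ∀ B : Alg A, Function.Injective (epsMap F B) ∧
    ∀ w, tr F (dualFst B) w = 0 → ∃ x, epsMap F B x = w

theorem tangentIso_of_adequate {F : MVF A} (hF : adequate A F) : TangentIso F := by
  obtain ⟨M, N, g, j, hj⟩ := adequate_iff.mp hF
  intro B
  let μ : B →ₗ[A] Dual B :=
    (LinearMap.mulLeft A (dualEps B)).comp (dualInl B).hom.toLinearMap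
  have hμ : ∀ x, emb j (Dual B) (epsMap F B x) = μ.rTensor M (emb j B x) := fun x => by
    show emb j (Dual B) (dualEps B • tr F (dualInl B) x) = _
    rw [map_smul, emb_tr, smul_rTensor]
  have hret : ∀ {P : Type (u + 1)} [AddCommGroup P] [Module A P] (y : B ⊗[A] P),
      (dualSnd B).rTensor P (μ.rTensor P y) = y := fun y => by
    rw [← LinearMap.rTensor_comp_apply,
      show (dualSnd B).comp μ = LinearMap.id from LinearMap.ext fun b => dualSnd_eps_mul B b,
      LinearMap.rTensor_id_apply]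
  refine ⟨fun x y h => hj.inj B ?_, fun w hw => ?_⟩
  · rw [← hret (emb j B x), ← hμ, h, hμ, hret]
  · have h0 : (dualFst B).hom.toLinearMap.rTensor M (emb j (Dual B) w) = 0 := by
      rw [← emb_tr, hw, map_zero]
    have hdec : μ.rTensor M ((dualSnd B).rTensor M (emb j (Dual B) w)) = emb j (Dual B) w := by
      have hid : LinearMap.id =
          (dualInl B).hom.toLinearMap.comp (dualFst B).hom.toLinearMap + μ.comp (dualSnd B) :=
        LinearMap.ext fun x => (dual_decomp B x).symm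
      conv_rhs => rw [← LinearMap.id_apply (R := A) (emb j (Dual B) w),
        ← LinearMap.rTensor_id M (Dual B : Type u), hid, LinearMap.rTensor_add, LinearMap.add_apply,
        LinearMap.rTensor_comp_apply, h0, map_zero, zero_add, LinearMap.rTensor_comp_apply]
    have hg : g.hom.baseChange B ((dualSnd B).rTensor M (emb j (Dual B) w)) = 0 := by
      rw [LinearMap.baseChange_eq_ltensor, lTensor_rTensor_apply]
      exact (congrArg _ (hj.comp_zero (Dual B) w)).trans (map_zero _)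
    obtain ⟨x, hx⟩ := (hj.exact B _).mp hg
    exact ⟨x, hj.inj _ (by rw [hμ, hx, hdec])⟩

/-- Pointwise form of a short exact sequence. -/
theorem shortExact_ap {S : ShortComplex (MVF A)} (hS : S.ShortExact) (B : Alg A) :
    Function.Injective (ap S.f B) ∧ Function.Exact (ap S.f B) (ap S.g B) ∧
      Function.Surjective (ap S.g B) := by
  have : (PresheafOfModules.evaluation.{u + 1} (ringOf A) (pt B)).Additive :=
    ⟨fun {F G f g} => rfl⟩
  have : PreservesFiniteLimits (PresheafOfModules.evaluation.{u + 1} (ringOf A) (pt B)) :=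
    PresheafOfModules.evaluation_preservesFiniteLimits.{u + 1} (R := ringOf A) (pt B)
  have : PreservesFiniteColimits (PresheafOfModules.evaluation.{u + 1} (ringOf A) (pt B)) :=
    PresheafOfModules.Finite.evaluation_preservesFiniteColimits.{u + 1} (R := ringOf A) (pt B)
  have h := hS.map_of_exact (PresheafOfModules.evaluation.{u + 1} (ringOf A) (pt B))
  refine ⟨h.moduleCat_injective_f, fun z => ⟨fun hz =>
    (ShortComplex.moduleCat_exact_iff _).1 h.exact z hz, ?_⟩, h.moduleCat_surjective_g⟩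
  rintro ⟨x, rfl⟩
  exact DFunLike.congr_fun (congrArg (fun t => ap t B) S.zero) x

theorem tangentIso_ext {S : ShortComplex (MVF A)} (hS : S.ShortExact) (h₁ : TangentIso S.X₁)
    (h₃ : TangentIso S.X₃) : TangentIso S.X₂ := by
  intro B
  obtain ⟨i, e, s⟩ := shortExact_ap hS B
  obtain ⟨i', e', -⟩ := shortExact_ap hS (Dual B)
  refine ⟨(injective_iff_map_eq_zero _).mpr fun x hx => ?_, fun w hw => ?_⟩
  · have h : ap S.g B x = 0 := (h₃ B).1 (by rw [← ap_epsMap, hx, map_zero, map_zero])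
    obtain ⟨y, rfl⟩ := (e x).mp h
    rw [← ap_epsMap] at hx
    have hy : epsMap S.X₁ B y = 0 := i' (hx.trans (map_zero _).symm)
    rw [(h₁ B).1 (hy.trans (map_zero _).symm), map_zero]
  · obtain ⟨x₃, hx₃⟩ := (h₃ B).2 (ap S.g (Dual B) w) (by rw [← ap_tr, hw, map_zero])
    obtain ⟨x, rfl⟩ := s x₃
    obtain ⟨w₁, hw₁⟩ := (e' (w - epsMap S.X₂ B x)).mp
      (by rw [map_sub, ap_epsMap, hx₃, sub_self])
    obtain ⟨x₁, hx₁⟩ := (h₁ B).2 w₁ (i (by
      rw [ap_tr, hw₁, map_sub, hw, tr_dualFst_epsMap, sub_zero, map_zero]))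
    refine ⟨x + ap S.f B x₁, ?_⟩
    rw [map_add, ← ap_epsMap, hx₁, hw₁, add_sub_cancel]

/-- An element killed by both projections and the augmentation vanishes. -/
theorem eq_zero_of_proj {F : MVF A} {M : ModuleCat.{u + 1} A} {j : F ⟶ uO M}
    (hj : ∀ B, Function.Injective (emb j B)) {N : ModuleCat.{u} A}
    (w : F.obj (pt (Sq (ModuleCat.of A (N × N)))))
    (h0 : tr F (sqFstHom _) w = 0)
    (h1 : tr F (sqMap (N := ModuleCat.of A (N × N)) (LinearMap.fst A N N)) w = 0)
    (h2 : tr F (sqMap (N := ModuleCat.of A (N × N)) (LinearMap.snd A N N)) w = 0) : w = 0 := by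
  let NN : ModuleCat.{u} A := ModuleCat.of A (N × N)
  refine hj _ ?_
  have hs := sq_split (emb j (Sq NN) w) (by rw [← emb_tr, h0, map_zero])
  have hp : ∀ (p : NN →ₗ[A] N), tr F (sqMap p) w = 0 →
      p.rTensor M ((sqSnd NN).rTensor M (emb j (Sq NN) w)) = 0 := fun p hp => by
    rw [← LinearMap.rTensor_comp_apply,
      show p.comp (sqSnd NN) = (sqSnd N).comp (sqMap p).hom.toLinearMap from
        LinearMap.ext fun s => (sqSnd_map p s).symm,
      LinearMap.rTensor_comp_apply, ← emb_tr, hp, map_zero, map_zero]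
  have hid : (LinearMap.inl A N N).comp (LinearMap.fst A N N) +
      (LinearMap.inr A N N).comp (LinearMap.snd A N N) = (LinearMap.id : (N × N) →ₗ[A] _) :=
    LinearMap.ext fun x => by simp
  have hy : (sqSnd NN).rTensor M (emb j (Sq NN) w) = 0 := by
    rw [← LinearMap.rTensor_id_apply M (N × N : Type u) ((sqSnd NN).rTensor M (emb j (Sq NN) w)),
      ← hid, LinearMap.rTensor_add, LinearMap.add_apply, LinearMap.rTensor_comp_apply,
      LinearMap.rTensor_comp_apply, hp _ h1, hp _ h2, map_zero, map_zero, add_zero]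
  rw [← hs, hy, map_zero, map_zero]

/-- The universal element of a linearly adequate functor. -/
theorem IsKer.exists_universal {F : MVF A} {P P' : ModuleCat.{u + 1} A} [Module.Finite A P]
    [Module.Free A P] [Module.Finite A P'] [Module.Free A P'] {j : F ⟶ uO P} {a : P ⟶ P'}
    (hj : IsKer j a) :
    ∃ (Q : ModuleCat.{u} A) (z : F.obj (pt (Sq Q))), tr F (sqFstHom Q) z = 0 ∧
      ∀ (B : Alg A) (x : F.obj (pt B)), ∃! f : Q →ₗ[A] B, (f.comp (sqSnd Q)).rTensor P (emb j (Sq Q) z) = emb j B x := by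
  classical
  let I := Module.Free.ChooseBasisIndex A P
  let L := Module.Free.ChooseBasisIndex A P'
  let b : Module.Basis (Fin (Fintype.card I)) A P :=
    (Module.Free.chooseBasis A P).reindex (Fintype.equivFin I)
  let c : Module.Basis L A P' := Module.Free.chooseBasis A P'
  let rel : L → Fin (Fintype.card I) → A := fun l i => c.repr (a.hom (b i)) l
  let K : Submodule A (Fin (Fintype.card I) → A) := LinearMap.range (famMap (A := A) rel)
  let Q : ModuleCat.{u} A := ModuleCat.of A ((Fin (Fintype.card I) → A) ⧸ K)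
  let ξ : Fin (Fintype.card I) → Q := fun i => K.mkQ (Pi.single i 1)
  have hξ : ∀ l, ∑ i, rel l i • ξ i = 0 := fun l => by
    show ∑ i, rel l i • K.mkQ (Pi.single i 1) = 0
    simp only [← map_smul, ← map_sum]
    refine (Submodule.Quotient.mk_eq_zero _).mpr ⟨Pi.single l 1, ?_⟩
    rw [famMap_single, one_smul]
    exact funext fun i => by simp [Finset.sum_apply, Pi.single_apply]
  have hy : a.hom.lTensor Q (∑ i, ξ i ⊗ₜ[A] b i) = 0 := by
    rw [map_sum]
    calc ∑ i, a.hom.lTensor Q (ξ i ⊗ₜ[A] b i)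
        = ∑ i, ∑ l, (rel l i • ξ i) ⊗ₜ[A] c l := by
          refine Finset.sum_congr rfl fun i _ => ?_
          rw [LinearMap.lTensor_tmul]
          conv_lhs => rw [← c.sum_repr (a.hom (b i))]
          simp only [tmul_sum, tmul_smul, smul_tmul', rel]
      _ = ∑ l, (∑ i, rel l i • ξ i) ⊗ₜ[A] c l := by
          rw [Finset.sum_comm]
          simp only [sum_tmul]
      _ = 0 := Finset.sum_eq_zero fun l _ => by rw [hξ, zero_tmul]
  obtain ⟨z, hz⟩ := hj.exists_sq _ hy
  have hcoord : ∀ (B : Alg A) (w : Fin (Fintype.card I) → B) k,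
      TensorProduct.rid A (B : Type u) ((b.coord k).lTensor B (∑ i, w i ⊗ₜ[A] b i)) = w k := by
    intro B w k
    simp [map_sum, Finsupp.single_apply]
  have hval : ∀ (B : Alg A) (f : Q →ₗ[A] B),
      (f.comp (sqSnd Q)).rTensor P (emb j (Sq Q) z) = ∑ i, f (ξ i) ⊗ₜ[A] b i := by
    intro B f
    rw [hz, ← LinearMap.rTensor_comp_apply, LinearMap.comp_assoc,
      show (sqSnd Q).comp (sqInr Q) = LinearMap.id from LinearMap.ext (sqSnd_inr Q),
      LinearMap.comp_id, map_sum]
    rfl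
  refine ⟨Q, z, hj.inj _ ?_, fun B x => ?_⟩
  · rw [emb_tr, hz, ← LinearMap.rTensor_comp_apply,
      show (sqFstHom Q).hom.toLinearMap.comp (sqInr Q) = 0 from LinearMap.ext (sqFst_inr Q),
      LinearMap.rTensor_zero, LinearMap.zero_apply, map_zero]
  obtain ⟨v, hv⟩ := exists_basis_sum b (emb j B x)
  have hrel : ∀ l, ∑ i, rel l i • v i = 0 := fun l => by
    have h1 : a.hom.lTensor B (emb j B x) = 0 := hj.comp_zero B x
    rw [hv] at h1
    have h2 := congrArg (fun w => TensorProduct.rid A (B : Type u) ((c.coord l).lTensor B w)) h1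
    simp only [map_sum, LinearMap.lTensor_tmul, TensorProduct.rid_tmul, map_zero,
      Module.Basis.coord_apply] at h2
    exact h2
  have hle : K ≤ LinearMap.ker (famMap v) := by
    rintro _ ⟨w, rfl⟩
    rw [LinearMap.mem_ker, famMap_apply (A := A) rel, map_sum]
    refine Finset.sum_eq_zero fun l _ => ?_
    rw [map_smul, famMap_apply, hrel, smul_zero]
  have hfξ : ∀ i, Submodule.liftQ K (famMap v) hle (ξ i) = v i := fun i => by
    show Submodule.liftQ K (famMap v) hle (Submodule.Quotient.mk (Pi.single i 1)) = v i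
    rw [Submodule.liftQ_apply, famMap_single, one_smul]
  refine ⟨Submodule.liftQ K (famMap v) hle, ?_, fun f hf => ?_⟩
  · show LinearMap.rTensor P ((Submodule.liftQ K (famMap v) hle).comp (sqSnd Q)) _ = _
    rw [hv]
    exact (hval B _).trans (Finset.sum_congr rfl fun i _ => by rw [hfξ])
  · simp only [hval, hv] at hf
    refine Submodule.linearMap_qext _ (LinearMap.pi_ext' fun i => LinearMap.ext_ring ?_)
    show f (ξ i) = Submodule.liftQ K (famMap v) hle (ξ i)
    rw [hfξ, ← hcoord B (fun i => f (ξ i)) i, hf, hcoord]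

/-- Additivity of the induced tangent elements. -/
theorem tr_sqEps_add {S : ShortComplex (MVF A)} (hS : S.ShortExact) {M₁ M₃ : ModuleCat.{u + 1} A}
    {j₁ : S.X₁ ⟶ uO M₁} (hj₁ : ∀ B, Function.Injective (emb j₁ B)) {j₃ : S.X₃ ⟶ uO M₃}
    (hj₃ : ∀ B, Function.Injective (emb j₃ B)) {Q : ModuleCat.{u} A}
    (el : S.X₂.obj (pt (Sq Q))) (hel0 : tr S.X₂ (sqFstHom Q) el = 0)
    (B : Alg A) (p q : Q →ₗ[A] B) :
    tr S.X₂ (sqEps (p + q)) el = tr S.X₂ (sqEps p) el + tr S.X₂ (sqEps q) el := by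
  let QQ : ModuleCat.{u} A := ModuleCat.of A (Q × Q)
  let di : Q →ₗ[A] QQ := LinearMap.prod LinearMap.id LinearMap.id
  let i₁ : Q →ₗ[A] QQ := LinearMap.inl A Q Q
  let i₂ : Q →ₗ[A] QQ := LinearMap.inr A Q Q
  let p₁ : QQ →ₗ[A] Q := LinearMap.fst A Q Q
  let p₂ : QQ →ₗ[A] Q := LinearMap.snd A Q Q
  have hcomp : ∀ {N N' N'' : ModuleCat.{u} A} (h : N →ₗ[A] N') (k : N' →ₗ[A] N'')
      (w : S.X₂.obj (pt (Sq N))),
      tr S.X₂ (sqMap k) (tr S.X₂ (sqMap h) w) = tr S.X₂ (sqMap (k.comp h)) w :=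
    fun h k w => by rw [sqMap_comp, tr_comp]
  have hzero : ∀ (N : ModuleCat.{u} A),
      tr S.X₂ (sqMap (0 : Q →ₗ[A] N)) el = 0 := fun N => by
    rw [sqMap_zero, tr_comp, hel0, map_zero]
  let d := tr S.X₂ (sqMap di) el - tr S.X₂ (sqMap i₁) el - tr S.X₂ (sqMap i₂) el
  have hd0 : tr S.X₂ (sqFstHom QQ) d = 0 := by
    simp only [d, map_sub, ← tr_comp, sqMap_fst, hel0, sub_self]
  have hd1 : tr S.X₂ (sqMap p₁) d = 0 := by
    simp only [d, map_sub, hcomp]
    rw [show p₁.comp di = LinearMap.id from rfl, show p₁.comp i₁ = LinearMap.id from rfl,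
      show p₁.comp i₂ = 0 from rfl, hzero, sub_self, sub_zero]
  have hd2 : tr S.X₂ (sqMap p₂) d = 0 := by
    simp only [d, map_sub, hcomp]
    rw [show p₂.comp di = LinearMap.id from rfl, show p₂.comp i₁ = 0 from rfl,
      show p₂.comp i₂ = LinearMap.id from rfl, hzero, sub_zero, sub_self]
  have hg : ap S.g (Sq QQ) d = 0 := eq_zero_of_proj hj₃ _
    (by rw [← ap_tr, hd0, map_zero]) (by rw [← ap_tr, hd1, map_zero])
    (by rw [← ap_tr, hd2, map_zero])
  obtain ⟨d₁, hd₁⟩ := ((shortExact_ap hS (Sq QQ)).2.1 d).mp hg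
  have hd : d = 0 := by
    rw [← hd₁, eq_zero_of_proj hj₁ d₁ ((shortExact_ap hS _).1
        (by rw [ap_tr, hd₁, hd0, map_zero]))
      ((shortExact_ap hS _).1 (by rw [ap_tr, hd₁, hd1, map_zero]))
      ((shortExact_ap hS _).1 (by rw [ap_tr, hd₁, hd2, map_zero])), map_zero]
  have hfin := congrArg (tr S.X₂ (sqEps (p.coprod q : QQ →ₗ[A] B))) hd
  simp only [d, map_sub, map_zero, ← tr_comp, sqMap_sqEps] at hfin
  rw [show (p.coprod q).comp di = p + q from LinearMap.ext fun x => rfl,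
    show (p.coprod q).comp i₁ = p from LinearMap.coprod_inl p q,
    show (p.coprod q).comp i₂ = q from LinearMap.coprod_inr p q] at hfin
  rw [sub_sub, sub_eq_zero] at hfin
  exact hfin

/-- Maps out of linearly adequate functors lift along extensions of adequate functors. -/
theorem exists_lift {S : ShortComplex (MVF A)} (hS : S.ShortExact) (h₁ : adequate A S.X₁)
    (h₃ : adequate A S.X₃) {L : MVF A} {P P' : ModuleCat.{u + 1} A} [Module.Finite A P]
    [Module.Free A P] [Module.Finite A P'] [Module.Free A P'] {j : L ⟶ uO P} {a : P ⟶ P'}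
    (hj : IsKer j a) (ψ : L ⟶ S.X₃) : ∃ s : L ⟶ S.X₂, s ≫ S.g = ψ := by
  classical
  have ht₃ : TangentIso S.X₃ := tangentIso_of_adequate h₃
  have ht := tangentIso_ext hS (tangentIso_of_adequate h₁) ht₃
  obtain ⟨M₁, N₁, g₁, j₁, hj₁⟩ := adequate_iff.mp h₁
  obtain ⟨M₃, N₃, g₃, j₃, hj₃⟩ := adequate_iff.mp h₃
  obtain ⟨Q, z, hz0, hzu⟩ := hj.exists_universal
  obtain ⟨e₀, he₀⟩ := (shortExact_ap hS (Sq Q)).2.2 (ap ψ (Sq Q) z)
  let el : S.X₂.obj (pt (Sq Q)) := e₀ - tr S.X₂ (sqInlHom Q) (tr S.X₂ (sqFstHom Q) e₀)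
  have hel0 : tr S.X₂ (sqFstHom Q) el = 0 := by
    rw [map_sub, ← tr_comp S.X₂ (sqInlHom Q) (sqFstHom Q), sqInl_fst, tr_id, sub_self]
  have helg : ap S.g (Sq Q) el = ap ψ (Sq Q) z := by
    rw [map_sub, ap_tr, ap_tr, he₀, ← ap_tr ψ, hz0, map_zero, map_zero, sub_zero]
  choose f hf hf' using hzu
  have hex : ∀ (B : Alg A) (x : L.obj (pt B)),
      ∃ y, epsMap S.X₂ B y = tr S.X₂ (sqEps (f B x)) el :=
    fun B x => (ht B).2 _ (by rw [← tr_comp, sqEps_fst, tr_comp, hel0, map_zero])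
  choose σ hσ using hex
  have hadd := tr_sqEps_add hS hj₁.inj hj₃.inj el hel0
  have σadd : ∀ B x y, σ B (x + y) = σ B x + σ B y := fun B x y => (ht B).1 (by
    rw [map_add, hσ, hσ, hσ, ← hadd]
    refine congrArg (fun l => tr S.X₂ (sqEps l) el) (hf' B (x + y) _ ?_).symm
    show LinearMap.rTensor P ((f B x + f B y).comp (sqSnd Q)) _ = _
    rw [LinearMap.add_comp, LinearMap.rTensor_add, LinearMap.add_apply, hf, hf, map_add])
  have σnat : ∀ {B B' : Alg A} (h : B ⟶ B') (c : B') x,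
      σ B' (c • tr L h x) = c • tr S.X₂ h (σ B x) := fun {B B'} h c x => (ht B').1 (by
    rw [← tr_dualMap_epsMap, hσ, hσ, ← tr_comp, sqEps_dualMap]
    refine congrArg (fun l => tr S.X₂ (sqEps l) el) (hf' B' _ _ ?_).symm
    show LinearMap.rTensor P
      (((LinearMap.mulLeft A c).comp (h.hom.toLinearMap.comp (f B x))).comp (sqSnd Q)) _ = _
    rw [LinearMap.comp_assoc, LinearMap.comp_assoc, LinearMap.rTensor_comp_apply,
      LinearMap.rTensor_comp_apply, hf, map_smul, emb_tr, smul_rTensor,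
      LinearMap.rTensor_comp_apply])
  let s : L ⟶ S.X₂ := mkHom
    (fun B =>
      { toFun := σ B
        map_add' := σadd B
        map_smul' := fun b x => by
          have h := σnat (𝟙 B) b x
          rw [tr_id, tr_id] at h
          exact h })
    (fun {X Y} h x => by
      have h' := σnat h 1 x
      rw [one_smul, one_smul] at h'
      exact h')
  have hzx : ∀ (B : Alg A) (x : L.obj (pt B)), tr L (sqEps (f B x)) z = epsMap L B x := by
    intro B x
    refine hj.inj _ ?_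
    show emb j (Dual B) (tr L (sqEps (f B x)) z) =
      emb j (Dual B) (dualEps B • tr L (dualInl B) x)
    rw [map_smul, emb_tr, emb_tr, smul_rTensor,
      ← sq_split (emb j (Sq Q) z) (by rw [← emb_tr, hz0, map_zero]),
      ← LinearMap.rTensor_comp_apply, ← hf B x, ← LinearMap.rTensor_comp_apply,
      ← LinearMap.rTensor_comp_apply]
    refine congrArg (fun l : Sq Q →ₗ[A] Dual B => l.rTensor P (emb j (Sq Q) z))
      (LinearMap.ext fun w => ?_)
    exact sqEps_inr (f B x) (sqSnd Q w)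
  refine ⟨s, hom_ext' fun B x => (ht₃ B).1 ?_⟩
  show epsMap S.X₃ B (ap S.g B (σ B x)) = epsMap S.X₃ B (ap ψ B x)
  rw [← ap_epsMap, hσ, ap_tr, helg, ← ap_tr, hzx, ap_epsMap]

/-- A split extension of adequate functors is adequate. -/
theorem adequate_of_splitting {S : ShortComplex (MVF A)} (σ : S.Splitting)
    (h₁ : adequate A S.X₁) (h₃ : adequate A S.X₃) : adequate A S.X₂ := by
  obtain ⟨M, N, g, j, hj⟩ := adequate_iff.mp h₁
  obtain ⟨M', N', g', j', hj'⟩ := adequate_iff.mp h₃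
  let i₁ : M ⟶ ModuleCat.of A (M × M') := ModuleCat.ofHom (LinearMap.inl A M M')
  let i₂ : M' ⟶ ModuleCat.of A (M × M') := ModuleCat.ofHom (LinearMap.inr A M M')
  let G : ModuleCat.of A (M × M') ⟶ ModuleCat.of A (N × N') :=
    ModuleCat.ofHom ((g.hom.comp (LinearMap.fst A M M')).prod
      (g'.hom.comp (LinearMap.snd A M M')))
  let J : S.X₂ ⟶ uO (ModuleCat.of A (M × M')) :=
    σ.r ≫ j ≫ (underline A).map i₁ + S.g ≫ j' ≫ (underline A).map i₂
  have hJ : ∀ (B : Alg A) (x : S.X₂.obj (pt B)), emb J B x = (LinearMap.inl A M M').lTensor B (emb j B (ap σ.r B x)) +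
      (LinearMap.inr A M M').lTensor B (emb j' B (ap S.g B x)) := fun B x => by
    rw [emb_apply, ap_add, map_add]
    rfl
  have hfst : ∀ (B : Alg A) (x : S.X₂.obj (pt B)), (LinearMap.fst A M M').lTensor B (emb J B x) = emb j B (ap σ.r B x) :=
    fun B x => by
      rw [hJ, map_add, ← LinearMap.lTensor_comp_apply, ← LinearMap.lTensor_comp_apply,
        LinearMap.fst_comp_inl, LinearMap.fst_comp_inr, LinearMap.lTensor_id_apply,
        LinearMap.lTensor_zero, LinearMap.zero_apply, add_zero]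
  have hsnd : ∀ (B : Alg A) (x : S.X₂.obj (pt B)), (LinearMap.snd A M M').lTensor B (emb J B x) = emb j' B (ap S.g B x) :=
    fun B x => by
      rw [hJ, map_add, ← LinearMap.lTensor_comp_apply, ← LinearMap.lTensor_comp_apply,
        LinearMap.snd_comp_inl, LinearMap.snd_comp_inr, LinearMap.lTensor_id_apply,
        LinearMap.lTensor_zero, LinearMap.zero_apply, zero_add]
  have hid : ∀ (B : Alg A) (x : S.X₂.obj (pt B)), ap S.f B (ap σ.r B x) + ap σ.s B (ap S.g B x) = x :=
    fun B x => DFunLike.congr_fun (congrArg (fun t => ap t B) σ.id) x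
  refine adequate_iff.mpr ⟨_, _, G, J, fun B x y h => ?_, fun B w => ⟨fun hw => ?_, ?_⟩⟩
  · have h1 : ap σ.r B x = ap σ.r B y := hj.inj B (by rw [← hfst, h, hfst])
    have h2 : ap S.g B x = ap S.g B y := hj'.inj B (by rw [← hsnd, h, hsnd])
    rw [← hid B x, h1, h2, hid]
  · obtain ⟨hw1, hw2⟩ := (prod_lTensor_eq_zero _ _ w).mp hw
    rw [LinearMap.lTensor_comp_apply] at hw1 hw2
    obtain ⟨x₁, hx₁⟩ := (hj.exact B _).mp hw1
    obtain ⟨x₃, hx₃⟩ := (hj'.exact B _).mp hw2
    refine ⟨ap S.f B x₁ + ap σ.s B x₃, ?_⟩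
    have a1 : ap σ.r B (ap S.f B x₁) = x₁ :=
      DFunLike.congr_fun (congrArg (fun t => ap t B) σ.f_r) x₁
    have a2 : ap σ.r B (ap σ.s B x₃) = 0 :=
      DFunLike.congr_fun (congrArg (fun t => ap t B) σ.s_r) x₃
    have a3 : ap S.g B (ap S.f B x₁) = 0 :=
      DFunLike.congr_fun (congrArg (fun t => ap t B) S.zero) x₁
    have a4 : ap S.g B (ap σ.s B x₃) = x₃ :=
      DFunLike.congr_fun (congrArg (fun t => ap t B) σ.s_g) x₃
    rw [hJ, map_add (ap σ.r B), map_add (ap S.g B), a1, a2, a3, a4, add_zero, zero_add, hx₁, hx₃]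
    exact lTensor_prod_ext w
  · rintro ⟨x, rfl⟩
    refine (prod_lTensor_eq_zero _ _ _).mpr ⟨?_, ?_⟩
    · rw [LinearMap.lTensor_comp_apply, hfst]
      exact hj.comp_zero B _
    · rw [LinearMap.lTensor_comp_apply, hsnd]
      exact hj'.comp_zero B _

/-- Elements of a biproduct split. -/
theorem biprod_decomp (X Y : MVF A) (B : Alg A) (w : (X ⊞ Y).obj (pt B)) :
    ap (biprod.inl : X ⟶ X ⊞ Y) B (ap (biprod.fst : X ⊞ Y ⟶ X) B w) +
      ap (biprod.inr : Y ⟶ X ⊞ Y) B (ap (biprod.snd : X ⊞ Y ⟶ Y) B w) = w := by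
  rw [← ap_comp, ← ap_comp, ← ap_add, biprod.total]
  rfl

/-- A pointwise criterion for a cokernel out of a biproduct. -/
theorem isIso_cokernel_biprod {K X Y Z : MVF A} (τ : K ⟶ X) (ι : K ⟶ Y) (f : X ⟶ Z) (ω : Y ⟶ Z)
    (h : biprod.lift (-τ) ι ≫ biprod.desc f ω = 0) (hf : ∀ B, Function.Injective (ap f B))
    (hk : ∀ (B : Alg A) (a : X.obj (pt B)) (c : Y.obj (pt B)),
      ap f B a + ap ω B c = 0 → ∃ k, ap ι B k = c)
    (hτ : τ ≫ f = ι ≫ ω)
    (hs : ∀ (B : Alg A) (y : Z.obj (pt B)), ∃ a c, ap f B a + ap ω B c = y) :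
    IsIso (cokernel.desc (biprod.lift (-τ) ι) (biprod.desc f ω) h) := by
  refine isIso_of_bij _ fun B => ⟨(injective_iff_map_eq_zero _).mpr fun z hz => ?_, fun y => ?_⟩
  · obtain ⟨w, rfl⟩ := surj_of_epi (cokernel.π (biprod.lift (-τ) ι)) B z
    rw [← ap_comp, cokernel.π_desc, biprod.desc_eq, ap_add, ap_comp, ap_comp] at hz
    obtain ⟨k, hk'⟩ := hk B _ _ hz
    have hw₁ : ap (-τ) B k = ap (biprod.fst : X ⊞ Y ⟶ X) B w := hf B (by
      rw [ap_neg, map_neg, ← ap_comp, hτ, ap_comp, hk']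
      exact (eq_neg_of_add_eq_zero_left hz).symm)
    have hw : ap (biprod.lift (-τ) ι) B k = w := by
      rw [biprod.lift_eq, ap_add, ap_comp, ap_comp, hw₁, hk']
      exact biprod_decomp X Y B w
    rw [← hw, ← ap_comp, cokernel.condition, ap_zero]
  · obtain ⟨a, c, rfl⟩ := hs B y
    refine ⟨ap (cokernel.π _) B
      (ap (biprod.inl : X ⟶ X ⊞ Y) B a + ap (biprod.inr : Y ⟶ X ⊞ Y) B c), ?_⟩
    rw [← ap_comp, cokernel.π_desc, map_add, ← ap_comp, ← ap_comp, biprod.inl_desc, biprod.inr_desc]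

/-- An extension of adequate functors is adequate. -/
theorem adequate_ext {S : ShortComplex (MVF A)} (hS : S.ShortExact) (h₁ : adequate A S.X₁)
    (h₃ : adequate A S.X₃) : adequate A S.X₂ := by
  classical
  obtain ⟨ι, P, P', i1, i2, i3, i4, a, φ, hcov⟩ := exists_linAdequate_cover h₃
  choose σ hσ using fun i => exists_lift hS h₁ h₃ (isKer_kernel (a i)) (φ i)
  obtain ⟨c, t, hc⟩ := exists_adequate_cofan (fun i => kernel ((underline A).map (a i)))
    (fun i => ⟨P i, P' i, a i, ⟨Iso.refl _⟩⟩)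
  let π : c.pt ⟶ S.X₃ := Cofan.IsColimit.desc t φ
  let ω : c.pt ⟶ S.X₂ := Cofan.IsColimit.desc t σ
  have hω : ω ≫ S.g = π := Cofan.IsColimit.hom_ext t _ _ fun i => by
    rw [← Category.assoc, Cofan.IsColimit.fac, Cofan.IsColimit.fac, hσ]
  have : Mono S.f := hS.mono_f
  let τ : kernel π ⟶ S.X₁ := hS.fIsKernel.lift (KernelFork.ofι (kernel.ι π ≫ ω)
    (by rw [Category.assoc, hω, kernel.condition]))
  have hτ : τ ≫ S.f = kernel.ι π ≫ ω :=
    hS.fIsKernel.fac (KernelFork.ofι (kernel.ι π ≫ ω) _) WalkingParallelPair.zero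
  let κ : kernel π ⟶ S.X₁ ⊞ c.pt := biprod.lift (-τ) (kernel.ι π)
  let Φ : S.X₁ ⊞ c.pt ⟶ S.X₂ := biprod.desc S.f ω
  have hκΦ : κ ≫ Φ = 0 := by rw [biprod.lift_desc, Preadditive.neg_comp, hτ, neg_add_cancel]
  have hbi : adequate A (S.X₁ ⊞ c.pt) :=
    adequate_of_splitting (ShortComplex.Splitting.ofHasBinaryBiproduct S.X₁ c.pt) h₁ hc
  have hiso : IsIso (cokernel.desc κ Φ hκΦ) :=
    isIso_cokernel_biprod τ (kernel.ι π) S.f ω hκΦ (fun B => (shortExact_ap hS B).1)
      (fun B a c h => (kernel_exact π B c).mp (by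
        rw [← hω, ap_comp]
        have h0 := congrArg (ap S.g B) h
        rwa [map_add, (shortExact_ap hS B).2.1.apply_apply_eq_zero, map_zero, zero_add] at h0))
      hτ (fun B y => by
        obtain ⟨i, x, hx⟩ := hcov B (ap S.g B y)
        obtain ⟨x₁, hx₁⟩ := ((shortExact_ap hS B).2.1 (y - ap (σ i) B x)).mp (by
          rw [map_sub, ← ap_comp, hσ, hx, sub_self])
        refine ⟨x₁, ap (c.inj i) B x, ?_⟩
        rw [← ap_comp, Cofan.IsColimit.fac, hx₁, sub_add_cancel])
  exact (adequate A).prop_of_iso (asIso (cokernel.desc κ Φ hκΦ))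
    (adequate_cokernel κ (adequate_kernel π hc h₃) hbi)

end

end Groth.Agent.AdeqLib
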