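import Groth.Agent.AdeqLib.CechSite
import Groth.Agent.AdeqLib.Split
import Mathlib.Algebra.Category.ModuleCat.Sheaf.Colimits
import Mathlib.Algebra.Category.ModuleCat.Presheaf.Sheafification

/-!
# Sheafification and (co)limits of adequate modules
-/

set_option autoImplicit false
set_option linter.style.haveILetI false
set_option linter.unusedSectionVars false
set_option backward.isDefEq.respectTransparency false
set_option backward.isDefEq.respectTransparency.types false

universe w v' u' u

open CategoryTheory Limits TensorProduct Opposite AlgebraicGeometry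

namespace Groth.Agent.AdeqLib

open Adeq

noncomputable section

variable {K : Precoverage Scheme.{u}} [BigSite.OSh K] {S : Scheme.{u}}

section Exactness

variable {R : CommRingCat.{u}} (a : Spec R ⟶ S)

/-- The underlying abelian presheaf of `toMVFPre`. -/
def toMVFPreCompIso :
    toMVFPre K a ⋙ PresheafOfModules.toPresheaf (ringOf R) ≅
      PresheafOfModules.toPresheaf (BigSite.ORing K S).obj ⋙
        (Functor.whiskeringLeft _ _ _).obj (specOver a).op :=
  Iso.refl _

instance toMVFPre_preservesColimitsOfShape {J : Type u'} [Category.{v'} J]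
    [HasColimitsOfShape J AddCommGrpCat.{u + 1}] :
    PreservesColimitsOfShape J (toMVFPre K a) := by
  haveI : HasColimitsOfShape J (PresheafOfModules.{u + 1} (ringOf R)) := inferInstance
  haveI : (PresheafOfModules.toPresheaf.{u + 1} (ringOf R)).ReflectsIsomorphisms := inferInstance
  haveI : ReflectsColimitsOfShape J (PresheafOfModules.toPresheaf.{u + 1} (ringOf R)) :=
    reflectsColimitsOfShape_of_reflectsIsomorphisms
  haveI : PreservesColimitsOfShape J
      (toMVFPre K a ⋙ PresheafOfModules.toPresheaf (ringOf R)) :=
    preservesColimitsOfShape_of_natIso (toMVFPreCompIso a).symm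
  exact preservesColimitsOfShape_of_reflects_of_preserves _
    (PresheafOfModules.toPresheaf (ringOf R))

instance toMVFPre_preservesLimitsOfShape {J : Type} [SmallCategory J] [FinCategory J] :
    PreservesLimitsOfShape J (toMVFPre K a) := by
  haveI : ReflectsLimitsOfShape J (PresheafOfModules.toPresheaf.{u + 1} (ringOf R)) :=
    reflectsLimitsOfShape_of_reflectsIsomorphisms
  haveI : PreservesLimitsOfShape J
      (toMVFPre K a ⋙ PresheafOfModules.toPresheaf (ringOf R)) :=
    preservesLimitsOfShape_of_natIso (toMVFPreCompIso a).symm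
  exact preservesLimitsOfShape_of_reflects_of_preserves _
    (PresheafOfModules.toPresheaf (ringOf R))

instance toMVF_preservesLimitsOfShape {J : Type} [SmallCategory J] [FinCategory J] :
    PreservesLimitsOfShape J (toMVF K a) := by
  unfold toMVF
  infer_instance

theorem toMVF_preservesKernel {M N : BigSite.Mod K S} (φ : M ⟶ N) :
    PreservesLimit (parallelPair φ 0) (toMVF K a) := inferInstance

end Exactness

section Unit

variable (P : PMod K S)

/-- The sheafification of a presheaf of modules. -/
abbrev shf : BigSite.Mod K S :=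
  (PresheafOfModules.sheafification (𝟙 (BigSite.ORing K S).obj)).obj P

/-- The unit of sheafification into the underlying presheaf. -/
def unitVal : P ⟶ (shf P).val :=
  PresheafOfModules.homMk (CategoryTheory.toSheafify (QuotSh.J K S) P.presheaf) fun X r m =>
    (((PresheafOfModules.sheafificationAdjunction (𝟙 (BigSite.ORing K S).obj)).unit.app P).app
      X).hom.map_smul r m

theorem unitVal_app (U : Over S) (x : P.presheaf.obj (op U)) :
    ((PresheafOfModules.toPresheaf _).map (unitVal P)).app (op U) x =
      (CategoryTheory.toSheafify (QuotSh.J K S) P.presheaf).app (op U) x := rfl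

/-- The map of sections of the unit. -/
def unitAt (U : Over S) : P.presheaf.obj (op U) →+ (shf P).val.presheaf.obj (op U) :=
  (((PresheafOfModules.toPresheaf _).map (unitVal P)).app (op U)).hom

theorem unitAt_rs {U V : Over S} (g : V ⟶ U) (x : P.presheaf.obj (op U)) :
    unitAt P V (rs P g x) = rs (shf P).val g (unitAt P U x) :=
  ConcreteCategory.congr_hom
    (((PresheafOfModules.toPresheaf _).map (unitVal P)).naturality g.op) x

theorem unitAt_bijective_of_iso {U V : Over S} (g : V ⟶ U) [IsIso g]
    (h : Function.Bijective (unitAt P V)) : Function.Bijective (unitAt P U) := by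
  have hc : rs (shf P).val g ∘ unitAt P U = unitAt P V ∘ rs P g :=
    funext fun x => (unitAt_rs P g x).symm
  have hb : Function.Bijective (rs (shf P).val g ∘ unitAt P U) := by
    rw [hc]
    exact h.comp (rs_bijective P g)
  exact (Function.Bijective.of_comp_iff' (rs_bijective (shf P).val g) _).mp hb

variable {P} [HasAffRef K]
  (h : ∀ (R : CommRingCat.{u}) (a : Spec R ⟶ S), adequate R ((toMVFPre K a).obj P))

include h in
theorem unitAt_injective_base {R : CommRingCat.{u}} (a : Spec R ⟶ S) :
    Function.Injective (unitAt P (sO a (algOf R R))) := by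
  rw [injective_iff_map_eq_zero]
  intro x hx
  haveI : Presheaf.IsLocallyInjective (QuotSh.J K S)
      (CategoryTheory.toSheafify (QuotSh.J K S) P.presheaf) := inferInstance
  have hT := Presheaf.equalizerSieve_mem (QuotSh.J K S)
    (CategoryTheory.toSheafify (QuotSh.J K S) P.presheaf) x 0 (hx.trans (map_zero _).symm)
  rw [GrothendieckTopology.mem_over_iff] at hT
  obtain ⟨ι, hι, A, hA, _, hAT⟩ := HasAffRef.refine_ (K := K) R _ hT
  refine hA.sep (h R a) fun i => ?_
  have h' := (spec_sieve_apply a _ (sM a (unitTo A i))).mp (hAT i)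
  exact h'.trans (map_zero _)

include h in
theorem unitAt_injective_affine (U : Over S) [IsAffine U.left] :
    Function.Injective (unitAt P U) := by
  obtain ⟨R, a, ⟨e⟩⟩ := exists_affine_presentation U
  let g : sO a (algOf R R) ⟶ U :=
    Over.homMk (sStr (algOf R R) ≫ e.hom.left) (by
      show (sStr (algOf R R) ≫ e.hom.left) ≫ U.hom = sStr (algOf R R) ≫ a
      rw [Category.assoc, Over.w e.hom]
      rfl)
  haveI : IsIso g := by
    haveI : IsIso ((Over.forget S).map g) := by
      haveI : IsIso (sStr (algOf R R)) := by
        rw [show sStr (algOf R R) = 𝟙 (Spec R) from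
          (congrArg Spec.map (CommRingCat.ofHom_id (R := R))).trans (Spec.map_id R)]
        infer_instance
      haveI : IsIso e.hom.left := inferInstanceAs (IsIso ((Over.forget S).map e.hom))
      show IsIso (sStr (algOf R R) ≫ e.hom.left)
      infer_instance
    exact isIso_of_reflects_iso _ (Over.forget S)
  intro x y hxy
  exact (rs_bijective P g).1 (unitAt_injective_base h a (by rw [unitAt_rs, unitAt_rs, hxy]))

include h in
theorem unitAt_surjective_base {R : CommRingCat.{u}} (a : Spec R ⟶ S) :
    Function.Surjective (unitAt P (sO a (algOf R R))) := by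
  intro y
  haveI : Presheaf.IsLocallySurjective (QuotSh.J K S)
      (CategoryTheory.toSheafify (QuotSh.J K S) P.presheaf) := inferInstance
  have hT := Presheaf.imageSieve_mem (QuotSh.J K S)
    (CategoryTheory.toSheafify (QuotSh.J K S) P.presheaf) y
  rw [GrothendieckTopology.mem_over_iff] at hT
  obtain ⟨ι, hι, A, hA, hAc, hAT⟩ := HasAffRef.refine_ (K := K) R _ hT
  choose x hx using fun i => (spec_sieve_apply a _ (sM a (unitTo A i))).mp (hAT i)
  have hx' : ∀ i, unitAt P (sO a (A i)) (x i) = rs (shf P).val (sM a (unitTo A i)) y := hx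
  obtain ⟨t, ht⟩ := hA.exists_amalg (h R a) x fun i k => by
    haveI : IsAffine (sO a (tAlg (A i) (A k))).left :=
      inferInstanceAs (IsAffine (Spec (CommRingCat.of (tAlg (A i) (A k)))))
    refine unitAt_injective_affine h (sO a (tAlg (A i) (A k))) ?_
    show unitAt P _ (rs P _ (x k)) = unitAt P _ (rs P _ (x i))
    rw [unitAt_rs, unitAt_rs, hx', hx', ← rs_comp, ← rs_comp]
    show rs (shf P).val (sM a (tRight (A i) (A k)) ≫ sM a (unitTo A k)) y =
      rs (shf P).val (sM a (tLeft (A i) (A k)) ≫ sM a (unitTo A i)) y
    rw [← sM_comp, ← sM_comp]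
    refine congrArg (fun φ => rs (shf P).val (sM a φ) y) ?_
    exact CommAlgCat.hom_ext (Subsingleton.elim (α := R →ₐ[R] (tAlg (A i) (A k) : Type u)) _ _)
  refine ⟨t, sheaf_ext (shf P) _ (hAc.mem a K) fun i => ?_⟩
  rw [← unitAt_rs, ← hx' i]
  exact congrArg (unitAt P (sO a (A i))) (ht i)

include h in
theorem unitAt_bijective_affine (U : Over S) [IsAffine U.left] :
    Function.Bijective (unitAt P U) := by
  refine ⟨unitAt_injective_affine h U, ?_⟩
  obtain ⟨R, a, ⟨e⟩⟩ := exists_affine_presentation U
  intro y
  let g : U ⟶ sO a (algOf R R) :=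
    Over.homMk e.inv.left (by
      show e.inv.left ≫ Spec.map (CommRingCat.ofHom (RingHom.id R)) ≫ a = U.hom
      rw [CommRingCat.ofHom_id, Spec.map_id]
      exact (congrArg (e.inv.left ≫ ·) (Category.id_comp a)).trans (Over.w e.inv))
  haveI : IsIso g := by
    haveI : IsIso ((Over.forget S).map g) :=
      inferInstanceAs (IsIso ((Over.forget S).map e.inv))
    exact isIso_of_reflects_iso _ (Over.forget S)
  obtain ⟨z, rfl⟩ := (rs_bijective (shf P).val g).2 y
  obtain ⟨x, rfl⟩ := unitAt_surjective_base h a z
  exact ⟨rs P g x, unitAt_rs P g x⟩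

include h in
/-- The sheafification of a presheaf with adequate functors has adequate functors. -/
theorem adequate_toMVF_shf {R : CommRingCat.{u}} (a : Spec R ⟶ S) :
    adequate R ((toMVF K a).obj (shf P)) := by
  have : IsIso ((toMVFPre K a).map (unitVal P)) := isIso_of_bij _ fun B => by
    haveI : IsAffine (sO a B).left := inferInstanceAs (IsAffine (Spec (CommRingCat.of B)))
    exact unitAt_bijective_affine h (sO a B)
  exact (adequate R).prop_of_iso (asIso ((toMVFPre K a).map (unitVal P))) (h R a)

include h in
theorem adequateMod_shf : adequateMod K S (shf P) :=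
  adequateMod_of_forall fun _ a => adequate_toMVF_shf h a

end Unit

section Closure

variable [HasAffRef K] [K.IsStableUnderBaseChange]

theorem adequateMod_kernel {M N : BigSite.Mod K S} (φ : M ⟶ N) (hM : adequateMod K S M)
    (hN : adequateMod K S N) : adequateMod K S (kernel φ) :=
  adequateMod_of_forall fun _ a =>
    haveI := toMVF_preservesKernel a φ
    (adequate _).prop_of_iso (PreservesKernel.iso (toMVF K a) φ).symm
      (adequate_kernel _ (adequate_toMVF a hM) (adequate_toMVF a hN))

/-- A module is the sheafification of its presheaf. -/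
def shfForgetIso (S : Scheme.{u}) :
    SheafOfModules.forget (BigSite.ORing K S) ⋙
        PresheafOfModules.sheafification (𝟙 (BigSite.ORing K S).obj) ≅ 𝟭 (BigSite.Mod K S) :=
  haveI : IsIso (PresheafOfModules.sheafificationAdjunction
      (𝟙 (BigSite.ORing K S).obj)).counit := inferInstance
  (NatIso.ofComponents fun M => Iso.refl _) ≪≫
    asIso (PresheafOfModules.sheafificationAdjunction (𝟙 (BigSite.ORing K S).obj)).counit

theorem adequateMod_cokernel {M N : BigSite.Mod K S} (φ : M ⟶ N) (hM : adequateMod K S M)
    (hN : adequateMod K S N) : adequateMod K S (cokernel φ) := by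
  let φv := (SheafOfModules.forget (BigSite.ORing K S)).map φ
  have h : ∀ (R : CommRingCat.{u}) (a : Spec R ⟶ S),
      adequate R ((toMVFPre K a).obj (cokernel φv)) := fun R a =>
    (adequate R).prop_of_iso (PreservesCokernel.iso (toMVFPre K a) φv).symm
      (adequate_cokernel _ (adequate_toMVF a hM) (adequate_toMVF a hN))
  let F := PresheafOfModules.sheafification (𝟙 (BigSite.ORing K S).obj)
  haveI : F.IsLeftAdjoint := inferInstance
  refine (adequateMod K S).prop_of_iso (PreservesCokernel.iso F φv ≪≫ ?_) (adequateMod_shf h)
  exact cokernel.mapIso _ _ ((shfForgetIso S).app M) ((shfForgetIso S).app N)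
    ((shfForgetIso S).hom.naturality φ)

theorem adequateMod_colimit {J : Type (u + 1)} [SmallCategory J] (D : J ⥤ BigSite.Mod K S)
    (hD : ∀ j, adequateMod K S (D.obj j)) : adequateMod K S (colimit D) := by
  let D' := D ⋙ SheafOfModules.forget (BigSite.ORing K S)
  have h : ∀ (R : CommRingCat.{u}) (a : Spec R ⟶ S),
      adequate R ((toMVFPre K a).obj (colimit D')) := fun R a =>
    (adequate R).prop_of_iso (preservesColimitIso (toMVFPre K a) D').symm
      (adequate_colimit _ fun j => adequate_toMVF a (hD j))
  let F := PresheafOfModules.sheafification (𝟙 (BigSite.ORing K S).obj)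
  haveI : F.IsLeftAdjoint := inferInstance
  refine (adequateMod K S).prop_of_iso (preservesColimitIso F D' ≪≫ ?_) (adequateMod_shf h)
  exact HasColimit.isoOfNatIso (Functor.associator _ _ _ ≪≫
    Functor.isoWhiskerLeft D (shfForgetIso S) ≪≫ D.rightUnitor)

theorem adequateMod_ext [∀ U : Over S, HasFiniteProducts (Over U)]
    (C : ShortComplex (BigSite.Mod K S)) (hC : C.ShortExact) (h₁ : adequateMod K S C.X₁)
    (h₃ : adequateMod K S C.X₃) (hab : (C.map (BigSite.toAbMod K S)).ShortExact) :
    adequateMod K S C.X₂ :=
  adequateMod_of_forall fun R a => by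
    haveI := hC.mono_f
    haveI : Mono ((toMVF K a).map C.f) := inferInstance
    haveI : Epi ((toMVF K a).map C.g) := epi_of_surj _ fun B => by
      haveI : IsAffine (sO a B).left := inferInstanceAs (IsAffine (Spec (CommRingCat.of B)))
      exact surjective_affine hab h₁ (sO a B)
    haveI : Mono (C.map (toMVF K a)).f := inferInstanceAs (Mono ((toMVF K a).map C.f))
    haveI : Epi (C.map (toMVF K a)).g := inferInstanceAs (Epi ((toMVF K a).map C.g))
    exact adequate_ext (S := C.map (toMVF K a))
      ⟨hC.exact.map_of_mono_of_preservesKernel _ hC.mono_f (toMVF_preservesKernel a C.g)⟩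
      (adequate_toMVF a h₁) (adequate_toMVF a h₃)

end Closure

end

end Groth.Agent.AdeqLib
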