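import Groth.Agent.AdeqLib.Refine
import Groth.Agent.AdeqLib.Family
import Groth.Agent.AdeqLib.Compare
import Groth.Agent.EtCechLib.Cartan

/-!
# Adequate modules on big sites: the functors on affine objects
-/

set_option autoImplicit false
set_option linter.style.haveILetI false
set_option backward.isDefEq.respectTransparency false
set_option backward.isDefEq.respectTransparency.types false

universe u

open CategoryTheory Limits TensorProduct Opposite AlgebraicGeometry

namespace Groth.Agent.AdeqLib

open Adeq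

noncomputable section

variable {K : Precoverage Scheme.{u}} [BigSite.OSh K] {S : Scheme.{u}} {R : CommRingCat.{u}}
  (a : Spec R ⟶ S)

/-- Separatedness of a sheaf of modules for a covering. -/
theorem sheaf_ext (M : BigSite.Mod K S) {U : Over S} {ι : Type (u + 1)} {Y : ι → Over S}
    (π : ∀ i, Y i ⟶ U) (hcov : Sieve.ofArrows Y π ∈ QuotSh.J K S U)
    {s t : M.val.presheaf.obj (op U)} (h : ∀ i, rs M.val (π i) s = rs M.val (π i) t) : s = t :=
  EtCechLib.ext_of_cover ((BigSite.toAbMod K S).obj M) π hcov h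

/-- Gluing in a sheaf of modules for a covering. -/
theorem sheaf_amalg (M : BigSite.Mod K S) {U : Over S} {ι : Type (u + 1)} {Y : ι → Over S}
    (π : ∀ i, Y i ⟶ U) (hcov : Sieve.ofArrows Y π ∈ QuotSh.J K S U)
    (x : ∀ i, M.val.presheaf.obj (op (Y i)))
    (hx : ∀ i j (Z : Over S) (gi : Z ⟶ Y i) (gj : Z ⟶ Y j), gi ≫ π i = gj ≫ π j →
      rs M.val gi (x i) = rs M.val gj (x j)) :
    ∃ t, ∀ i, rs M.val (π i) t = x i :=
  (EtCechLib.existsUnique_amalgamation ((BigSite.toAbMod K S).obj M) π hcov x hx).exists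

/-- The sheaf property of the functor of a sheaf of modules. -/
theorem toMVF_sep (M : BigSite.Mod K S) {ι : Type (u + 1)} {A : ι → Alg R} (hA : CoversBase K A)
    (B : Alg R) (x : ((toMVF K a).obj M).obj (pt B))
    (h : ∀ i, tr ((toMVF K a).obj M) (tRight (A i) B) x = 0) : x = 0 :=
  sheaf_ext M _ (hA.mem_tensor a K B) fun i =>
    (h i).trans (map_zero (rs M.val (sM a (tRight (A i) B)))).symm

/-- The gluing property of the functor of a sheaf of modules. -/
theorem toMVF_amalg (M : BigSite.Mod K S) {ι : Type (u + 1)} {A : ι → Alg R} (hA : CoversBase K A)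
    (B : Alg R) (y : ∀ i, ((toMVF K a).obj M).obj (pt (tAlg (A i) B)))
    (hy : ∀ i k, tr ((toMVF K a).obj M) (tRight (A i) (tAlg (A k) B)) (y k) =
      tr ((toMVF K a).obj M) (tMap (A i) (tRight (A k) B)) (y i)) :
    ∃ x, ∀ i, tr ((toMVF K a).obj M) (tRight (A i) B) x = y i := by
  refine sheaf_amalg M _ (hA.mem_tensor a K B) y fun i k Z gi gk hik => ?_
  have hB := congrArg (fun g => g.left ≫ sStr B) hik
  simp only [Over.comp_left, Category.assoc, sM_left_str] at hB
  obtain ⟨e, he1, he2⟩ := exists_tensor_lift a (A := A i) (B := tAlg (A k) B)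
    (gi ≫ sM a (tLeft (A i) B)) gk (by rw [Over.comp_left, Category.assoc, sM_left_str, hB])
  have hgi : gi = e ≫ sM a (tMap (A i) (tRight (A k) B)) := by
    refine tensor_hom_ext a ?_ ?_
    · rw [Category.assoc, ← sM_comp, ← he1]
      refine congrArg (fun φ => e ≫ sM a φ) ?_
      exact CommAlgCat.hom_ext (DFunLike.ext _ _ fun v => rfl)
    · rw [Category.assoc, ← sM_comp, hik, ← he2, Category.assoc, ← sM_comp]
      refine congrArg (fun φ => e ≫ sM a φ) ?_
      exact CommAlgCat.hom_ext (DFunLike.ext _ _ fun v => rfl)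
  have h' := congrArg (rs M.val e) (hy i k)
  rw [hgi, rs_comp]
  refine h'.symm.trans ?_
  show rs M.val e (rs M.val (sM a (tRight (A i) (tAlg (A k) B))) (y k)) = _
  rw [← rs_comp, he2]

/-- The functors of an adequate module are adequate (affine objects). -/
theorem adequate_toMVF [HasAffRef K] [K.IsStableUnderBaseChange] {M : BigSite.Mod K S}
    (hM : adequateMod K S M) : adequate R ((toMVF K a).obj M) := by
  obtain ⟨κ, R', a', hcov, hadq⟩ := hM
  obtain ⟨ι, hι, A, hA, hAcov, hAT⟩ := HasAffRef.refine_ (K := K) R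
    (Sieve.pullback a (Sieve.generate (Presieve.ofArrows (fun i => Spec (R' i)) a')))
    (K.toGrothendieck.pullback_stable a (Precoverage.generate_mem_toGrothendieck hcov))
  refine adequate_of_family A (fun i => ?_) (toMVF_sep a M hAcov) (toMVF_amalg a M hAcov)
  obtain ⟨Y, h, _, ⟨k⟩, hk⟩ := hAT i
  let R₁ : CommRingCat.{u} := CommRingCat.of (A i)
  letI : Algebra R R₁ := (A i).algebra
  refine (adequate_of_restr_eq (R := R) (R' := R₁) a (sStr (A i) ≫ a) rfl (P := M.val)).mp ?_
  letI : Algebra (R' k) R₁ := (Spec.preimage h).hom.toAlgebra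
  refine adequate_change (R := R' k) (R' := R₁) (a' k) (sStr (A i) ≫ a) ?_ (hadq k)
  rw [← hk]
  show Spec.map (CommRingCat.ofHom (Spec.preimage h).hom) ≫ a' k = h ≫ a' k
  rw [CommRingCat.ofHom_hom, Spec.map_preimage]

/-- A module with adequate functors on every affine object is adequate. -/
theorem adequateMod_of_forall [HasAffRef K] {M : BigSite.Mod K S}
    (h : ∀ (R : CommRingCat.{u}) (a : Spec R ⟶ S), adequate R ((toMVF K a).obj M)) :
    adequateMod K S M :=
  ⟨S.affineCover.I₀, fun i => Γ(S.affineCover.X i, ⊤),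
    fun i => (S.affineCover.X i).isoSpec.inv ≫ S.affineCover.f i,
    HasAffRef.zariski_le _ ((Scheme.ofArrows_mem_precoverage_iff _).mpr
      ⟨fun x => by
        obtain ⟨i, y, hy⟩ := S.affineCover.exists_eq x
        refine ⟨i, (S.affineCover.X i).isoSpec.hom y, ?_⟩
        show ((S.affineCover.X i).isoSpec.hom ≫ (S.affineCover.X i).isoSpec.inv ≫
          S.affineCover.f i) y = x
        rw [Iso.hom_inv_id_assoc, hy], fun i => inferInstance⟩),
    fun i => h _ _⟩

end

end Groth.Agent.AdeqLib
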