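import Groth.Agent.AdeqLib.CechAlg
import Groth.Prelude.Def_Adeq2
import Mathlib.AlgebraicGeometry.Group.Affine

/-!
# Affine objects of the big site
-/

set_option autoImplicit false
set_option backward.isDefEq.respectTransparency false
set_option backward.isDefEq.respectTransparency.types false

universe u

open CategoryTheory Limits TensorProduct Opposite AlgebraicGeometry

namespace Groth.Agent.AdeqLib

open Adeq

noncomputable section

variable {S : Scheme.{u}} {R : CommRingCat.{u}} (a : Spec R ⟶ S)

/-- The object of the big site of an algebra. -/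
abbrev sO (A : Alg R) : Over S := (specOver a).obj (op A)

/-- The morphism of the big site of a map of algebras. -/
abbrev sM {A B : Alg R} (f : A ⟶ B) : sO a B ⟶ sO a A := (specOver a).map f.op

theorem sM_left {A B : Alg R} (f : A ⟶ B) :
    (sM a f).left = Spec.map (CommRingCat.ofHom f.hom.toRingHom) := rfl

theorem sM_comp {A B C : Alg R} (f : A ⟶ B) (g : B ⟶ C) : sM a (f ≫ g) = sM a g ≫ sM a f := by
  rw [sM, sM, sM, op_comp, Functor.map_comp]

theorem sM_id (A : Alg R) : sM a (𝟙 A) = 𝟙 (sO a A) := by
  rw [sM, op_id]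
  exact (specOver a).map_id _

/-- The structure map to the base. -/
abbrev sStr (A : Alg R) : Spec (CommRingCat.of A) ⟶ Spec R :=
  Spec.map (CommRingCat.ofHom (algebraMap R A))

theorem sM_left_str {A B : Alg R} (f : A ⟶ B) : (sM a f).left ≫ sStr A = sStr B := by
  rw [sM_left, ← Spec.map_comp, ← CommRingCat.ofHom_comp]
  exact congrArg (fun g : R →+* B => Spec.map (CommRingCat.ofHom g)) (AlgHom.comp_algebraMap f.hom)

theorem sO_hom (A : Alg R) : (sO a A).hom = sStr A ≫ a := rfl

theorem unitTo_left {ι : Type (u + 1)} (A : ι → Alg R) (i : ι) :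
    (sM a (unitTo A i)).left = sStr (A i) := rfl

/-- Lifting into the spectrum of a tensor product. -/
theorem exists_tensor_lift {Z : Over S} {A B : Alg R} (f : Z ⟶ sO a A) (g : Z ⟶ sO a B)
    (h : f.left ≫ sStr A = g.left ≫ sStr B) :
    ∃ e : Z ⟶ sO a (tAlg A B), e ≫ sM a (tLeft A B) = f ∧ e ≫ sM a (tRight A B) = g := by
  let e₀ : Z.left ⟶ Spec (CommRingCat.of (tAlg A B)) :=
    pullback.lift f.left g.left h ≫ (pullbackSpecIso R A B).hom
  have h1 : e₀ ≫ (sM a (tLeft A B)).left = f.left :=
    (Category.assoc _ _ _).trans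
      ((congrArg (pullback.lift f.left g.left h ≫ ·) (pullbackSpecIso_hom_fst R A B)).trans
        (pullback.lift_fst _ _ _))
  have h2 : e₀ ≫ (sM a (tRight A B)).left = g.left :=
    (Category.assoc _ _ _).trans
      ((congrArg (pullback.lift f.left g.left h ≫ ·) (pullbackSpecIso_hom_snd R A B)).trans
        (pullback.lift_snd _ _ _))
  refine ⟨Over.homMk e₀ ?_, Over.OverMorphism.ext h1, Over.OverMorphism.ext h2⟩
  rw [← Over.w (sM a (tLeft A B)), reassoc_of% h1, Over.w f]

/-- Morphisms into the spectrum of a tensor product agree if both components do. -/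
theorem tensor_hom_ext {Z : Over S} {A B : Alg R} {e e' : Z ⟶ sO a (tAlg A B)}
    (h1 : e ≫ sM a (tLeft A B) = e' ≫ sM a (tLeft A B))
    (h2 : e ≫ sM a (tRight A B) = e' ≫ sM a (tRight A B)) : e = e' := by
  refine Over.OverMorphism.ext ((cancel_mono (pullbackSpecIso R A B).inv).mp
    (pullback.hom_ext ?_ ?_))
  · rw [Category.assoc, Category.assoc, pullbackSpecIso_inv_fst]
    exact congrArg CommaMorphism.left h1
  · rw [Category.assoc, Category.assoc, pullbackSpecIso_inv_snd]
    exact congrArg CommaMorphism.left h2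

/-- Membership of a sieve on an affine object in terms of the sieve on the spectrum. -/
theorem spec_sieve_apply {A : Alg R} (T : Sieve (sO a A)) {Z : Over S} (f : Z ⟶ sO a A) :
    (Sieve.overEquiv _ T).arrows f.left ↔ T.arrows f := by
  rw [Sieve.overEquiv_iff]
  constructor
  · intro h
    let e : Z ⟶ Over.mk (f.left ≫ (sO a A).hom) := Over.homMk (𝟙 Z.left) (by
      show 𝟙 _ ≫ f.left ≫ (sO a A).hom = Z.hom
      rw [Category.id_comp, Over.w f])
    have : e ≫ (Over.homMk f.left rfl : Over.mk (f.left ≫ (sO a A).hom) ⟶ sO a A) = f :=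
      Over.OverMorphism.ext (Category.id_comp _)
    rw [← this]
    exact T.downward_closed h e
  · intro h
    let e : Over.mk (f.left ≫ (sO a A).hom) ⟶ Z := Over.homMk (𝟙 Z.left) (by
      show 𝟙 _ ≫ Z.hom = f.left ≫ (sO a A).hom
      rw [Category.id_comp, Over.w f])
    have : e ≫ f = (Over.homMk f.left rfl : Over.mk (f.left ≫ (sO a A).hom) ⟶ sO a A) :=
      Over.OverMorphism.ext (Category.id_comp _)
    rw [← this]
    exact T.downward_closed h e

section Cover

variable (K : Precoverage Scheme.{u})

/-- The sieve of a family of algebras. -/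
abbrev famSieve {ι : Type (u + 1)} (A : ι → Alg R) : Sieve (sO a (algOf R R)) :=
  Sieve.ofArrows (fun i => sO a (A i)) fun i => sM a (unitTo A i)

/-- A family of algebras covers. -/
def CoversBase {ι : Type (u + 1)} (A : ι → Alg R) : Prop :=
  Sieve.ofArrows (fun i => Spec (CommRingCat.of (A i))) (fun i => sStr (A i)) ∈
    K.toGrothendieck (Spec R)

theorem CoversBase.mem {ι : Type (u + 1)} {A : ι → Alg R} (h : CoversBase K A) :
    famSieve a A ∈ QuotSh.J K S (sO a (algOf R R)) := by
  rw [GrothendieckTopology.mem_over_iff]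
  refine GrothendieckTopology.superset_covering _ ?_ h
  refine (Sieve.generate_le_iff _ _).mpr (Presieve.ofArrows_le_iff.mpr fun i => ?_)
  exact (spec_sieve_apply a (famSieve a A) (sM a (unitTo A i))).mpr
    (Sieve.ofArrows_mk _ (fun i => sM a (unitTo A i)) i)

/-- The base change of a covering family. -/
theorem CoversBase.mem_tensor {ι : Type (u + 1)} {A : ι → Alg R} (h : CoversBase K A) (B : Alg R) :
    Sieve.ofArrows (fun i => sO a (tAlg (A i) B)) (fun i => sM a (tRight (A i) B)) ∈
      QuotSh.J K S (sO a B) := by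
  let β : algOf R R ⟶ B := CommAlgCat.ofHom (Algebra.ofId R B)
  refine GrothendieckTopology.superset_covering _ ?_
    ((QuotSh.J K S).pullback_stable (sM a β) (h.mem a))
  intro Z g hg
  obtain ⟨W, e, _, ⟨i⟩, he⟩ := hg
  obtain ⟨e', _, he'⟩ := exists_tensor_lift a e g (by
    have := congrArg CommaMorphism.left he
    exact this.trans rfl)
  exact ⟨_, e', _, ⟨i⟩, he'⟩

end Cover

end

end Groth.Agent.AdeqLib
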