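import Groth.Prelude.Def_W4stkadequateTF
import Mathlib.CategoryTheory.Abelian.Injective.Basic
import Mathlib.Algebra.Homology.ShortComplex.ShortExact
import Mathlib.Algebra.Homology.ShortComplex.ModuleCat
import Mathlib.Algebra.Category.ModuleCat.Presheaf.Limits
import Mathlib.Algebra.Category.ModuleCat.Presheaf.Colimits

/-! Tangent modules of module-valued functors. -/

universe u

open CategoryTheory Limits

namespace Groth.Agent.AdeqLib

variable {A : Type u} [CommRing A]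

theorem evaluation_shortExact {C : ShortComplex (Adeq.MVF A)} (hC : C.ShortExact) (X : Adeq.Alg A) :
    Function.Injective (C.f.app (Adeq.pt X)).hom ∧
    (∀ y, (C.g.app (Adeq.pt X)).hom y = 0 → ∃ x, (C.f.app (Adeq.pt X)).hom x = y) ∧
    Function.Surjective (C.g.app (Adeq.pt X)).hom ∧
    ∀ x, (C.g.app (Adeq.pt X)).hom ((C.f.app (Adeq.pt X)).hom x) = 0 := by
  haveI : (PresheafOfModules.evaluation.{u + 1} (Adeq.ringOf A) (Adeq.pt X)).Additive :=
    ⟨fun {F G f g} => rfl⟩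
  haveI : PreservesFiniteLimits
      (PresheafOfModules.evaluation.{u + 1} (Adeq.ringOf A) (Adeq.pt X)) :=
    PresheafOfModules.evaluation_preservesFiniteLimits.{u + 1} (R := Adeq.ringOf A) (Adeq.pt X)
  haveI : PreservesFiniteColimits
      (PresheafOfModules.evaluation.{u + 1} (Adeq.ringOf A) (Adeq.pt X)) :=
    PresheafOfModules.Finite.evaluation_preservesFiniteColimits.{u + 1} (R := Adeq.ringOf A) (Adeq.pt X)
  have h := hC.map_of_exact (PresheafOfModules.evaluation.{u + 1} (Adeq.ringOf A) (Adeq.pt X))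
  refine ⟨h.moduleCat_injective_f, fun y hy => ?_, h.moduleCat_surjective_g, fun x => ?_⟩
  · exact (ShortComplex.moduleCat_exact_iff _).1 h.exact y hy
  · exact ConcreteCategory.congr_hom
      (C.map (PresheafOfModules.evaluation.{u + 1} (Adeq.ringOf A) (Adeq.pt X))).zero x

/-- The transition map of a functor, as an additive map with plain types. -/
noncomputable def mapHom (F : Adeq.MVF A) {X Y : Adeq.Alg A} (f : X ⟶ Y) :
    F.obj (Adeq.pt X) →+ F.obj (Adeq.pt Y) :=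
  (F.map (Adeq.ptHom f)).hom.toAddMonoidHom

theorem mapHom_comp (F : Adeq.MVF A) {X Y Z : Adeq.Alg A} (f : X ⟶ Y) (g : Y ⟶ Z)
    (x : F.obj (Adeq.pt X)) : mapHom F (f ≫ g) x = mapHom F g (mapHom F f x) :=
  F.map_comp_apply (Adeq.ptHom f) (Adeq.ptHom g) x

theorem mapHom_id (F : Adeq.MVF A) (X : Adeq.Alg A) (x : F.obj (Adeq.pt X)) :
    mapHom F (𝟙 X) x = x := by
  show (F.map (𝟙 (Adeq.pt X))).hom x = x
  rw [F.map_id]
  rfl

theorem app_naturality {F G : Adeq.MVF A} (φ : F ⟶ G) {X Y : Adeq.Alg A} (f : X ⟶ Y)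
    (x : F.obj (Adeq.pt X)) :
    (φ.app (Adeq.pt Y)).hom (F.map (Adeq.ptHom f) x) =
      G.map (Adeq.ptHom f) ((φ.app (Adeq.pt X)).hom x) :=
  PresheafOfModules.naturality_apply φ (Adeq.ptHom f) x

variable (B : Adeq.Alg A)

theorem tangentMap_coe (F : Adeq.MVF A) {N N' : ModuleCat.{u} B} (g : N ⟶ N')
    (x : AdeqTF.tangent B N F) :
    (AdeqTF.tangentMap B F g x : F.obj (Adeq.pt (AdeqTF.ext B N'))) =
      F.map (Adeq.ptHom (AdeqTF.map B g)) x.1 := rfl

theorem map_id (N : ModuleCat.{u} B) : AdeqTF.map B (𝟙 N) = 𝟙 (AdeqTF.ext B N) := by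
  apply CommAlgCat.hom_ext
  refine AlgHom.ext fun x => ?_
  exact DFunLike.congr_fun (TrivSqZeroExt.map_id (R' := (B : Type u)) (M := N)) x

theorem map_comp {N N' N'' : ModuleCat.{u} B} (f : N ⟶ N') (g : N' ⟶ N'') :
    AdeqTF.map B (f ≫ g) = AdeqTF.map B f ≫ AdeqTF.map B g := by
  apply CommAlgCat.hom_ext
  refine AlgHom.ext fun x => ?_
  exact DFunLike.congr_fun (TrivSqZeroExt.map_comp_map (R' := (B : Type u)) f.hom g.hom) x

theorem map_zero' (N N' : ModuleCat.{u} B) :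
    AdeqTF.map B (0 : N ⟶ N') = AdeqTF.fst B N ≫ AdeqTF.inl B N' := by
  apply CommAlgCat.hom_ext
  refine AlgHom.ext fun x => ?_
  refine TrivSqZeroExt.ext ?_ ?_
  · change TrivSqZeroExt.fst (TrivSqZeroExt.map (ModuleCat.Hom.hom (0 : N ⟶ N')) x) = _
    rw [TrivSqZeroExt.fst_map]
    rfl
  · change TrivSqZeroExt.snd (TrivSqZeroExt.map (ModuleCat.Hom.hom (0 : N ⟶ N')) x) = _
    rw [TrivSqZeroExt.snd_map]
    rfl

theorem inl_fst (N : ModuleCat.{u} B) : AdeqTF.inl B N ≫ AdeqTF.fst B N = 𝟙 B := by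
  apply CommAlgCat.hom_ext
  exact AlgHom.ext fun x => rfl

variable (F : Adeq.MVF A)

theorem tangentMap_id (N : ModuleCat.{u} B) (x : AdeqTF.tangent B N F) :
    AdeqTF.tangentMap B F (𝟙 N) x = x := by
  refine Subtype.ext ?_
  rw [tangentMap_coe, map_id, show Adeq.ptHom (𝟙 (AdeqTF.ext B N)) = 𝟙 _ from rfl, F.map_id]
  rfl

theorem tangentMap_comp {N N' N'' : ModuleCat.{u} B} (f : N ⟶ N') (g : N' ⟶ N'')
    (x : AdeqTF.tangent B N F) :
    AdeqTF.tangentMap B F (f ≫ g) x = AdeqTF.tangentMap B F g (AdeqTF.tangentMap B F f x) := by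
  refine Subtype.ext ?_
  rw [tangentMap_coe, tangentMap_coe, tangentMap_coe, map_comp,
    show Adeq.ptHom (AdeqTF.map B f ≫ AdeqTF.map B g) =
      Adeq.ptHom (AdeqTF.map B f) ≫ Adeq.ptHom (AdeqTF.map B g) from rfl, F.map_comp_apply]

theorem tangentMap_zero (N N' : ModuleCat.{u} B) (x : AdeqTF.tangent B N F) :
    AdeqTF.tangentMap B F (0 : N ⟶ N') x = 0 := by
  refine Subtype.ext ?_
  rw [tangentMap_coe, map_zero',
    show Adeq.ptHom (AdeqTF.fst B N ≫ AdeqTF.inl B N') =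
      Adeq.ptHom (AdeqTF.fst B N) ≫ Adeq.ptHom (AdeqTF.inl B N') from rfl, F.map_comp_apply,
    show F.map (Adeq.ptHom (AdeqTF.fst B N)) x.1 = 0 from x.2]
  exact (F.map (Adeq.ptHom (AdeqTF.inl B N'))).hom.map_zero

/-- The map on tangent modules induced by a morphism of functors. -/
noncomputable def tangentApp {F G : Adeq.MVF A} (φ : F ⟶ G) (N : ModuleCat.{u} B) :
    AdeqTF.tangent B N F →+ AdeqTF.tangent B N G :=
  ((φ.app (Adeq.pt (AdeqTF.ext B N))).hom.toAddMonoidHom.comp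
    (AdeqTF.tangent B N F).subtype).codRestrict _ (fun x => by
      have hx : F.map (Adeq.ptHom (AdeqTF.fst B N)) x.1 = 0 := x.2
      change G.map (Adeq.ptHom (AdeqTF.fst B N)) _ = 0
      have h := app_naturality φ (AdeqTF.fst B N) x.1
      rw [hx] at h
      exact h.symm.trans (φ.app (Adeq.pt B)).hom.map_zero)

theorem tangentApp_natural {F G : Adeq.MVF A} (φ : F ⟶ G) {N N' : ModuleCat.{u} B} (g : N ⟶ N')
    (x : AdeqTF.tangent B N F) :
    tangentApp B φ N' (AdeqTF.tangentMap B F g x) =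
      AdeqTF.tangentMap B G g (tangentApp B φ N x) :=
  Subtype.ext (app_naturality φ (AdeqTF.map B g) x.1)

theorem tangent_column {C : ShortComplex (Adeq.MVF A)} (hC : C.ShortExact) (N : ModuleCat.{u} B) :
    Function.Injective (tangentApp B C.f N) ∧
    (∀ y, tangentApp B C.g N y = 0 → ∃ x, tangentApp B C.f N x = y) ∧
    Function.Surjective (tangentApp B C.g N) ∧
    ∀ x, tangentApp B C.g N (tangentApp B C.f N x) = 0 := by
  obtain ⟨hi, he, hs, hz⟩ := evaluation_shortExact hC (AdeqTF.ext B N)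
  obtain ⟨hi', -, -, -⟩ := evaluation_shortExact hC B
  refine ⟨fun x y h => Subtype.ext (hi (congrArg Subtype.val h)), fun y hy => ?_, fun z => ?_,
    fun x => Subtype.ext (hz x.1)⟩
  · obtain ⟨x, hx⟩ := he y.1 (congrArg Subtype.val hy)
    refine ⟨⟨x, ?_⟩, Subtype.ext hx⟩
    change C.X₁.map (Adeq.ptHom (AdeqTF.fst B N)) x = 0
    refine hi' ((app_naturality C.f (AdeqTF.fst B N) x).trans ?_)
    rw [hx]
    exact (show C.X₂.map (Adeq.ptHom (AdeqTF.fst B N)) y.1 = 0 from y.2).trans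
      (C.f.app (Adeq.pt B)).hom.map_zero.symm
  · obtain ⟨w, hw⟩ := hs z.1
    have nat : ∀ {X Y : Adeq.Alg A} (f : X ⟶ Y) (v : C.X₂.obj (Adeq.pt X)),
        (C.g.app (Adeq.pt Y)).hom (mapHom C.X₂ f v) =
          mapHom C.X₃ f ((C.g.app (Adeq.pt X)).hom v) := fun f v => app_naturality C.g f v
    refine ⟨⟨w - mapHom C.X₂ (AdeqTF.inl B N) (mapHom C.X₂ (AdeqTF.fst B N) w), ?_⟩,
      Subtype.ext ?_⟩
    · change mapHom C.X₂ (AdeqTF.fst B N) _ = 0
      rw [map_sub, ← mapHom_comp, ← mapHom_comp, inl_fst, Category.comp_id]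
      exact sub_self _
    · change (C.g.app (Adeq.pt (AdeqTF.ext B N))).hom
        (w - mapHom C.X₂ (AdeqTF.inl B N) (mapHom C.X₂ (AdeqTF.fst B N) w)) = z.1
      rw [map_sub, nat, nat, hw, show mapHom C.X₃ (AdeqTF.fst B N) z.1 = 0 from z.2,
        _root_.map_zero, sub_zero]

end Groth.Agent.AdeqLib
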