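import Groth.Agent.AdeqLib.Flat
import Mathlib.RingTheory.Localization.Away.Basic
import Mathlib.RingTheory.Localization.BaseChange
import Mathlib.RingTheory.Flat.Localization

/-!
# Unit-linear additive natural maps are linear
-/

set_option autoImplicit false

universe u

open CategoryTheory TensorProduct

namespace Groth.Agent.AdeqLib

open Adeq

noncomputable section

variable {A : Type u} [CommRing A]

/-- The localization of an algebra away from an element. -/
abbrev locAway (B : Alg A) (s : B) : Alg A := algOf A (Localization.Away s)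

/-- The localization map. -/
def toLocAway (B : Alg A) (s : B) : B ⟶ locAway B s :=
  CommAlgCat.ofHom (IsScalarTower.toAlgHom A B (Localization.Away s))

theorem toLocAway_flat (B : Alg A) (s : B) : (toLocAway B s).hom.toRingHom.Flat := by
  show (algebraMap (B : Type u) (Localization.Away s)).Flat
  exact RingHom.flat_algebraMap_iff.mpr (IsLocalization.flat _ (Submonoid.powers s))

theorem eq_zero_of_bc (G : MVF A) {B B' : Alg A} (f : B ⟶ B')
    (hf : Function.Injective (G.bc f).hom) (d : G.obj (pt B)) (hd : tr G f d = 0) :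
    letI : Algebra B B' := f.hom.toRingHom.toAlgebra
    ((1 : B') ⊗ₜ[(B : Type u)] d : B' ⊗[(B : Type u)] G.obj (pt B)) = 0 := by
  let iA : Algebra B B' := f.hom.toRingHom.toAlgebra
  let bc' : B' ⊗[(B : Type u)] G.obj (pt B) → G.obj (pt B') := fun z => (G.bc f).hom z
  have hinj : Function.Injective bc' := hf
  refine hinj ?_
  refine ((bc_tmul G f 1 d).trans ?_).trans (G.bc f).hom.map_zero.symm
  rw [hd, smul_zero]

theorem exists_pow_smul_eq_zero (G : MVF A) {B : Alg A} (s : B)
    (hG : IsIso (G.bc (toLocAway B s))) (d : G.obj (pt B)) (hd : tr G (toLocAway B s) d = 0) :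
    ∃ n : ℕ, s ^ n • d = 0 := by
  let L := Localization.Away s
  have hbij := (ConcreteCategory.isIso_iff_bijective (G.bc (toLocAway B s))).mp hG
  have key : ((1 : L) ⊗ₜ[(B : Type u)] d : L ⊗[(B : Type u)] G.obj (pt B)) = 0 := by
    have h0 := eq_zero_of_bc G (toLocAway B s) hbij.1 d hd
    have halg : (toLocAway B s).hom.toRingHom.toAlgebra =
        (inferInstance : Algebra (B : Type u) L) :=
      Algebra.algebra_ext _ _ fun _ => rfl
    rw [halg] at h0
    exact h0
  obtain ⟨⟨_, n, rfl⟩, hn⟩ := (IsLocalizedModule.eq_zero_iff (Submonoid.powers s)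
    (TensorProduct.mk (B : Type u) L (G.obj (pt B)) 1)).mp key
  exact ⟨n, hn⟩

/-- An additive natural map commuting with units is linear. -/
theorem smul_of_unit_smul (F G : MVF A) (φ : ∀ B : Alg A, F.obj (pt B) → G.obj (pt B))
    (hnat : ∀ ⦃B B' : Alg A⦄ (f : B ⟶ B') (x : F.obj (pt B)),
      φ B' (tr F f x) = tr G f (φ B x))
    (hadd : ∀ (B : Alg A) (x y : F.obj (pt B)), φ B (x + y) = φ B x + φ B y)
    (hunit : ∀ (B : Alg A) (v : (B : Type u)ˣ) (x : F.obj (pt B)),
      φ B ((v : B) • x) = (v : B) • φ B x)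
    (hG : ∀ ⦃B B' : Alg A⦄ (f : B ⟶ B'), f.hom.toRingHom.Flat → IsIso (G.bc f))
    (B : Alg A) (b : B) (x : F.obj (pt B)) : φ B (b • x) = b • φ B x := by
  have hloc : ∀ (s : B) (y : F.obj (pt B)),
      ∃ n : ℕ, s ^ n • (φ B (s • y) - s • φ B y) = 0 := by
    intro s y
    refine exists_pow_smul_eq_zero G s (hG _ (toLocAway_flat B s)) _ ?_
    obtain ⟨v, hv⟩ : IsUnit ((toLocAway B s).hom s) :=
      IsLocalization.Away.algebraMap_isUnit s
    rw [map_sub, sub_eq_zero, ← hnat, tr_smul, tr_smul, ← hnat, ← hv, hunit]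
  let d := φ B (b • x) - b • φ B x
  have hd' : φ B ((1 + b) • x) - (1 + b) • φ B x = d := by
    rw [add_smul, one_smul, hadd, add_smul, one_smul]
    exact add_sub_add_left_eq_sub _ _ _
  obtain ⟨n, hn⟩ := hloc b x
  obtain ⟨m, hm⟩ := hloc (1 + b) x
  rw [hd'] at hm
  have hco : IsCoprime (b ^ n) ((1 + b) ^ m) :=
    IsCoprime.pow ⟨-1, 1, by ring⟩
  obtain ⟨p, q, hpq⟩ := hco
  refine sub_eq_zero.mp ?_
  show d = 0
  calc d = (p * b ^ n + q * (1 + b) ^ m) • d := by rw [hpq, one_smul]
    _ = 0 := by rw [add_smul, mul_smul, mul_smul, hm, show b ^ n • d = 0 from hn, smul_zero,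
      smul_zero, add_zero]

end

end Groth.Agent.AdeqLib
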