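import Groth.Agent.AdeqLib.Acyclic
import Groth.Agent.AdeqLib.Parasitic
import Groth.Agent.EtZarCmp.Cohom

/-!
# Zariski cohomology of adequate modules
-/

set_option autoImplicit false
set_option linter.all false
set_option backward.isDefEq.respectTransparency false
set_option backward.isDefEq.respectTransparency.types false
set_option backward.defeqAttrib.useBackward true
set_option synthInstance.maxHeartbeats 400000

universe u

open CategoryTheory Limits CategoryTheory.Abelian Opposite AlgebraicGeometry TopologicalSpace
open Groth.Agent.SiteCoh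

namespace Groth.Agent.AdeqLib.ZarComp

open Adeq

noncomputable section

variable (K : Precoverage Scheme.{u}) (S : Scheme.{u})

/-- A morphism into an open. -/
def homTo {W : Over S} (U : S.Opens) (h : Set.range W.hom ⊆ Set.range U.ι) :
    W ⟶ (BigSite.zarIncl S).obj U :=
  Over.homMk (IsOpenImmersion.lift U.ι W.hom h) (IsOpenImmersion.lift_fac _ _ h)

theorem hom_zar_ext {W : Over S} {U : S.Opens} (f g : W ⟶ (BigSite.zarIncl S).obj U) : f = g :=
  Over.OverMorphism.ext ((cancel_mono U.ι).1 ((Over.w f).trans (Over.w g).symm))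

theorem range_subset_of_hom {W : Over S} {U : S.Opens} (f : W ⟶ (BigSite.zarIncl S).obj U) :
    Set.range W.hom ⊆ Set.range U.ι := by
  have e : f.left ≫ U.ι = W.hom := Over.w f
  rintro _ ⟨x, rfl⟩
  exact ⟨f.left x, congrArg (fun m => m x) e⟩

instance representablyFlat_zarIncl : RepresentablyFlat (BigSite.zarIncl S) := by
  refine ⟨fun W => ?_⟩
  haveI : Nonempty (StructuredArrow W (BigSite.zarIncl S)) :=
    ⟨StructuredArrow.mk (homTo S ⊤ (by simp))⟩
  haveI : IsCofilteredOrEmpty (StructuredArrow W (BigSite.zarIncl S)) :=
    { cone_objs := fun a b => by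
        have h : Set.range W.hom ⊆ Set.range (a.right ⊓ b.right : S.Opens).ι := by
          have ha := range_subset_of_hom S a.hom
          have hb := range_subset_of_hom S b.hom
          rw [Scheme.Opens.range_ι] at ha hb ⊢
          exact fun x hx => ⟨ha hx, hb hx⟩
        exact ⟨StructuredArrow.mk (homTo S _ h),
          StructuredArrow.homMk (homOfLE inf_le_left) (hom_zar_ext S _ _),
          StructuredArrow.homMk (homOfLE inf_le_right) (hom_zar_ext S _ _), trivial⟩
      cone_maps := fun a b f g => ⟨a, 𝟙 _, by
        congr 1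
        exact StructuredArrow.ext _ _ (Subsingleton.elim _ _)⟩ }
  exact { }

/-- The whole space is final. -/
def isTerminalTop : IsTerminal ((BigSite.zarIncl S).obj ⊤) :=
  IsTerminal.ofUniqueHom (fun W => homTo S ⊤ (by simp)) (fun W m => hom_zar_ext S _ _)

variable [BigSite.ZarCont K S]

instance preservesFiniteLimits_piZarPull : PreservesFiniteLimits (BigSite.piZarPull K S) := by
  haveI : AB5OfSize.{u, u} AddCommGrpCat.{u + 1} := AB5OfSize_of_univLE AddCommGrpCat.{u + 1}
  haveI := EtZarCmp.lan_preservesFiniteLimits AddCommGrpCat.{u + 1} (BigSite.zarIncl S)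
  exact Functor.sheafPullbackConstruction.preservesFiniteLimits (BigSite.zarIncl S)
    AddCommGrpCat.{u + 1} (Opens.grothendieckTopology S) (QuotSh.J K S)

instance preservesFiniteColimits_piZarPull : PreservesFiniteColimits (BigSite.piZarPull K S) := by
  haveI := (BigSite.piZarAdj K S).leftAdjoint_preservesColimits
  infer_instance

instance additive_piZarPull : (BigSite.piZarPull K S).Additive := by
  haveI : PreservesBinaryBiproducts (BigSite.piZarPull K S) :=
    preservesBinaryBiproducts_of_preservesBinaryCoproducts _
  exact Functor.additive_of_preservesBinaryBiproducts _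

instance preservesFiniteLimits_resZar : PreservesFiniteLimits (BigSite.resZar K S) := by
  haveI : PreservesLimitsOfSize.{0, 0} (BigSite.resZar K S) :=
    (BigSite.piZarAdj K S).rightAdjoint_preservesLimits
  exact PreservesLimitsOfSize.preservesFiniteLimits (BigSite.resZar K S)

/-- The Zariski constant sheaf pulls back to the constant sheaf. -/
def pullConstIso (M : AddCommGrpCat.{u + 1}) :
    (BigSite.piZarPull K S).obj
        ((constantSheaf (Opens.grothendieckTopology S) AddCommGrpCat.{u + 1}).obj M) ≅
      (constantSheaf (QuotSh.J K S) AddCommGrpCat.{u + 1}).obj M :=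
  ((((constantSheafAdj (Opens.grothendieckTopology S) AddCommGrpCat.{u + 1}
        (IsTerminal.ofUniqueHom (Y := (⊤ : S.Opens)) (fun U => homOfLE le_top)
          (fun _ _ => Subsingleton.elim _ _))).comp (BigSite.piZarAdj K S)).ofNatIsoRight
      (show BigSite.resZar K S ⋙
            (sheafSections (Opens.grothendieckTopology S) AddCommGrpCat.{u + 1}).obj (op (⊤ : S.Opens)) ≅
          (sheafSections (QuotSh.J K S) AddCommGrpCat.{u + 1}).obj
            (op ((BigSite.zarIncl S).obj ⊤)) from
        NatIso.ofComponents (fun K => Iso.refl _) (fun f => by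
          dsimp
          simp only [Category.comp_id, Category.id_comp]))).leftAdjointUniq
    (constantSheafAdj (QuotSh.J K S) AddCommGrpCat.{u + 1} (isTerminalTop S))).app M

variable [BigSite.OSh K] [HasAffRef K] [K.IsStableUnderBaseChange]
  [∀ U : Over S, HasFiniteProducts (Over U)]

variable {K S}

theorem epi_resZar {F G : BigSite.Ab K S} (g : F ⟶ G)
    (hg : ∀ U : Over S, IsAffine U.left → Function.Surjective (g.hom.app (op U))) :
    Epi ((BigSite.resZar K S).map g) := by
  haveI : Sheaf.IsLocallySurjective ((BigSite.resZar K S).map g) := by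
    refine ⟨fun {U} x s hs => ?_⟩
    obtain ⟨W, hW, hsW, hWU⟩ :=
      exists_isAffineOpen_mem_and_subset (X := S) (x := s) (U := (U : S.Opens)) hs
    exact ⟨W, homOfLE hWU, hg ((BigSite.zarIncl S).obj W) hW _, hsW⟩
  exact Sheaf.epi_of_isLocallySurjective _

theorem isZero_rightDerived_resZar {F : BigSite.Ab K S}
    (hF : (affBasis K S).Acyclic F) (q : ℕ) :
    IsZero (((BigSite.resZar K S).rightDerived (q + 1)).obj F) := by
  refine EtCmp.isZero_rightDerived_of_class (BigSite.resZar K S) (affBasis K S).Acyclic
    (fun A hA => ?_) q F hF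
  haveI : Injective (injEmbed A).X₂ := inferInstanceAs (Injective (Injective.under A))
  refine ⟨injEmbed A, injEmbed_shortExact A, ⟨Iso.refl _⟩, fun n hn => ?_,
    epi_resZar _ fun U hU => (affBasis K S).surjective_sections (injEmbed_shortExact A) hA hU,
    (affBasis K S).acyclic_X₃ (injEmbed_shortExact A) hA ((affBasis K S).acyclic_of_injective _)⟩
  obtain ⟨k, rfl⟩ : ∃ k, n = k + 1 := ⟨n - 1, by omega⟩
  exact Functor.isZero_rightDerived_obj_injective_succ _ k _

/-- Cohomology of an adequate module is computed on the small Zariski site. -/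
theorem nonempty_H_iso (M : BigSite.Mod K S) (hM : adequateMod K S M) (q : ℕ) :
    Nonempty (EtZar.H ((BigSite.resZar K S).obj ((BigSite.toAbMod K S).obj M)) q ≃+
      BigSite.HMod K S M q) := by
  let c := (constantSheaf (Opens.grothendieckTopology S) AddCommGrpCat.{u + 1}).obj
    (AddCommGrpCat.of (ULift.{u + 1} ℤ))
  have h := EtCmp.bijective_adjExtHom (BigSite.piZarAdj K S) c q ((BigSite.toAbMod K S).obj M)
    (fun p hp => by
      obtain ⟨k, rfl⟩ : ∃ k, p = k + 1 := ⟨p - 1, by omega⟩
      exact isZero_rightDerived_resZar (affBasis_acyclic hM) k)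
  exact ⟨(AddEquiv.ofBijective _ h).trans (EtZarCmp.extIsoLeft (pullConstIso K S _) q)⟩

end

end Groth.Agent.AdeqLib.ZarComp
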